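import Cfsg.Agent.Lib.Coprime.Conjugacy
import Mathlib.GroupTheory.Frattini

/-!
# Coprime action, in ambient form

Throughout, `A` and `G` are subgroups of a finite group `X` with `A ≤ N(G)`, `(|A|, |G|) = 1` and
`A` or `G` solvable.
-/

set_option autoImplicit false

namespace Cfsg.Lib.Coprime

open scoped Pointwise commutatorElement

universe u

variable {X : Type u} [Group X] {A G : Subgroup X}

theorem commutator_le_of_le_normalizer (hAG : A ≤ Subgroup.normalizer (G : Set X)) : ⁅G, A⁆ ≤ G :=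
  Subgroup.le_normalizer_iff_commutator_le_left.mp hAG

theorem isSolvable_of_le {H : Subgroup X} (hHG : H ≤ G) (h : Group.IsSolvable G) :
    Group.IsSolvable H := by
  have := h
  exact Group.isSolvable_of_isSolvable_injective (f := Subgroup.inclusion hHG)
    (Subgroup.inclusion_injective hHG)

theorem coprime_of_le {H : Subgroup X} (hHG : H ≤ G) (hcop : (Nat.card A).Coprime (Nat.card G)) :
    (Nat.card A).Coprime (Nat.card H) :=
  hcop.coprime_dvd_right (Subgroup.card_dvd_of_le hHG)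

theorem sol_of_le {H : Subgroup X} (hHG : H ≤ G)
    (hsol : Group.IsSolvable A ∨ Group.IsSolvable G) : Group.IsSolvable A ∨ Group.IsSolvable H :=
  hsol.imp_right (isSolvable_of_le hHG)

theorem mem_centralizer_of_forall_commutatorElement_eq_one {x : X}
    (h : ∀ a ∈ A, ⁅x, a⁆ = 1) : x ∈ Subgroup.centralizer (A : Set X) :=
  Subgroup.mem_centralizer_iff.mpr fun a ha =>
    (commutatorElement_eq_one_iff_mul_comm.mp (h a ha)).symm

/-- If `x ∈ G` is centralized by `A` modulo an `A`-invariant subgroup `N` of `G`, then it lies in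
`N C_G(A)`. -/
theorem exists_mul_centralizer_of_commutator_mem [Finite X]
    (hAG : A ≤ Subgroup.normalizer (G : Set X)) (hcop : (Nat.card A).Coprime (Nat.card G))
    (hsol : Group.IsSolvable A ∨ Group.IsSolvable G) {N : Subgroup X} (hNG : N ≤ G)
    (hAN : A ≤ Subgroup.normalizer (N : Set X)) {x : X} (hx : x ∈ G)
    (h : ∀ a ∈ A, ⁅x, a⁆ ∈ N) :
    ∃ n ∈ N, ∃ c ∈ G ⊓ Subgroup.centralizer (A : Set X), x = n * c := by
  have hB : A.map (MulAut.conj x).toMonoidHom ≤ N ⊔ A := by
    rintro _ ⟨a, ha, rfl⟩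
    have he : x * a * x⁻¹ = ⁅x, a⁆ * a := by simp [commutatorElement_def, mul_assoc]
    simp only [MulEquiv.coe_toMonoidHom, MulAut.conj_apply, he]
    exact Subgroup.mul_mem_sup (h a ha) ha
  obtain ⟨n, hn, hBn⟩ := exists_conj_of_coprime N A _ hAN (coprime_of_le hNG hcop)
    (sol_of_le hNG hsol) hB (card_map_conj _ _)
  refine ⟨n, hn, n⁻¹ * x, Subgroup.mem_inf.mpr ⟨mul_mem (inv_mem (hNG hn)) hx, ?_⟩, by simp⟩
  have hy : n⁻¹ * x ∈ G := mul_mem (inv_mem (hNG hn)) hx
  apply mem_centralizer_of_forall_commutatorElement_eq_one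
  intro a ha
  have hd : Disjoint A G := disjoint_of_coprime_card hcop
  refine Subgroup.disjoint_def.mp hd ?_ ?_
  · rw [commutatorElement_def]
    refine mul_mem ?_ (inv_mem ha)
    have h1 : x * a * x⁻¹ ∈ A.map (MulAut.conj n).toMonoidHom := by
      rw [← hBn]; exact ⟨a, ha, rfl⟩
    rw [mem_map_conj_iff] at h1
    simpa [mul_assoc] using h1
  · exact commutator_le_of_le_normalizer hAG (Subgroup.commutator_mem_commutator hy ha)

/-- Centralizers and quotients: `C_{f(G)}(f(A)) = f(C_G(A))`. -/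
theorem map_inf_centralizer_eq [Finite X] {Y : Type*} [Group Y] (f : X →* Y)
    (hAG : A ≤ Subgroup.normalizer (G : Set X)) (hcop : (Nat.card A).Coprime (Nat.card G))
    (hsol : Group.IsSolvable A ∨ Group.IsSolvable G) :
    (G ⊓ Subgroup.centralizer (A : Set X)).map f =
      G.map f ⊓ Subgroup.centralizer ((A.map f : Subgroup Y) : Set Y) := by
  apply le_antisymm
  · refine le_inf (Subgroup.map_mono inf_le_left) ((Subgroup.map_mono inf_le_right).trans ?_)
    exact Subgroup.map_centralizer_le_centralizer_image _ _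
  · rintro y ⟨⟨x, hx, rfl⟩, hy⟩
    have hN : A ≤ Subgroup.normalizer ((G ⊓ f.ker : Subgroup X) : Set X) :=
      (le_inf hAG Subgroup.le_normalizer_of_normal).trans
        Subgroup.inf_normalizer_le_normalizer_inf
    have hcomm : ∀ a ∈ A, ⁅x, a⁆ ∈ G ⊓ f.ker := by
      intro a ha
      refine Subgroup.mem_inf.mpr
        ⟨commutator_le_of_le_normalizer hAG (Subgroup.commutator_mem_commutator hx ha), ?_⟩
      rw [MonoidHom.mem_ker, map_commutatorElement, commutatorElement_eq_one_iff_mul_comm]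
      exact (Subgroup.mem_centralizer_iff.mp hy (f a) ⟨a, ha, rfl⟩).symm
    obtain ⟨n, hn, c, hc, rfl⟩ :=
      exists_mul_centralizer_of_commutator_mem hAG hcop hsol inf_le_left hN hx hcomm
    exact ⟨c, hc, by simp [MonoidHom.mem_ker.mp hn.2]⟩

/-- Schur-Zassenhaus existence, in ambient form. -/
theorem exists_complement_of_coprime [Finite X] {N H : Subgroup X} (hNH : N ≤ H)
    (hHN : H ≤ Subgroup.normalizer (N : Set X))
    (hcop : (Nat.card N).Coprime (N.relIndex H)) :
    ∃ B : Subgroup X, B ≤ H ∧ Nat.card B = N.relIndex H ∧ N ⊔ B = H := by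
  have : (N.subgroupOf H).Normal := (Subgroup.normal_subgroupOf_iff_le_normalizer hNH).mpr hHN
  have hc : (Nat.card (N.subgroupOf H)).Coprime (N.subgroupOf H).index := by
    rw [Nat.card_congr (Subgroup.subgroupOfEquivOfLe hNH).toEquiv]
    exact hcop
  obtain ⟨B, hB⟩ := Subgroup.exists_right_complement'_of_coprime hc
  refine ⟨B.map H.subtype, Subgroup.map_subtype_le B, ?_, ?_⟩
  · rw [Subgroup.card_map_of_injective H.subtype_injective, ← hB.symm.index_eq_card]
    rfl
  · conv_lhs => arg 1; rw [← Subgroup.map_subgroupOf_eq_of_le hNH]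
    rw [← Subgroup.map_sup, hB.sup_eq_top, ← MonoidHom.range_eq_map, Subgroup.range_subtype]

/-- If `G` permutes transitively a set of subgroups stable under `A`, then one of them is
`A`-invariant. -/
theorem exists_conj_invariant [Finite X]
    (hAG : A ≤ Subgroup.normalizer (G : Set X)) (hcop : (Nat.card A).Coprime (Nat.card G))
    (hsol : Group.IsSolvable A ∨ Group.IsSolvable G) (S : Subgroup X)
    (h : ∀ a ∈ A, ∃ g ∈ G, S.map (MulAut.conj a).toMonoidHom = S.map (MulAut.conj g).toMonoidHom) :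
    ∃ g ∈ G, A ≤ Subgroup.normalizer ((S.map (MulAut.conj g).toMonoidHom : Subgroup X) : Set X) := by
  let H : Subgroup X := (G ⊔ A) ⊓ Subgroup.normalizer (S : Set X)
  have hd : Disjoint G A := (disjoint_of_coprime_card hcop).symm
  have hproj : ∀ a ∈ A, ∃ g ∈ G, g * a ∈ H := by
    intro a ha
    obtain ⟨g, hg, hS⟩ := h a ha
    refine ⟨g⁻¹, inv_mem hg, Subgroup.mem_inf.mpr ⟨Subgroup.mul_mem_sup (inv_mem hg) ha, ?_⟩⟩
    rw [Subgroup.mem_normalizer_iff_map_conj_eq]
    change S.map (MulAut.conj (g⁻¹ * a)).toMonoidHom = S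
    rw [← map_conj_conj, hS, map_conj_conj, inv_mul_cancel, map_conj_one]
  have hcard := card_eq_of_proj_surjective hAG hd inf_le_left hproj
  have hHG : H ≤ Subgroup.normalizer ((G ⊓ H : Subgroup X) : Set X) :=
    (le_inf (inf_le_left.trans (sup_le Subgroup.le_normalizer hAG)) Subgroup.le_normalizer).trans
      Subgroup.inf_normalizer_le_normalizer_inf
  have hrel : (G ⊓ H).relIndex H = Nat.card A := by
    have h1 := Subgroup.index_mul_card ((G ⊓ H).subgroupOf H)
    rw [Nat.card_congr (Subgroup.subgroupOfEquivOfLe (inf_le_right : G ⊓ H ≤ H)).toEquiv, hcard,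
      mul_comm] at h1
    exact Nat.eq_of_mul_eq_mul_left Nat.card_pos h1
  obtain ⟨B, hBH, hBcard, -⟩ := exists_complement_of_coprime inf_le_right hHG
    (by rw [hrel]; exact (coprime_of_le inf_le_left hcop).symm)
  obtain ⟨n, hn, hBn⟩ := exists_conj_of_coprime G A B hAG hcop hsol (hBH.trans inf_le_left)
    (hBcard.trans hrel)
  refine ⟨n⁻¹, inv_mem hn, fun a ha => ?_⟩
  rw [Subgroup.mem_normalizer_iff_map_conj_eq]
  change (S.map (MulAut.conj n⁻¹).toMonoidHom).map (MulAut.conj a).toMonoidHom = _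
  have hb : n * a * n⁻¹ ∈ Subgroup.normalizer (S : Set X) :=
    (hBH (hBn ▸ ⟨a, ha, rfl⟩ : n * a * n⁻¹ ∈ B)).2
  have hS := map_conj_eq_self hb
  calc (S.map (MulAut.conj n⁻¹).toMonoidHom).map (MulAut.conj a).toMonoidHom
      = (S.map (MulAut.conj (n * a * n⁻¹)).toMonoidHom).map (MulAut.conj n⁻¹).toMonoidHom := by
        rw [map_conj_conj, map_conj_conj]; congr 2; simp [mul_assoc]
    _ = S.map (MulAut.conj n⁻¹).toMonoidHom := by rw [hS]

/-- Two `A`-invariant `G`-conjugate subgroups are conjugate under `C_G(A)`. -/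
theorem exists_centralizer_conj [Finite X]
    (hAG : A ≤ Subgroup.normalizer (G : Set X)) (hcop : (Nat.card A).Coprime (Nat.card G))
    (hsol : Group.IsSolvable A ∨ Group.IsSolvable G) {S T : Subgroup X}
    (hS : A ≤ Subgroup.normalizer (S : Set X)) (hT : A ≤ Subgroup.normalizer (T : Set X))
    {g : X} (hg : g ∈ G) (hST : T = S.map (MulAut.conj g).toMonoidHom) :
    ∃ c ∈ G ⊓ Subgroup.centralizer (A : Set X), T = S.map (MulAut.conj c).toMonoidHom := by
  let N : Subgroup X := G ⊓ Subgroup.normalizer (S : Set X)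
  have hN : A ≤ Subgroup.normalizer (N : Set X) :=
    (le_inf hAG (hS.trans Subgroup.le_normalizer)).trans Subgroup.inf_normalizer_le_normalizer_inf
  have hcomm : ∀ a ∈ A, ⁅g⁻¹, a⁆ ∈ N := by
    intro a ha
    refine Subgroup.mem_inf.mpr
      ⟨commutator_le_of_le_normalizer hAG (Subgroup.commutator_mem_commutator (inv_mem hg) ha), ?_⟩
    rw [Subgroup.mem_normalizer_iff_map_conj_eq]
    change S.map (MulAut.conj ⁅g⁻¹, a⁆).toMonoidHom = S
    rw [commutatorElement_def, inv_inv, ← map_conj_conj,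
      map_conj_eq_self (inv_mem (hS ha)), ← map_conj_conj, ← hST, ← map_conj_conj,
      map_conj_eq_self (hT ha), hST, map_conj_conj, inv_mul_cancel, map_conj_one]
  obtain ⟨n, hn, c, hc, h⟩ :=
    exists_mul_centralizer_of_commutator_mem hAG hcop hsol inf_le_left hN (inv_mem hg) hcomm
  refine ⟨c⁻¹, inv_mem hc, ?_⟩
  have hg' : g = c⁻¹ * n⁻¹ := by rw [← mul_inv_rev, ← h, inv_inv]
  rw [hST, hg', ← map_conj_conj, map_conj_eq_self (inv_mem hn.2)]

theorem exists_sylow_conj [Finite X] {p : ℕ} [Fact p.Prime] (P Q : Sylow p G) :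
    ∃ g ∈ G, (Q : Subgroup G).map G.subtype =
      ((P : Subgroup G).map G.subtype).map (MulAut.conj g).toMonoidHom := by
  obtain ⟨g, rfl⟩ := MulAction.exists_smul_eq G P Q
  refine ⟨g, g.2, ?_⟩
  rw [Sylow.coe_subgroup_smul, Subgroup.map_map]
  change ((P : Subgroup G).map (MulAut.conj g).toMonoidHom).map G.subtype = _
  rw [Subgroup.map_map]
  rfl

/-- The image of a Sylow subgroup of `G` under conjugation by a normalizing element. -/
theorem exists_sylow_eq_conj [Finite X] {p : ℕ} [Fact p.Prime] (P : Sylow p G) {a : X}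
    (ha : a ∈ Subgroup.normalizer (G : Set X)) :
    ∃ Q : Sylow p G, (Q : Subgroup G).map G.subtype =
      ((P : Subgroup G).map G.subtype).map (MulAut.conj a).toMonoidHom := by
  have hle : ((P : Subgroup G).map G.subtype).map (MulAut.conj a).toMonoidHom ≤ G := by
    refine (Subgroup.map_mono (Subgroup.map_subtype_le _)).trans ?_
    rw [map_conj_eq_self ha]
  refine ⟨Sylow.ofCard ((((P : Subgroup G).map G.subtype).map
    (MulAut.conj a).toMonoidHom).subgroupOf G) ?_, ?_⟩
  · rw [Nat.card_congr (Subgroup.subgroupOfEquivOfLe hle).toEquiv, card_map_conj,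
      Subgroup.card_map_of_injective G.subtype_injective]
    exact P.card_eq_multiplicity
  · rw [Sylow.coe_ofCard, Subgroup.map_subgroupOf_eq_of_le hle]

theorem exists_invariant_sylow [Finite X]
    (hAG : A ≤ Subgroup.normalizer (G : Set X)) (hcop : (Nat.card A).Coprime (Nat.card G))
    (hsol : Group.IsSolvable A ∨ Group.IsSolvable G) (p : ℕ) [Fact p.Prime] :
    ∃ P : Sylow p G,
      A ≤ Subgroup.normalizer (((P : Subgroup G).map G.subtype : Subgroup X) : Set X) := by
  obtain ⟨P⟩ : Nonempty (Sylow p G) := inferInstance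
  obtain ⟨g, hg, hP⟩ := exists_conj_invariant hAG hcop hsol ((P : Subgroup G).map G.subtype)
    (fun a ha => by
      obtain ⟨Q, hQ⟩ := exists_sylow_eq_conj P (hAG ha)
      obtain ⟨g, hg, h⟩ := exists_sylow_conj P Q
      exact ⟨g, hg, hQ ▸ h⟩)
  obtain ⟨Q, hQ⟩ := exists_sylow_eq_conj P (Subgroup.le_normalizer hg)
  exact ⟨Q, hQ ▸ hP⟩

theorem exists_centralizer_conj_sylow [Finite X]
    (hAG : A ≤ Subgroup.normalizer (G : Set X)) (hcop : (Nat.card A).Coprime (Nat.card G))
    (hsol : Group.IsSolvable A ∨ Group.IsSolvable G) {p : ℕ} [Fact p.Prime] (P Q : Sylow p G)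
    (hP : A ≤ Subgroup.normalizer (((P : Subgroup G).map G.subtype : Subgroup X) : Set X))
    (hQ : A ≤ Subgroup.normalizer (((Q : Subgroup G).map G.subtype : Subgroup X) : Set X)) :
    ∃ c ∈ G ⊓ Subgroup.centralizer (A : Set X), (Q : Subgroup G).map G.subtype =
      ((P : Subgroup G).map G.subtype).map (MulAut.conj c).toMonoidHom := by
  obtain ⟨g, hg, h⟩ := exists_sylow_conj P Q
  exact exists_centralizer_conj hAG hcop hsol hP hQ hg h

/-- An `A`-invariant `p`-subgroup of `G` lies in an `A`-invariant Sylow `p`-subgroup. -/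
theorem exists_invariant_sylow_ge [Finite X]
    (hAG : A ≤ Subgroup.normalizer (G : Set X)) (hcop : (Nat.card A).Coprime (Nat.card G))
    (hsol : Group.IsSolvable A ∨ Group.IsSolvable G) {p : ℕ} [Fact p.Prime] {U : Subgroup X}
    (hUG : U ≤ G) (hU : IsPGroup p U) (hAU : A ≤ Subgroup.normalizer (U : Set X)) :
    ∃ P : Sylow p G, U ≤ (P : Subgroup G).map G.subtype ∧
      A ≤ Subgroup.normalizer (((P : Subgroup G).map G.subtype : Subgroup X) : Set X) := by
  obtain ⟨Q, hUQ, ⟨hQG, hQ, hAQ⟩, hQmax⟩ :=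
    (Set.toFinite {Q : Subgroup X | Q ≤ G ∧ IsPGroup p Q ∧
      A ≤ Subgroup.normalizer (Q : Set X)}).exists_le_maximal
      (a := U) ⟨hUG, hU, hAU⟩
  let N : Subgroup X := G ⊓ Subgroup.normalizer (Q : Set X)
  have hN : A ≤ Subgroup.normalizer (N : Set X) :=
    (le_inf hAG (hAQ.trans Subgroup.le_normalizer)).trans
      Subgroup.inf_normalizer_le_normalizer_inf
  obtain ⟨R, hR⟩ := exists_invariant_sylow hN (coprime_of_le inf_le_left hcop)
    (sol_of_le inf_le_left hsol) p
  have hQN : Q ≤ N := le_inf hQG Subgroup.le_normalizer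
  have : (Q.subgroupOf N).Normal :=
    (Subgroup.normal_subgroupOf_iff_le_normalizer hQN).mpr inf_le_right
  have hQR : Q ≤ (R : Subgroup N).map N.subtype := by
    intro x hx
    exact ⟨⟨x, hQN hx⟩, IsPGroup.le_sylow_of_normal (N := Q.subgroupOf N) hQ.comap_subtype R hx, rfl⟩
  have hQeq : (R : Subgroup N).map N.subtype = Q :=
    le_antisymm (hQmax ⟨(Subgroup.map_subtype_le _).trans inf_le_left, R.2.map _, hR⟩ hQR) hQR
  -- a Sylow subgroup `P` of `G` above `Q` equals `Q`
  obtain ⟨P, hP⟩ := IsPGroup.exists_le_sylow (P := Q.subgroupOf G) hQ.comap_subtype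
  refine ⟨P, ?_⟩
  suffices hPQ : (P : Subgroup G) = Q.subgroupOf G by
    rw [hPQ, Subgroup.map_subgroupOf_eq_of_le hQG]; exact ⟨hUQ, hAQ⟩
  by_contra hne
  have : Fintype G := Fintype.ofFinite G
  let Q₁ : Subgroup (P : Subgroup G) := (Q.subgroupOf G).subgroupOf P
  have : Group.IsNilpotent (P : Subgroup G) := P.2.isNilpotent
  have hQ1top : Q₁ < ⊤ := by
    refine lt_top_iff_ne_top.mpr fun h => hne (le_antisymm ?_ hP)
    exact Subgroup.subgroupOf_eq_top.mp h
  obtain ⟨w, hwn, hw⟩ := Set.exists_of_ssubset (Group.normalizerCondition_of_isNilpotent Q₁ hQ1top)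
  -- `w` normalizes `Q`, and `⟨Q, w⟩` is a `p`-subgroup of `N_G(Q)`, hence inside `Q`
  let x : X := ((w : G) : X)
  have hxQ : x ∈ Subgroup.normalizer (Q : Set X) := by
    have h1 : Q₁.map (G.subtype.comp (P : Subgroup G).subtype) = Q := by
      rw [← Subgroup.map_map]
      simp only [Q₁]
      rw [Subgroup.map_subgroupOf_eq_of_le (hP : Q.subgroupOf G ≤ (P : Subgroup G)),
        Subgroup.map_subgroupOf_eq_of_le hQG]
    rw [← h1]
    exact Subgroup.le_normalizer_map _ (Subgroup.mem_map_of_mem _ hwn)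
  have hxN : x ∈ N := Subgroup.mem_inf.mpr ⟨(w : G).2, hxQ⟩
  -- the `p`-subgroup `S` of `N` generated by `Q` and `x`
  let S : Subgroup X := Q ⊔ Subgroup.zpowers x
  have hSN : S ≤ N := sup_le hQN (Subgroup.zpowers_le.mpr hxN)
  have hSP : S ≤ (P : Subgroup G).map G.subtype :=
    sup_le (by intro y hy; exact ⟨⟨y, hQG hy⟩, hP hy, rfl⟩)
      (Subgroup.zpowers_le.mpr ⟨(w : G), w.2, rfl⟩)
  have hS : IsPGroup p S := (P.2.map _).to_le hSP
  have hRle : (R : Subgroup N) ≤ S.subgroupOf N := fun y hy =>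
    (le_sup_left : Q ≤ S) (hQeq ▸ ⟨y, hy, rfl⟩)
  have hSR : S.subgroupOf N = R := R.is_maximal' hS.comap_subtype hRle
  have : x ∈ Q := by
    rw [← hQeq]
    refine ⟨⟨x, hxN⟩, hSR ▸ ?_, rfl⟩
    exact (le_sup_right : Subgroup.zpowers x ≤ S) (Subgroup.mem_zpowers x)
  exact hw this

theorem le_commutator_sup_centralizer [Finite X]
    (hAG : A ≤ Subgroup.normalizer (G : Set X)) (hcop : (Nat.card A).Coprime (Nat.card G))
    (hsol : Group.IsSolvable A ∨ Group.IsSolvable G) {x : X} (hx : x ∈ G) :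
    ∃ n ∈ ⁅G, A⁆, ∃ c ∈ G ⊓ Subgroup.centralizer (A : Set X), x = n * c :=
  exists_mul_centralizer_of_commutator_mem hAG hcop hsol (commutator_le_of_le_normalizer hAG)
    (Subgroup.normalizer_commutator_ge_right G A) hx fun _ ha =>
      Subgroup.commutator_mem_commutator hx ha

theorem commutator_sup_centralizer_eq [Finite X]
    (hAG : A ≤ Subgroup.normalizer (G : Set X)) (hcop : (Nat.card A).Coprime (Nat.card G))
    (hsol : Group.IsSolvable A ∨ Group.IsSolvable G) :
    ⁅G, A⁆ ⊔ (G ⊓ Subgroup.centralizer (A : Set X)) = G := by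
  refine le_antisymm (sup_le (commutator_le_of_le_normalizer hAG) inf_le_left) fun x hx => ?_
  obtain ⟨n, hn, c, hc, rfl⟩ := le_commutator_sup_centralizer hAG hcop hsol hx
  exact Subgroup.mul_mem_sup hn hc

theorem commutator_commutator_eq [Finite X]
    (hAG : A ≤ Subgroup.normalizer (G : Set X)) (hcop : (Nat.card A).Coprime (Nat.card G))
    (hsol : Group.IsSolvable A ∨ Group.IsSolvable G) : ⁅⁅G, A⁆, A⁆ = ⁅G, A⁆ := by
  refine le_antisymm (Subgroup.commutator_mono (commutator_le_of_le_normalizer hAG) le_rfl) ?_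
  rw [Subgroup.commutator_le]
  intro x hx a ha
  obtain ⟨n, hn, c, hc, rfl⟩ := le_commutator_sup_centralizer hAG hcop hsol hx
  have hca : ⁅c, a⁆ = 1 := commutatorElement_eq_one_iff_mul_comm.mpr
    (Subgroup.mem_centralizer_iff.mp hc.2 a ha).symm
  have h : ⁅n * c, a⁆ = ⁅n, a⁆ := by
    have : c * a * c⁻¹ = a := by
      rwa [commutatorElement_def, mul_inv_eq_one] at hca
    simp only [commutatorElement_def, mul_inv_rev]
    calc n * c * a * (c⁻¹ * n⁻¹) * a⁻¹ = n * (c * a * c⁻¹) * n⁻¹ * a⁻¹ := by simp [mul_assoc]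
      _ = n * a * n⁻¹ * a⁻¹ := by rw [this]
  rw [h]
  exact Subgroup.commutator_mem_commutator hn ha

theorem commutator_eq_bot_of_commutator_commutator_eq_bot [Finite X]
    (hAG : A ≤ Subgroup.normalizer (G : Set X)) (hcop : (Nat.card A).Coprime (Nat.card G))
    (hsol : Group.IsSolvable A ∨ Group.IsSolvable G) (h : ⁅⁅G, A⁆, A⁆ = ⊥) : ⁅G, A⁆ = ⊥ :=
  (commutator_commutator_eq hAG hcop hsol).symm.trans h

/-- An operator group centralizing `G / N` and `N` centralizes `G`. -/
theorem commutator_eq_bot_of_stabilizes [Finite X]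
    (hAG : A ≤ Subgroup.normalizer (G : Set X)) (hcop : (Nat.card A).Coprime (Nat.card G))
    (hsol : Group.IsSolvable A ∨ Group.IsSolvable G) {N : Subgroup X} (h1 : ⁅G, A⁆ ≤ N)
    (h2 : ⁅N, A⁆ = ⊥) : ⁅G, A⁆ = ⊥ :=
  commutator_eq_bot_of_commutator_commutator_eq_bot hAG hcop hsol
    (eq_bot_iff.mpr ((Subgroup.commutator_mono h1 le_rfl).trans h2.le))

/-- For abelian `G`, `[G,A] ∩ C_G(A) = 1`. -/
theorem disjoint_commutator_centralizer [Finite X] [IsMulCommutative G]
    (hAG : A ≤ Subgroup.normalizer (G : Set X)) (hcop : (Nat.card A).Coprime (Nat.card G)) :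
    Disjoint ⁅G, A⁆ (Subgroup.centralizer (A : Set X)) := by
  classical
  open scoped IsMulCommutative in
  have := Fintype.ofFinite A
  open scoped IsMulCommutative in
  let θ : G →* G :=
    { toFun := fun g => ∏ a : A, conjHom hAG a g
      map_one' := by simp
      map_mul' := fun g g' => by simp [Finset.prod_mul_distrib] }
  have hθ : ∀ (a : A) (g : G), θ (conjHom hAG a g) = θ g := by
    intro a g
    refine Fintype.prod_equiv (Equiv.mulRight a) _ _ fun b => Subtype.ext ?_
    simp [conjHom_apply, mul_assoc]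
  have hle : ⁅G, A⁆ ≤ θ.ker.map G.subtype := by
    rw [Subgroup.commutator_le]
    intro g hg a ha
    refine ⟨⟨g, hg⟩ * (conjHom hAG ⟨a, ha⟩ ⟨g, hg⟩)⁻¹, ?_, ?_⟩
    · simp [MonoidHom.mem_ker, hθ]
    · simp [conjHom_apply, commutatorElement_def, mul_assoc]
  rw [Subgroup.disjoint_def]
  intro x hx hxc
  obtain ⟨y, hy, rfl⟩ := hle hx
  have hfix : ∀ a : A, conjHom hAG a y = y := fun a => Subtype.ext <| by
    rw [conjHom_apply, mul_inv_eq_iff_eq_mul]
    exact Subgroup.mem_centralizer_iff.mp hxc a a.2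
  have hpow : y ^ Nat.card A = 1 := by
    have h1 : θ y = 1 := hy
    rw [← h1]
    change y ^ Nat.card A = ∏ a : A, conjHom hAG a y
    rw [Finset.prod_congr rfl (fun a _ => hfix a), Finset.prod_const, Finset.card_univ,
      Nat.card_eq_fintype_card]
  have : y = 1 := (powCoprime hcop.symm).injective (hpow.trans (one_pow _).symm)
  simp [this]

theorem card_commutator_mul_card_centralizer [Finite X] [IsMulCommutative G]
    (hAG : A ≤ Subgroup.normalizer (G : Set X)) (hcop : (Nat.card A).Coprime (Nat.card G)) :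
    Nat.card ↥⁅G, A⁆ * Nat.card ↥(G ⊓ Subgroup.centralizer (A : Set X)) = Nat.card G := by
  have hsol : Group.IsSolvable A ∨ Group.IsSolvable G :=
    Or.inr (Group.isSolvable_of_comm fun a b => mul_comm' a b)
  have hnorm : G ⊓ Subgroup.centralizer (A : Set X) ≤
      Subgroup.normalizer ((⁅G, A⁆ : Subgroup X) : Set X) :=
    inf_le_left.trans (Subgroup.normalizer_commutator_ge_left G A)
  rw [← card_sup_of_disjoint hnorm
    ((disjoint_commutator_centralizer hAG hcop).mono_right inf_le_right),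
    commutator_sup_centralizer_eq hAG hcop hsol]

/-- An operator group centralizing `G / Φ(G)` centralizes `G`. -/
theorem le_centralizer_of_commutator_le_frattini [Finite X]
    (hAG : A ≤ Subgroup.normalizer (G : Set X)) (hcop : (Nat.card A).Coprime (Nat.card G))
    (hsol : Group.IsSolvable A ∨ Group.IsSolvable G)
    (h : ⁅G, A⁆ ≤ (frattini G).map G.subtype) : A ≤ Subgroup.centralizer (G : Set X) := by
  rw [Subgroup.le_centralizer_iff, ← Subgroup.subgroupOf_eq_top]
  refine frattini_nongenerating (eq_top_iff.mpr fun y _ => ?_)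
  obtain ⟨n, hn, c, hc, hy⟩ := le_commutator_sup_centralizer hAG hcop hsol y.2
  obtain ⟨m, hm, rfl⟩ := h hn
  have : y = m * ⟨c, hc.1⟩ := Subtype.ext hy
  rw [this]
  exact mul_mem (Subgroup.mem_sup_right hm) (Subgroup.mem_sup_left hc.2)

end Cfsg.Lib.Coprime
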