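import Cfsg.Agent.Lib.Coprime.Action
import Cfsg.Agent.Lib.PGroup.Basic

/-!
# Coprime action on p-groups: the A × B lemma
-/

set_option autoImplicit false

namespace Cfsg.Lib.Coprime

universe u

variable {X : Type u} [Group X]

theorem le_normalizer_commutator_of_commute {V P Q : Subgroup X}
    (hQV : Q ≤ Subgroup.normalizer (V : Set X)) (hPQ : Q ≤ Subgroup.centralizer (P : Set X)) :
    Q ≤ Subgroup.normalizer ((⁅V, P⁆ : Subgroup X) : Set X) := by
  intro x hx
  rw [Subgroup.mem_normalizer_iff_map_conj_eq, Subgroup.map_commutator]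
  have h1 := Subgroup.mem_normalizer_iff_map_conj_eq.mp (hQV hx)
  have h2 : P.map (MulAut.conj x : X →* X) = P := by
    refine map_conj_eq_self (Subgroup.centralizer_le_normalizer (P : Set X) (hPQ hx))
  rw [h1, h2]

/-- Thompson's `A × B` lemma. -/
theorem commutator_eq_bot_of_AxB [Finite X] {p : ℕ} [Fact p.Prime] :
    ∀ (V : Subgroup X) (P Q : Subgroup X), IsPGroup p V → IsPGroup p P → (Nat.card Q).Coprime p →
      P ≤ Subgroup.normalizer (V : Set X) → Q ≤ Subgroup.normalizer (V : Set X) →
      Q ≤ Subgroup.centralizer (P : Set X) →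
      V ⊓ Subgroup.centralizer (P : Set X) ≤ Subgroup.centralizer (Q : Set X) →
      ⁅V, Q⁆ = ⊥ := by
  intro V
  induction V using WellFoundedLT.induction with
  | ind V ih =>
    intro P Q hV hP hQ hPV hQV hQP hfix
    by_cases hne : V = ⊥
    · rw [hne]; exact Subgroup.commutator_bot_left Q
    have hlt := PGroup.commutator_lt_of_isPGroup hV hP hPV hne
    have hW : ⁅⁅V, P⁆, Q⁆ = ⊥ := ih _ hlt P Q (hV.to_le hlt.le) hP hQ
      (Subgroup.normalizer_commutator_ge_right V P) (le_normalizer_commutator_of_commute hQV hQP)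
      hQP ((inf_le_inf_right _ hlt.le).trans hfix)
    have hPQ0 : ⁅⁅P, Q⁆, V⁆ = ⊥ := by
      have : ⁅P, Q⁆ = ⊥ := by
        rw [Subgroup.commutator_eq_bot_iff_le_centralizer]
        exact Subgroup.le_centralizer_iff.mp hQP
      rw [this]; exact Subgroup.commutator_bot_left V
    have hQVP : ⁅⁅Q, V⁆, P⁆ = ⊥ := Subgroup.commutator_commutator_eq_bot_of_rotate hW hPQ0
    rw [Subgroup.commutator_comm Q V, Subgroup.commutator_eq_bot_iff_le_centralizer] at hQVP
    have h2 : ⁅⁅V, Q⁆, Q⁆ = ⊥ := by
      rw [Subgroup.commutator_eq_bot_iff_le_centralizer]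
      exact (le_inf (commutator_le_of_le_normalizer hQV) hQVP).trans hfix
    obtain ⟨n, hn⟩ := IsPGroup.iff_card.mp hV
    have hcop : (Nat.card Q).Coprime (Nat.card V) := by rw [hn]; exact hQ.pow_right n
    have : Group.IsNilpotent V := hV.isNilpotent
    exact commutator_eq_bot_of_commutator_commutator_eq_bot hQV hcop (Or.inr inferInstance) h2

end Cfsg.Lib.Coprime
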