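import Cfsg.Agent.Lib.Coprime.Action
import Mathlib.GroupTheory.SpecificGroups.Cyclic
import Mathlib.Algebra.Field.ZMod

/-!
# Generation by centralizers under coprime abelian action

`G` is generated by the `C_G(B)`, `B` running over the subgroups of the abelian operator group `A`
with cyclic quotient.
-/

set_option autoImplicit false

namespace Cfsg.Lib.Coprime

open scoped Pointwise commutatorElement

universe u v

/-- A finite abelian group is cyclic unless it has two independent elements of some prime order. -/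
theorem exists_two_independent_of_not_isCyclic {A : Type u} [CommGroup A] [Finite A]
    (h : ¬ IsCyclic A) :
    ∃ (q : ℕ) (a b : A), q.Prime ∧ a ≠ 1 ∧ a ^ q = 1 ∧ b ^ q = 1 ∧ b ∉ Subgroup.zpowers a := by
  classical
  have := Fintype.ofFinite A
  by_contra hne
  push Not at hne
  have hq : ∀ q : ℕ, q.Prime → Nat.card (powMonoidHom q : A →* A).ker ≤ q := by
    intro q hq
    by_cases hbot : (powMonoidHom q : A →* A).ker = ⊥
    · rw [hbot, Subgroup.card_bot]; exact hq.one_le
    obtain ⟨a, ha, ha1⟩ := (powMonoidHom q : A →* A).ker.bot_or_exists_ne_one.resolve_left hbot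
    have hsub : (powMonoidHom q : A →* A).ker ≤ Subgroup.zpowers a := fun b hb =>
      hne q a b hq ha1 ha hb
    have : Fact q.Prime := ⟨hq⟩
    calc Nat.card (powMonoidHom q : A →* A).ker ≤ Nat.card (Subgroup.zpowers a) :=
          Subgroup.card_le_of_le hsub
      _ = q := by rw [Nat.card_zpowers]; exact orderOf_eq_prime ha ha1
  have hall : ∀ n, 0 < n → Nat.card (powMonoidHom n : A →* A).ker ≤ n := by
    intro n
    induction n using Nat.strong_induction_on with
    | h n ih =>
      intro hn
      rcases Nat.eq_or_lt_of_le hn with hn1 | hn1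
      · subst hn1
        have : (powMonoidHom 1 : A →* A).ker = ⊥ := by ext; simp
        simp [this]
      obtain ⟨q, hqp, m, rfl⟩ := Nat.exists_prime_and_dvd (show n ≠ 1 by omega)
      have hm : 0 < m := Nat.pos_of_mul_pos_left hn
      let r : (powMonoidHom (q * m) : A →* A).ker →* (powMonoidHom m : A →* A).ker :=
        { toFun := fun x => ⟨(x : A) ^ q, by
            rw [MonoidHom.mem_ker, powMonoidHom_apply, ← pow_mul]
            exact x.2⟩
          map_one' := by ext; simp
          map_mul' := fun x y => by ext; simp [mul_pow] }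
      have hk : Nat.card r.ker ≤ q := by
        refine le_trans ?_ (hq q hqp)
        refine Nat.card_le_card_of_injective
          (fun x : r.ker => (⟨((x : (powMonoidHom (q * m) : A →* A).ker) : A), by
            exact congrArg Subtype.val x.2⟩ : (powMonoidHom q : A →* A).ker)) ?_
        intro x y hxy
        exact Subtype.ext (Subtype.ext (congrArg (fun z : (powMonoidHom q : A →* A).ker => (z : A)) hxy))
      calc Nat.card (powMonoidHom (q * m) : A →* A).ker
          = Nat.card r.ker * Nat.card r.range := by rw [← r.ker.card_mul_index, Subgroup.index_ker]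
        _ ≤ q * m := Nat.mul_le_mul hk ((Subgroup.card_le_card_group _).trans
              (ih m (lt_mul_left hm hqp.one_lt) hm))
  refine h (isCyclic_of_card_pow_eq_one_le fun n hn => ?_)
  refine le_trans (le_of_eq ?_) (hall n hn)
  rw [Nat.card_eq_fintype_card]
  exact (Fintype.card_of_subtype _ (fun x => by simp [MonoidHom.mem_ker])).symm

section Endo

variable {A : Type u} {V : Type v} [Group A] [CommGroup V]

/-- The fixed points of a subgroup `B` under an action by endomorphisms. -/
def fixedBy (φ : A →* Monoid.End V) (B : Subgroup A) : Subgroup V where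
  carrier := {v | ∀ b ∈ B, φ b v = v}
  mul_mem' {v w} hv hw b hb := by rw [map_mul, hv b hb, hw b hb]
  one_mem' b _ := map_one _
  inv_mem' {v} hv b hb := by rw [map_inv, hv b hb]

theorem map_mul_apply (φ : A →* Monoid.End V) (a b : A) (v : V) : φ (a * b) v = φ a (φ b v) := by
  rw [map_mul]; rfl

theorem mem_fixedBy (φ : A →* Monoid.End V) (B : Subgroup A) (v : V) :
    v ∈ fixedBy φ B ↔ ∀ b ∈ B, φ b v = v := Iff.rfl

end Endo

/-- Abelian case of the generation theorem, for an action by endomorphisms. -/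
theorem mem_iSup_fixedBy {A : Type u} {V : Type v} [CommGroup A] [Finite A] [CommGroup V]
    [Finite V] (φ : A →* Monoid.End V) (hcop : (Nat.card A).Coprime (Nat.card V))
    (K : Subgroup A) {v : V} (hv : v ∈ fixedBy φ K) :
    v ∈ ⨆ B ∈ {B : Subgroup A | ∃ a : A, B ⊔ Subgroup.zpowers a = ⊤}, fixedBy φ B := by
  induction K using WellFoundedGT.induction generalizing v with
  | ind K ih =>
    by_cases hK : ∃ a : A, K ⊔ Subgroup.zpowers a = ⊤
    · exact (le_iSup₂ (f := fun B (_ : B ∈ {B : Subgroup A | ∃ a : A, B ⊔ Subgroup.zpowers a = ⊤}) =>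
        fixedBy φ B) K hK) hv
    have hnc : ¬ IsCyclic (A ⧸ K) := by
      rintro ⟨g, hg⟩
      obtain ⟨a, rfl⟩ := QuotientGroup.mk_surjective g
      refine hK ⟨a, eq_top_iff.mpr fun x _ => ?_⟩
      obtain ⟨k, hk⟩ := hg (x : A ⧸ K)
      have : x * (a ^ k)⁻¹ ∈ K := by
        rw [← QuotientGroup.eq_one_iff, QuotientGroup.mk_mul, QuotientGroup.mk_inv,
          QuotientGroup.mk_zpow]
        exact mul_inv_eq_one.mpr hk.symm
      have h := Subgroup.mul_mem_sup this (Subgroup.zpow_mem_zpowers a k)
      simpa using h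
    obtain ⟨q, a', b', hq, ha1, haq, hbq, hba⟩ := exists_two_independent_of_not_isCyclic hnc
    obtain ⟨a, rfl⟩ := QuotientGroup.mk_surjective a'
    obtain ⟨b, rfl⟩ := QuotientGroup.mk_surjective b'
    rw [← QuotientGroup.mk_pow, QuotientGroup.eq_one_iff] at haq hbq
    rw [Ne, QuotientGroup.eq_one_iff] at ha1
    have hnotin : ∀ t : ℕ, b * a ^ t ∉ K := by
      intro t ht
      apply hba
      rw [← QuotientGroup.eq_one_iff, QuotientGroup.mk_mul, QuotientGroup.mk_pow,
        mul_eq_one_iff_eq_inv] at ht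
      rw [ht]
      exact inv_mem (pow_mem (Subgroup.mem_zpowers _) t)
    have hmain : ∀ c : A, c ∉ K → c ^ q ∈ K →
        (∏ j ∈ Finset.range q, φ (c ^ j) v) ∈
          ⨆ B ∈ {B : Subgroup A | ∃ a : A, B ⊔ Subgroup.zpowers a = ⊤}, fixedBy φ B := by
      intro c hc hcq
      refine ih (K ⊔ Subgroup.zpowers c) (lt_of_le_of_ne le_sup_left fun h =>
        hc (h ▸ (le_sup_right : Subgroup.zpowers c ≤ _) (Subgroup.mem_zpowers c))) ?_
      have hK' : ∀ k ∈ K, φ k (∏ j ∈ Finset.range q, φ (c ^ j) v) =
          ∏ j ∈ Finset.range q, φ (c ^ j) v := by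
        intro k hk
        rw [map_prod]
        refine Finset.prod_congr rfl fun j _ => ?_
        rw [← map_mul_apply, mul_comm, map_mul_apply, hv k hk]
      have hc' : φ c (∏ j ∈ Finset.range q, φ (c ^ j) v) =
          ∏ j ∈ Finset.range q, φ (c ^ j) v := by
        rw [map_prod]
        have h1 : ∀ j, φ c (φ (c ^ j) v) = φ (c ^ (j + 1)) v := fun j => by
          rw [← map_mul_apply, ← pow_succ']
        simp_rw [h1]
        obtain ⟨n, rfl⟩ := Nat.exists_eq_succ_of_ne_zero hq.ne_zero
        rw [Finset.prod_range_succ, Finset.prod_range_succ' (fun j => φ (c ^ j) v) n, hv _ hcq,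
          pow_zero, map_one]
        rfl
      intro x hx
      obtain ⟨k, hk, y, hy, rfl⟩ := Subgroup.mem_sup.mp hx
      obtain ⟨i, rfl⟩ := Subgroup.mem_zpowers_iff.mp hy
      rw [map_mul_apply]
      have hnat : ∀ n : ℕ, φ (c ^ n) (∏ j ∈ Finset.range q, φ (c ^ j) v) =
          ∏ j ∈ Finset.range q, φ (c ^ j) v := by
        intro n
        induction n with
        | zero => rw [pow_zero, map_one]; rfl
        | succ n ihn => rw [pow_succ, map_mul_apply, hc', ihn]
      have hfix : ∀ i : ℤ, φ (c ^ i) (∏ j ∈ Finset.range q, φ (c ^ j) v) =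
          ∏ j ∈ Finset.range q, φ (c ^ j) v := by
        intro i
        obtain ⟨n, hn⟩ : ∃ n : ℕ, c ^ n = c ^ i :=
          (isOfFinOrder_of_finite c).mem_powers_iff_mem_zpowers.mpr (Subgroup.zpow_mem_zpowers c i)
        rw [← hn]
        exact hnat n
      rw [hfix i, hK' k hk]
    classical
    have : Fact q.Prime := ⟨hq⟩
    -- the product identity
    let f : ℕ → ℕ → V := fun t j => φ ((b * a ^ t) ^ j) v
    have hper : ∀ n : ℕ, φ (a ^ n) v = φ (a ^ (n % q)) v := by
      intro n
      conv_lhs => rw [← Nat.mod_add_div n q, pow_add, pow_mul, map_mul_apply,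
        hv _ (pow_mem haq _)]
    have hsum : ∀ j, 0 < j → j < q →
        ∏ t ∈ Finset.range q, f t j = φ (b ^ j) (∏ s ∈ Finset.range q, φ (a ^ s) v) := by
      intro j hj hjq
      rw [map_prod]
      have h1 : ∀ t, f t j = φ (b ^ j) (φ (a ^ (t * j % q)) v) := fun t => by
        rw [← hper, ← map_mul_apply, pow_mul, ← mul_pow]
      simp_rw [h1]
      refine Finset.prod_bij (fun t _ => t * j % q) (fun t _ => Finset.mem_range.mpr
        (Nat.mod_lt _ hq.pos)) ?_ ?_ (fun t _ => rfl)
      · intro t ht t' ht' h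
        have h2 : ((t * j : ℕ) : ZMod q) = ((t' * j : ℕ) : ZMod q) :=
          (ZMod.natCast_eq_natCast_iff' _ _ _).mpr h
        have hj0 : (j : ZMod q) ≠ 0 := by
          rw [Ne, ZMod.natCast_eq_zero_iff]
          exact Nat.not_dvd_of_pos_of_lt hj hjq
        push_cast at h2
        have h3 := mul_right_cancel₀ hj0 h2
        rw [ZMod.natCast_eq_natCast_iff', Nat.mod_eq_of_lt (Finset.mem_range.mp ht),
          Nat.mod_eq_of_lt (Finset.mem_range.mp ht')] at h3
        exact h3
      · intro s hs
        have hj0 : (j : ZMod q) ≠ 0 := by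
          rw [Ne, ZMod.natCast_eq_zero_iff]
          exact Nat.not_dvd_of_pos_of_lt hj hjq
        refine ⟨((s : ZMod q) * (j : ZMod q)⁻¹).val, Finset.mem_range.mpr (ZMod.val_lt _), ?_⟩
        rw [← Nat.mod_eq_of_lt (Finset.mem_range.mp hs), ← ZMod.natCast_eq_natCast_iff']
        push_cast
        rw [ZMod.natCast_zmod_val, mul_assoc, inv_mul_cancel₀ hj0, mul_one, ZMod.natCast_mod]
    set D := ⨆ B ∈ {B : Subgroup A | ∃ a : A, B ⊔ Subgroup.zpowers a = ⊤}, fixedBy φ B with hD
    have hu : ∀ j : ℕ, φ (b ^ j) (∏ s ∈ Finset.range q, φ (a ^ s) v) ∈ D := by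
      intro j
      have hu0 := hmain a ha1 haq
      have hstab : D ≤ D.comap (φ (b ^ j) : V →* V) := by
        refine iSup₂_le fun B hB => ?_
        intro w hw
        refine (le_iSup₂ (f := fun B (_ : B ∈ {B : Subgroup A | ∃ a : A, B ⊔ Subgroup.zpowers a = ⊤})
          => fixedBy φ B) B hB) ?_
        intro x hx
        change φ x (φ (b ^ j) w) = φ (b ^ j) w
        rw [← map_mul_apply, mul_comm, map_mul_apply, hw x hx]
      exact hstab hu0
    have hprod : (∏ t ∈ Finset.range q, ∏ j ∈ Finset.range q, f t j) ∈ D := by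
      refine prod_mem fun t _ => hmain _ (hnotin t) ?_
      rw [mul_pow, ← pow_mul, mul_comm t q, pow_mul]
      exact mul_mem hbq (pow_mem haq t)
    rw [Finset.prod_comm] at hprod
    have hvq : v ^ q ∈ D := by
      obtain ⟨n, hn⟩ := Nat.exists_eq_succ_of_ne_zero hq.ne_zero
      have hsplit : (∏ j ∈ Finset.range q, ∏ t ∈ Finset.range q, f t j) =
          (∏ j ∈ Finset.range n, φ (b ^ (j + 1)) (∏ s ∈ Finset.range q, φ (a ^ s) v)) * v ^ q := by
        rw [show Finset.range q = Finset.range (n + 1) by rw [hn]]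
        rw [Finset.prod_range_succ' _ n]
        congr 1
        · refine Finset.prod_congr rfl fun j hj => ?_
          have := hsum (j + 1) (by omega) (by have := Finset.mem_range.mp hj; omega)
          rwa [hn] at this
        · simp [f, hn]
      rw [hsplit] at hprod
      exact (Subgroup.mul_mem_cancel_left _ (prod_mem fun j _ => hu (j + 1))).mp hprod
    have hqV : (Nat.card V).Coprime q := by
      refine (Nat.Coprime.coprime_dvd_left ?_ hcop).symm
      calc q = orderOf (a : A ⧸ K) := by
            refine (orderOf_eq_prime ?_ ?_).symm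
            · rwa [← QuotientGroup.mk_pow, QuotientGroup.eq_one_iff]
            · rwa [Ne, QuotientGroup.eq_one_iff]
        _ ∣ Nat.card A := (orderOf_map_dvd (QuotientGroup.mk' K) a).trans (orderOf_dvd_natCard a)
    have : v ^ q ∈ D → v ∈ D := fun h => by
      have h1 := zpow_mem h ((Nat.card V).gcdB q)
      rwa [show (v ^ q) ^ (Nat.card V).gcdB q = v from (powCoprime hqV).left_inv v] at h1
    exact this hvq

variable {X : Type u} [Group X]

/-- The subgroups of `A` with cyclic quotient. -/
def cocyclic (A : Subgroup X) : Set (Subgroup X) :=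
  {B : Subgroup X | B ≤ A ∧ ∃ a ∈ A, B ⊔ Subgroup.zpowers a = A}

theorem le_normalizer_inf_centralizer {A G B : Subgroup X}
    (hAG : A ≤ Subgroup.normalizer (G : Set X)) (hB : A ≤ Subgroup.normalizer (B : Set X)) :
    A ≤ Subgroup.normalizer ((G ⊓ Subgroup.centralizer (B : Set X) : Subgroup X) : Set X) := by
  refine (le_inf hAG ?_).trans Subgroup.inf_normalizer_le_normalizer_inf
  intro a ha
  rw [Subgroup.mem_normalizer_iff]
  intro y
  simp only [Subgroup.mem_centralizer_iff, SetLike.mem_coe]
  constructor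
  · intro h x hx
    have h1 := h _ ((Subgroup.mem_normalizer_iff''.mp (hB ha) x).mp hx)
    calc x * (a * y * a⁻¹) = a * ((a⁻¹ * x * a) * y) * a⁻¹ := by simp [mul_assoc]
      _ = a * (y * (a⁻¹ * x * a)) * a⁻¹ := by rw [h1]
      _ = a * y * a⁻¹ * x := by simp [mul_assoc]
  · intro h x hx
    have h1 := h _ ((Subgroup.mem_normalizer_iff.mp (hB ha) x).mp hx)
    have h2 : a * (x * y) * a⁻¹ = a * (y * x) * a⁻¹ := by
      calc a * (x * y) * a⁻¹ = a * x * a⁻¹ * (a * y * a⁻¹) := by simp [mul_assoc]
        _ = a * y * a⁻¹ * (a * x * a⁻¹) := h1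
        _ = a * (y * x) * a⁻¹ := by simp [mul_assoc]
    exact mul_left_cancel (mul_right_cancel h2)

/-- The endomorphisms of `Abelianization G` induced by an operator group. -/
noncomputable def abAction {A G : Subgroup X} (hAG : A ≤ Subgroup.normalizer (G : Set X)) :
    A →* Monoid.End (Abelianization G) where
  toFun a := Abelianization.map (conjHom hAG a)
  map_one' := by
    refine MonoidHom.ext fun x => ?_
    obtain ⟨g, rfl⟩ := QuotientGroup.mk_surjective x
    change Abelianization.of (conjHom hAG 1 g) = Abelianization.of g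
    congr 1; ext; simp [conjHom_apply]
  map_mul' a b := by
    refine MonoidHom.ext fun x => ?_
    obtain ⟨g, rfl⟩ := QuotientGroup.mk_surjective x
    change Abelianization.of (conjHom hAG (a * b) g) =
      Abelianization.of (conjHom hAG a (conjHom hAG b g))
    congr 1; ext; simp [conjHom_apply, mul_assoc]

theorem le_iSup_centralizer_cocyclic [Finite X] {A : Subgroup X} [IsMulCommutative A] :
    ∀ G : Subgroup X, A ≤ Subgroup.normalizer (G : Set X) → (Nat.card A).Coprime (Nat.card G) →
      G ≤ ⨆ B ∈ cocyclic A, G ⊓ Subgroup.centralizer (B : Set X) := by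
  intro G
  induction G using WellFoundedLT.induction with
  | ind G ih =>
    intro hAG hcop
    have hsol : Group.IsSolvable A ∨ Group.IsSolvable G :=
      Or.inl (Group.isSolvable_of_comm fun a b => mul_comm' a b)
    set W := ⨆ B ∈ cocyclic A, G ⊓ Subgroup.centralizer (B : Set X) with hW
    have hWG : W ≤ G := iSup₂_le fun B _ => inf_le_left
    have hsub : ∀ H : Subgroup X, H < G → A ≤ Subgroup.normalizer (H : Set X) → H ≤ W := by
      intro H hH hAH
      refine (ih H hH hAH (coprime_of_le hH.le hcop)).trans (iSup₂_mono fun B _ => ?_)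
      exact inf_le_inf hH.le le_rfl
    by_cases hsyl : ∀ (p : ℕ) [Fact p.Prime] (P : Sylow p G), (P : Subgroup G) ≠ ⊤
    · -- every Sylow subgroup is proper
      have hall : ∀ p k : ℕ, p.Prime → p ^ k ∣ Nat.card G → p ^ k ∣ Nat.card W := by
        intro p k hp hk
        have : Fact p.Prime := ⟨hp⟩
        obtain ⟨P, hP⟩ := exists_invariant_sylow hAG hcop hsol p
        have hlt : (P : Subgroup G).map G.subtype < G := by
          refine lt_of_le_of_ne (Subgroup.map_subtype_le _) fun h => hsyl p P ?_
          apply Subgroup.map_injective G.subtype_injective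
          rw [h, ← MonoidHom.range_eq_map, Subgroup.range_subtype]
        refine dvd_trans ?_ (Subgroup.card_dvd_of_le (hsub _ hlt hP))
        rw [Subgroup.card_map_of_injective G.subtype_injective, P.card_eq_multiplicity]
        exact Nat.pow_dvd_pow _ ((hp.pow_dvd_iff_le_factorization Nat.card_pos.ne').mp hk)
      exact (Subgroup.eq_of_le_of_card_ge hWG (Nat.le_of_dvd Nat.card_pos
        ((Nat.dvd_iff_prime_pow_dvd_dvd _ _).mpr hall))).ge
    push Not at hsyl
    obtain ⟨p, hp, P, hP⟩ := hsyl
    -- `G` is a `p`-group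
    by_cases hG : G = ⊥
    · rw [hG]; exact bot_le
    have hGp : IsPGroup p G := by
      have h := P.2
      rw [hP] at h
      exact h.of_equiv Subgroup.topEquiv
    have : Group.IsNilpotent G := hGp.isNilpotent
    have : Nontrivial G := (Subgroup.nontrivial_iff_ne_bot G).mpr hG
    have hlt : ⁅G, G⁆ < G := by
      rw [← Subgroup.map_subtype_commutator]
      calc (commutator G).map G.subtype < (⊤ : Subgroup G).map G.subtype :=
            Subgroup.map_subtype_lt_map_subtype.mpr
              (Group.IsSolvable.commutator_lt_top_of_nontrivial G)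
        _ = G := by rw [← MonoidHom.range_eq_map, Subgroup.range_subtype]
    have hAN : A ≤ Subgroup.normalizer ((⁅G, G⁆ : Subgroup X) : Set X) :=
      commutator_le_normalizer_commutator hAG
    have hNW : ⁅G, G⁆ ≤ W := hsub _ hlt hAN
    have : Finite (Abelianization G) := inferInstanceAs (Finite (G ⧸ commutator G))
    open scoped IsMulCommutative in
    have hab : ∀ x : Abelianization G, x ∈ ⨆ B ∈ {B : Subgroup A |
        ∃ a : A, B ⊔ Subgroup.zpowers a = ⊤}, fixedBy (abAction hAG) B := fun x =>
      mem_iSup_fixedBy (abAction hAG)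
        (hcop.coprime_dvd_right (Subgroup.card_quotient_dvd_card (commutator G))) ⊥ (by
          intro b hb
          rw [Subgroup.mem_bot.mp hb, map_one]; rfl)
    intro g hg
    have hgx := hab (Abelianization.of ⟨g, hg⟩)
    have hle : (⨆ B ∈ {B : Subgroup A | ∃ a : A, B ⊔ Subgroup.zpowers a = ⊤},
        fixedBy (abAction hAG) B) ≤ (W.subgroupOf G).map Abelianization.of := by
      refine iSup₂_le fun B hB => ?_
      intro x hx
      obtain ⟨y, rfl⟩ := QuotientGroup.mk_surjective x
      obtain ⟨a, ha⟩ := hB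
      have hB' : B.map A.subtype ∈ cocyclic A := by
        refine ⟨Subgroup.map_subtype_le _, a, a.2, ?_⟩
        have h1 := congrArg (Subgroup.map A.subtype) ha
        rw [Subgroup.map_sup, MonoidHom.map_zpowers, ← MonoidHom.range_eq_map,
          Subgroup.range_subtype] at h1
        exact h1
      have hBA : B.map A.subtype ≤ A := Subgroup.map_subtype_le _
      have hcomm : ∀ b ∈ B.map A.subtype, ⁅(y : X), b⁆ ∈ ⁅G, G⁆ := by
        rintro _ ⟨b, hb, rfl⟩
        have h1 : Abelianization.of (conjHom hAG b y) = Abelianization.of y := hx b hb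
        have h2 : y * (conjHom hAG b y)⁻¹ ∈ commutator G := by
          rw [← QuotientGroup.eq_one_iff]
          change Abelianization.of (y * (conjHom hAG b y)⁻¹) = 1
          rw [map_mul, map_inv, h1, mul_inv_cancel]
        rw [← Subgroup.map_subtype_commutator]
        exact ⟨_, h2, by simp [conjHom_apply, commutatorElement_def, mul_assoc]⟩
      obtain ⟨n, hn, c, hc, hy⟩ := exists_mul_centralizer_of_commutator_mem (hBA.trans hAG)
        (hcop.coprime_dvd_left (Subgroup.card_dvd_of_le hBA))
        (Or.inr (inferInstance : Group.IsSolvable G)) hlt.le (hBA.trans hAN) y.2 hcomm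
      refine ⟨⟨c, hc.1⟩, (le_iSup₂ (f := fun B (_ : B ∈ cocyclic A) =>
        G ⊓ Subgroup.centralizer (B : Set X)) _ hB') hc, ?_⟩
      rw [← Subgroup.map_subtype_commutator] at hn
      obtain ⟨n', hn', rfl⟩ := hn
      have hyn : y = n' * ⟨c, hc.1⟩ := Subtype.ext hy
      have hn1 : Abelianization.of n' = 1 := (QuotientGroup.eq_one_iff n').mpr hn'
      change Abelianization.of (⟨c, hc.1⟩ : G) = Abelianization.of y
      rw [hyn, map_mul, hn1, one_mul]
    obtain ⟨w, hw, hwg⟩ := hle hgx
    have h1 : w⁻¹ * ⟨g, hg⟩ ∈ commutator G := QuotientGroup.eq.mp hwg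
    have h2 : (w : X)⁻¹ * g ∈ W := hNW (by
      rw [← Subgroup.map_subtype_commutator]; exact ⟨_, h1, rfl⟩)
    simpa using mul_mem (show (w : X) ∈ W from hw) h2

theorem iSup_centralizer_cocyclic_eq [Finite X] {A G : Subgroup X} [IsMulCommutative A]
    (hAG : A ≤ Subgroup.normalizer (G : Set X)) (hcop : (Nat.card A).Coprime (Nat.card G)) :
    (⨆ B ∈ cocyclic A, G ⊓ Subgroup.centralizer (B : Set X)) = G :=
  le_antisymm (iSup₂_le fun _ _ => inf_le_left) (le_iSup_centralizer_cocyclic G hAG hcop)

theorem iSup_commutator_centralizer_cocyclic_eq [Finite X] {A G : Subgroup X} [IsMulCommutative A]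
    (hAG : A ≤ Subgroup.normalizer (G : Set X)) (hcop : (Nat.card A).Coprime (Nat.card G)) :
    (⨆ B ∈ cocyclic A, ⁅G ⊓ Subgroup.centralizer (B : Set X), A⁆) = ⁅G, A⁆ := by
  have hsol : Group.IsSolvable A ∨ Group.IsSolvable G :=
    Or.inl (Group.isSolvable_of_comm fun a b => mul_comm' a b)
  refine le_antisymm (iSup₂_le fun B _ => Subgroup.commutator_mono inf_le_left le_rfl) ?_
  set R := ⨆ B ∈ cocyclic A, ⁅G ⊓ Subgroup.centralizer (B : Set X), A⁆ with hR
  set C := G ⊓ Subgroup.centralizer (A : Set X) with hC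
  have hRG : R ≤ G := iSup₂_le fun B _ => (Subgroup.commutator_mono inf_le_left le_rfl).trans
    (commutator_le_of_le_normalizer hAG)
  have hAB : ∀ B ∈ cocyclic A, A ≤ Subgroup.normalizer (B : Set X) := fun B hB =>
    Subgroup.le_normalizer_iff.mpr fun a ha b hb => by
      have h : a * b = b * a := congrArg Subtype.val
        (mul_comm' (⟨a, ha⟩ : A) ⟨b, hB.1 hb⟩)
      rwa [h, mul_inv_cancel_right]
  have hnorm : ∀ Y : Subgroup X, (∀ B ∈ cocyclic A,
      Y ≤ Subgroup.normalizer ((⁅G ⊓ Subgroup.centralizer (B : Set X), A⁆ : Subgroup X) : Set X)) →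
      Y ≤ Subgroup.normalizer (R : Set X) := by
    intro Y hY
    refine le_trans ?_ (Subgroup.iInf_normalizer_le_normalizer_iSup _)
    refine le_iInf fun B => ?_
    by_cases hB : B ∈ cocyclic A
    · rw [show (⨆ (_ : B ∈ cocyclic A), ⁅G ⊓ Subgroup.centralizer (B : Set X), A⁆) =
        ⁅G ⊓ Subgroup.centralizer (B : Set X), A⁆ from iSup_pos hB]
      exact hY B hB
    · rw [show (⨆ (_ : B ∈ cocyclic A), ⁅G ⊓ Subgroup.centralizer (B : Set X), A⁆) =
        ⊥ from iSup_neg hB]
      exact Subgroup.le_normalizer_of_normal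
  have hAR : A ≤ Subgroup.normalizer (R : Set X) :=
    hnorm A fun B hB => Subgroup.normalizer_commutator_ge_right _ _
  have hCR : C ≤ Subgroup.normalizer (R : Set X) := hnorm C fun B hB =>
    (le_inf inf_le_left (inf_le_right.trans (Subgroup.centralizer_le hB.1))).trans
      (Subgroup.normalizer_commutator_ge_left _ _)
  have hG : G ≤ R ⊔ C := by
    refine (le_iSup_centralizer_cocyclic G hAG hcop).trans (iSup₂_le fun B hB => ?_)
    have hAC := le_normalizer_inf_centralizer hAG (hAB B hB)
    rw [← commutator_sup_centralizer_eq hAC (coprime_of_le inf_le_left hcop)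
      (sol_of_le inf_le_left hsol)]
    refine sup_le_sup ?_ (inf_le_inf inf_le_left le_rfl)
    exact le_iSup₂ (f := fun B (_ : B ∈ cocyclic A) =>
      ⁅G ⊓ Subgroup.centralizer (B : Set X), A⁆) B hB
  rw [← commutator_commutator_eq hAG hcop hsol, Subgroup.commutator_le]
  intro x hx a ha
  obtain ⟨r, hr, c, hc, rfl⟩ :=
    exists_mul_of_mem_sup hCR (hG (commutator_le_of_le_normalizer hAG hx))
  have hca : c * a * c⁻¹ = a := by
    rw [mul_inv_eq_iff_eq_mul]
    exact (Subgroup.mem_centralizer_iff.mp hc.2 a ha).symm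
  have : ⁅r * c, a⁆ = r * (a * r⁻¹ * a⁻¹) := by
    calc ⁅r * c, a⁆ = r * (c * a * c⁻¹) * r⁻¹ * a⁻¹ := by simp [commutatorElement_def, mul_assoc]
      _ = _ := by rw [hca]; simp [mul_assoc]
  rw [this]
  exact mul_mem hr (conj_mem_of_mem_normalizer (hAR ha) (inv_mem hr))

/-- Noncyclic abelian `A`: `G` is generated by the centralizers of the nonidentity elements. -/
theorem le_iSup_centralizer_of_not_isCyclic [Finite X] {A G : Subgroup X} [IsMulCommutative A]
    (hnc : ¬ IsCyclic A)
    (hAG : A ≤ Subgroup.normalizer (G : Set X)) (hcop : (Nat.card A).Coprime (Nat.card G)) :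
    G ≤ ⨆ a : {a : X // a ∈ A ∧ a ≠ 1}, G ⊓ Subgroup.centralizer ({(a : X)} : Set X) := by
  refine (le_iSup_centralizer_cocyclic G hAG hcop).trans (iSup₂_le fun B hB => ?_)
  obtain ⟨hBA, c, hc, hBc⟩ := hB
  have hB1 : B ≠ ⊥ := by
    rintro rfl
    rw [bot_sup_eq] at hBc
    exact hnc (hBc ▸ (inferInstance : IsCyclic (Subgroup.zpowers c)))
  obtain ⟨b, hb, hb1⟩ := B.bot_or_exists_ne_one.resolve_left hB1
  refine le_trans ?_ (le_iSup (fun a : {a : X // a ∈ A ∧ a ≠ 1} =>
    G ⊓ Subgroup.centralizer ({(a : X)} : Set X)) ⟨b, hBA hb, hb1⟩)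
  exact inf_le_inf le_rfl (Subgroup.centralizer_le (Set.singleton_subset_iff.mpr hb))

end Cfsg.Lib.Coprime
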