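import Mathlib.GroupTheory.SchurZassenhaus
import Mathlib.GroupTheory.Sylow
import Mathlib.GroupTheory.Solvable
import Mathlib.GroupTheory.Abelianization.Defs
import Mathlib.GroupTheory.Commutator.Basic

/-!
# The conjugacy part of Schur-Zassenhaus, in ambient form

If `A` normalizes `N`, their orders are coprime and one of them is solvable, then every subgroup of
`N ⊔ A` of the order of `A` is conjugate to `A` by an element of `N`.
-/

set_option autoImplicit false

namespace Cfsg.Lib.Coprime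

open scoped Pointwise

universe u

variable {X : Type u} [Group X]

theorem conj_mem_of_mem_normalizer {N : Subgroup X} {g x : X}
    (hg : g ∈ Subgroup.normalizer (N : Set X)) (hx : x ∈ N) : g * x * g⁻¹ ∈ N :=
  (Subgroup.mem_normalizer_iff.mp hg x).mp hx

theorem mem_map_conj_iff {S : Subgroup X} {g x : X} :
    x ∈ S.map (MulAut.conj g).toMonoidHom ↔ g⁻¹ * x * g ∈ S := by
  constructor
  · rintro ⟨y, hy, rfl⟩
    simpa [MulAut.conj_apply, mul_assoc] using hy
  · intro h
    exact ⟨g⁻¹ * x * g, h, by simp [MulAut.conj_apply, mul_assoc]⟩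

theorem map_conj_one (S : Subgroup X) : S.map (MulAut.conj (1 : X)).toMonoidHom = S := by
  ext x; simp [mem_map_conj_iff]

theorem map_conj_conj (S : Subgroup X) (g h : X) :
    (S.map (MulAut.conj h).toMonoidHom).map (MulAut.conj g).toMonoidHom =
      S.map (MulAut.conj (g * h)).toMonoidHom := by
  ext x; simp only [mem_map_conj_iff, mul_inv_rev, mul_assoc]

theorem card_map_conj (S : Subgroup X) (g : X) :
    Nat.card (S.map (MulAut.conj g).toMonoidHom) = Nat.card S :=
  Subgroup.card_map_of_injective (MulAut.conj g).injective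

theorem map_conj_eq_self {S : Subgroup X} {g : X} (hg : g ∈ Subgroup.normalizer (S : Set X)) :
    S.map (MulAut.conj g).toMonoidHom = S :=
  Subgroup.mem_normalizer_iff_map_conj_eq.mp hg

theorem disjoint_of_coprime_card {H K : Subgroup X} (h : (Nat.card H).Coprime (Nat.card K)) :
    Disjoint H K :=
  (Subgroup.disjoint_of_coprime_natCard h)

theorem exists_mul_of_mem_sup {N A : Subgroup X} (hAN : A ≤ Subgroup.normalizer (N : Set X))
    {x : X} (hx : x ∈ N ⊔ A) : ∃ n ∈ N, ∃ a ∈ A, x = n * a := by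
  have : x ∈ ((N : Set X) * (A : Set X)) := by
    rw [← Subgroup.coe_mul_of_right_le_normalizer_left N A hAN]; exact hx
  obtain ⟨n, hn, a, ha, rfl⟩ := Set.mem_mul.mp this
  exact ⟨n, hn, a, ha, rfl⟩

theorem eq_of_mul_eq_mul_of_disjoint {N A : Subgroup X} (hd : Disjoint N A) {n n' a a' : X}
    (hn : n ∈ N) (hn' : n' ∈ N) (ha : a ∈ A) (ha' : a' ∈ A) (h : n * a = n' * a') :
    n = n' ∧ a = a' := by
  have h1 : n'⁻¹ * n = a' * a⁻¹ := by
    calc n'⁻¹ * n = n'⁻¹ * (n * a) * a⁻¹ := by simp [mul_assoc]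
    _ = n'⁻¹ * (n' * a') * a⁻¹ := by rw [h]
    _ = a' * a⁻¹ := by simp
  have h2 : n'⁻¹ * n = 1 :=
    Subgroup.disjoint_def.mp hd (mul_mem (inv_mem hn') hn)
      (h1 ▸ mul_mem ha' (inv_mem ha))
  have h3 : n = n' := by
    have := eq_of_inv_mul_eq_one h2
    exact this.symm
  subst h3
  exact ⟨rfl, mul_left_cancel h⟩

/-- A subgroup `H` of `N ⊔ A` projecting onto `A` has order `|N ∩ H| · |A|`. -/
theorem card_eq_of_proj_surjective {N A H : Subgroup X}
    (hAN : A ≤ Subgroup.normalizer (N : Set X)) (hd : Disjoint N A) (hH : H ≤ N ⊔ A)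
    (hproj : ∀ a ∈ A, ∃ n ∈ N, n * a ∈ H) :
    Nat.card H = Nat.card ↥(N ⊓ H) * Nat.card A := by
  choose g hgN hgH using hproj
  have e : (↥(N ⊓ H) × A) ≃ H := by
    refine Equiv.ofBijective
      (fun p => ⟨(p.1 : X) * (g p.2 p.2.2 * p.2), mul_mem p.1.2.2 (hgH p.2 p.2.2)⟩) ⟨?_, ?_⟩
    · rintro ⟨⟨k, hk⟩, ⟨a, ha⟩⟩ ⟨⟨k', hk'⟩, ⟨a', ha'⟩⟩ h
      simp only [Subtype.ext_iff, ← mul_assoc] at h
      obtain ⟨h1, h2⟩ := eq_of_mul_eq_mul_of_disjoint hd (mul_mem hk.1 (hgN a ha))
        (mul_mem hk'.1 (hgN a' ha')) ha ha' h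
      subst h2
      simp [mul_right_cancel h1]
    · rintro ⟨h, hh⟩
      obtain ⟨n, hn, a, ha, rfl⟩ := exists_mul_of_mem_sup hAN (hH hh)
      refine ⟨⟨⟨n * (g a ha)⁻¹, Subgroup.mem_inf.mpr
        ⟨mul_mem hn (inv_mem (hgN a ha)), ?_⟩⟩, ⟨a, ha⟩⟩, ?_⟩
      · have h' := mul_mem hh (inv_mem (hgH a ha))
        have he : n * a * (g a ha * a)⁻¹ = n * (g a ha)⁻¹ := by simp [mul_assoc]
        rwa [he] at h'
      · simp [← mul_assoc]
  rw [← Nat.card_congr e, Nat.card_prod]

theorem card_sup_of_disjoint {N A : Subgroup X} (hAN : A ≤ Subgroup.normalizer (N : Set X))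
    (hd : Disjoint N A) : Nat.card ↥(N ⊔ A) = Nat.card N * Nat.card A := by
  rw [card_eq_of_proj_surjective hAN hd le_rfl
    (fun a ha => ⟨1, one_mem _, by simpa using (le_sup_right : A ≤ N ⊔ A) ha⟩),
    inf_eq_left.mpr le_sup_left]

/-- The element of `N` sending `a ∈ A` into `B`, for a second complement `B` of `N` in `N ⊔ A`. -/
theorem exists_cocycle [Finite X] {N A B : Subgroup X}
    (hAN : A ≤ Subgroup.normalizer (N : Set X))
    (hcop : (Nat.card A).Coprime (Nat.card N)) (hB : B ≤ N ⊔ A) (hcard : Nat.card B = Nat.card A) :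
    ∃ f : A → N, (∀ a : A, (f a : X) * a ∈ B) ∧
      (∀ b ∈ B, ∃ a : A, b = (f a : X) * a) ∧
      ∀ a a' : A, (f (a * a') : X) = f a * ((a : X) * f a' * (a : X)⁻¹) := by
  have hdA : Disjoint N A := disjoint_of_coprime_card hcop.symm
  have hdB : Disjoint N B := disjoint_of_coprime_card (hcard ▸ hcop.symm)
  have hN : N ⊔ A ≤ Subgroup.normalizer (N : Set X) := sup_le Subgroup.le_normalizer hAN
  have hBN : B ≤ Subgroup.normalizer (N : Set X) := hB.trans hN
  have hsup : N ⊔ B = N ⊔ A := by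
    apply Subgroup.eq_of_le_of_card_ge (sup_le le_sup_left hB)
    rw [card_sup_of_disjoint hAN hdA, card_sup_of_disjoint hBN hdB, hcard]
  have hex : ∀ a : A, ∃ n : N, (n : X) * a ∈ B := by
    intro a
    have ha : (a : X) ∈ N ⊔ B := hsup ▸ (le_sup_right : A ≤ N ⊔ A) a.2
    obtain ⟨n, hn, b, hb, h⟩ := exists_mul_of_mem_sup hBN ha
    exact ⟨⟨n⁻¹, inv_mem hn⟩, by simpa [h] using hb⟩
  choose f hf using hex
  have huniq : ∀ (a : A) (n : X), n ∈ N → n * a ∈ B → n = f a := by
    intro a n hn hna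
    have h1 : n * (f a : X)⁻¹ ∈ B := by
      have h' := mul_mem hna (inv_mem (hf a))
      have he : n * (a : X) * ((f a : X) * a)⁻¹ = n * (f a : X)⁻¹ := by simp [mul_assoc]
      rwa [he] at h'
    exact mul_inv_eq_one.mp
      (Subgroup.disjoint_def.mp hdB (mul_mem hn (inv_mem (f a).2)) h1)
  refine ⟨f, hf, ?_, ?_⟩
  · intro b hb
    obtain ⟨n, hn, a, ha, rfl⟩ := exists_mul_of_mem_sup hAN (hB hb)
    exact ⟨⟨a, ha⟩, by rw [huniq ⟨a, ha⟩ n hn hb]⟩
  · intro a a'
    refine (huniq _ _ (mul_mem (f a).2 (conj_mem_of_mem_normalizer (hAN a.2) (f a').2)) ?_).symm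
    have h := mul_mem (hf a) (hf a')
    simpa [mul_assoc] using h

/-- Conjugation by an element of `A` as an endomorphism of a subgroup normalized by `A`. -/
def conjHom {N A : Subgroup X} (hAN : A ≤ Subgroup.normalizer (N : Set X)) (a : A) : N →* N where
  toFun n := ⟨(a : X) * n * (a : X)⁻¹, conj_mem_of_mem_normalizer (hAN a.2) n.2⟩
  map_one' := by simp
  map_mul' n m := by ext; simp [mul_assoc]

theorem conjHom_apply {N A : Subgroup X} (hAN : A ≤ Subgroup.normalizer (N : Set X)) (a : A)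
    (n : N) : (conjHom hAN a n : X) = (a : X) * n * (a : X)⁻¹ := rfl

theorem commutator_le_normalizer_commutator {N A : Subgroup X}
    (hAN : A ≤ Subgroup.normalizer (N : Set X)) :
    A ≤ Subgroup.normalizer ((⁅N, N⁆ : Subgroup X) : Set X) := by
  intro a ha
  rw [Subgroup.mem_normalizer_iff_map_conj_eq, Subgroup.map_commutator]
  have := Subgroup.mem_normalizer_iff_map_conj_eq.mp (hAN ha)
  rw [this]

/-- The averaging step: after conjugating by an element of `N`, `B` lies in `⁅N, N⁆ ⊔ A`. -/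
theorem exists_conj_le_commutator_sup [Finite X] {N A B : Subgroup X}
    (hAN : A ≤ Subgroup.normalizer (N : Set X))
    (hcop : (Nat.card A).Coprime (Nat.card N)) (hB : B ≤ N ⊔ A) (hcard : Nat.card B = Nat.card A) :
    ∃ n ∈ N, B ≤ ⁅N, N⁆ ⊔ A.map (MulAut.conj n).toMonoidHom := by
  classical
  obtain ⟨f, -, hsurj, hf⟩ := exists_cocycle hAN hcop hB hcard
  have := Fintype.ofFinite A
  let q : N →* Abelianization N := Abelianization.of
  let c : A → (Abelianization N →* Abelianization N) := fun a => Abelianization.map (conjHom hAN a)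
  have hc : ∀ a n, c a (q n) = q (conjHom hAN a n) := fun a n => Abelianization.map_of _ _
  have hco : ∀ a a', q (f (a * a')) = q (f a) * c a (q (f a')) := by
    intro a a'
    rw [hc, ← map_mul]
    congr 1
    ext
    simp [hf a a', conjHom_apply]
  let F : Abelianization N := ∏ a : A, q (f a)
  have hF : ∀ a, F = q (f a) ^ Nat.card A * c a F := by
    intro a
    calc F = ∏ a' : A, q (f (a * a')) :=
          (Fintype.prod_equiv (Equiv.mulLeft a) _ _ (fun _ => rfl)).symm
      _ = ∏ a' : A, q (f a) * c a (q (f a')) := by simp_rw [hco]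
      _ = q (f a) ^ Nat.card A * c a F := by
          rw [Finset.prod_mul_distrib, Finset.prod_const, Finset.card_univ, map_prod,
            Nat.card_eq_fintype_card]
  have hdvd : Nat.card (Abelianization N) ∣ Nat.card N :=
    Subgroup.card_quotient_dvd_card _
  have hcop' : (Nat.card (Abelianization N)).Coprime (Nat.card A) :=
    Nat.Coprime.coprime_dvd_left hdvd hcop.symm
  obtain ⟨n, hn⟩ := QuotientGroup.mk_surjective ((powCoprime hcop').symm F)
  have hn' : q n ^ Nat.card A = F := by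
    have : (powCoprime hcop') (q n) = F := by
      change (powCoprime hcop') (QuotientGroup.mk n) = F
      rw [hn]; exact Equiv.apply_symm_apply _ _
    exact this
  refine ⟨n, n.2, ?_⟩
  intro b hb
  obtain ⟨a, rfl⟩ := hsurj b hb
  have key : q (f a) = q n * (c a (q n))⁻¹ := by
    apply (powCoprime hcop').injective
    change q (f a) ^ Nat.card A = (q n * (c a (q n))⁻¹) ^ Nat.card A
    rw [mul_pow, inv_pow, hn', ← map_pow (c a), hn', eq_mul_inv_iff_mul_eq]
    exact (hF a).symm
  rw [hc, ← map_inv, ← map_mul] at key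
  have hk : (f a)⁻¹ * (n * (conjHom hAN a n)⁻¹) ∈ commutator N :=
    QuotientGroup.eq.mp key
  have hk' : ((f a : X))⁻¹ * ((n : X) * ((a : X) * n * (a : X)⁻¹)⁻¹) ∈ ⁅N, N⁆ := by
    rw [← Subgroup.map_subtype_commutator]
    exact ⟨_, hk, rfl⟩
  have hfa : (f a : X) * ((f a : X)⁻¹ * ((n : X) * ((a : X) * n * (a : X)⁻¹)⁻¹)) * (f a : X)⁻¹
      ∈ ⁅N, N⁆ :=
    conj_mem_of_mem_normalizer (commutator_le_normalizer_commutator Subgroup.le_normalizer
      (f a).2) hk'
  have hb' : ((f a : X) * a) = ((f a : X) * ((f a : X)⁻¹ * ((n : X) * ((a : X) * n * (a : X)⁻¹)⁻¹))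
      * (f a : X)⁻¹)⁻¹ * ((n : X) * a * (n : X)⁻¹) := by
    simp [mul_assoc]
  rw [hb']
  exact Subgroup.mul_mem_sup (inv_mem hfa) ⟨a, a.2, rfl⟩

theorem exists_conj_of_coprime_of_isSolvable_left [Finite X] :
    ∀ (N A B : Subgroup X), A ≤ Subgroup.normalizer (N : Set X) →
      (Nat.card A).Coprime (Nat.card N) → Group.IsSolvable N → B ≤ N ⊔ A →
      Nat.card B = Nat.card A → ∃ n ∈ N, B = A.map (MulAut.conj n).toMonoidHom := by
  intro N
  induction N using WellFoundedLT.induction with
  | ind N ih =>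
    intro A B hAN hcop hsol hB hcard
    by_cases hN : N = ⊥
    · subst hN
      refine ⟨1, one_mem _, ?_⟩
      rw [map_conj_one]
      exact Subgroup.eq_of_le_of_card_ge (by simpa using hB) hcard.ge
    obtain ⟨n, hn, hle⟩ := exists_conj_le_commutator_sup hAN hcop hB hcard
    have : Nontrivial N := (Subgroup.nontrivial_iff_ne_bot N).mpr hN
    have hlt : ⁅N, N⁆ < N := by
      rw [← Subgroup.map_subtype_commutator]
      calc (commutator N).map N.subtype < (⊤ : Subgroup N).map N.subtype :=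
            Subgroup.map_subtype_lt_map_subtype.mpr
              (Group.IsSolvable.commutator_lt_top_of_nontrivial N)
        _ = N := by rw [← MonoidHom.range_eq_map, Subgroup.range_subtype]
    have hN' : ⁅N, N⁆ ≤ N := hlt.le
    have : Group.IsSolvable ↥⁅N, N⁆ := by
      have := hsol
      exact Group.isSolvable_of_isSolvable_injective (f := Subgroup.inclusion hN')
        (Subgroup.inclusion_injective _)
    have hA1 : A.map (MulAut.conj n).toMonoidHom ≤
        Subgroup.normalizer ((⁅N, N⁆ : Subgroup X) : Set X) := by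
      rintro _ ⟨a, ha, rfl⟩
      simp only [MulEquiv.coe_toMonoidHom, MulAut.conj_apply]
      exact mul_mem (mul_mem (commutator_le_normalizer_commutator Subgroup.le_normalizer hn)
        (commutator_le_normalizer_commutator hAN ha))
        (inv_mem (commutator_le_normalizer_commutator Subgroup.le_normalizer hn))
    have hcop' : (Nat.card (A.map (MulAut.conj n).toMonoidHom)).Coprime (Nat.card ↥⁅N, N⁆) := by
      rw [card_map_conj]
      exact hcop.coprime_dvd_right (Subgroup.card_dvd_of_le hN')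
    obtain ⟨m, hm, hBm⟩ := ih _ hlt _ B hA1 hcop' this hle (by rw [card_map_conj, hcard])
    exact ⟨m * n, mul_mem (hN' hm) hn, by rw [hBm, map_conj_conj]⟩

theorem exists_conj_of_coprime_of_isSolvable_right [Finite X] :
    ∀ (A N B : Subgroup X), A ≤ Subgroup.normalizer (N : Set X) →
      (Nat.card A).Coprime (Nat.card N) → Group.IsSolvable A → B ≤ N ⊔ A →
      Nat.card B = Nat.card A → ∃ n ∈ N, B = A.map (MulAut.conj n).toMonoidHom := by
  intro A
  induction A using WellFoundedLT.induction with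
  | ind A ih =>
    intro N B hAN hcop hsol hB hcard
    by_cases hA : A = ⊥
    · subst hA
      refine ⟨1, one_mem _, ?_⟩
      rw [map_conj_one]
      exact Subgroup.card_eq_one.mp (hcard.trans Subgroup.card_bot)
    obtain ⟨f, hfB, hsurj, hcoc⟩ := exists_cocycle hAN hcop hB hcard
    -- the derived subgroup
    have hnt : Nontrivial A := (Subgroup.nontrivial_iff_ne_bot A).mpr hA
    have := hsol
    have hlt : ⁅A, A⁆ < A := by
      rw [← Subgroup.map_subtype_commutator]
      calc (commutator A).map A.subtype < (⊤ : Subgroup A).map A.subtype :=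
            Subgroup.map_subtype_lt_map_subtype.mpr
              (Group.IsSolvable.commutator_lt_top_of_nontrivial A)
        _ = A := by rw [← MonoidHom.range_eq_map, Subgroup.range_subtype]
    -- a maximal subgroup `A₀` containing the derived subgroup, and a Sylow complement to it
    obtain ⟨M, hM, hMle⟩ : ∃ M : Subgroup A, IsCoatom M ∧ commutator A ≤ M :=
      ((eq_top_or_exists_le_coatom (commutator A)).resolve_left
        (Group.IsSolvable.commutator_lt_top_of_nontrivial A).ne)
    have hMn : M.Normal := Subgroup.Normal.of_commutator_le _ hMle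
    obtain ⟨p, hp, hpdvd⟩ : ∃ p : ℕ, p.Prime ∧ p ∣ M.index :=
      Nat.exists_prime_and_dvd (fun h => hM.1 (Subgroup.index_eq_one.mp h))
    have : Fact p.Prime := ⟨hp⟩
    obtain ⟨P⟩ : Nonempty (Sylow p A) := inferInstance
    have hPM : ¬ (P : Subgroup A) ≤ M := fun h =>
      P.not_dvd_index (hpdvd.trans (Subgroup.index_dvd_of_le h))
    have hgen : M ⊔ (P : Subgroup A) = ⊤ :=
      (lt_or_eq_of_le le_sup_left).elim (hM.2 _)
        (fun h => absurd (h ▸ le_sup_right) hPM)
    let A₀ : Subgroup X := M.map A.subtype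
    let R : Subgroup X := (P : Subgroup A).map A.subtype
    have hA0A : A₀ ≤ A := Subgroup.map_subtype_le M
    have hRA : R ≤ A := Subgroup.map_subtype_le _
    have hgen' : A₀ ⊔ R = A := by
      rw [← Subgroup.map_sup, hgen, ← MonoidHom.range_eq_map, Subgroup.range_subtype]
    have hA0lt : A₀ < A := by
      calc A₀ < (⊤ : Subgroup A).map A.subtype :=
            Subgroup.map_subtype_lt_map_subtype.mpr hM.lt_top
        _ = A := by rw [← MonoidHom.range_eq_map, Subgroup.range_subtype]
    -- the part of `B` over `A₀`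
    have hA0sol : Group.IsSolvable A₀ :=
      Group.isSolvable_of_isSolvable_injective (f := Subgroup.inclusion hA0A)
        (Subgroup.inclusion_injective _)
    have hd : Disjoint N A := disjoint_of_coprime_card hcop.symm
    let B₀ : Subgroup X := B ⊓ (N ⊔ A₀)
    have hB0mem : ∀ a : A, (a : X) ∈ A₀ → (f a : X) * a ∈ B₀ := fun a ha =>
      ⟨hfB a, Subgroup.mul_mem_sup (f a).2 ha⟩
    have hB0card : Nat.card B₀ = Nat.card A₀ := by
      refine (Nat.card_congr (Equiv.ofBijective
        (fun a : A₀ => (⟨_, hB0mem ⟨a, hA0A a.2⟩ a.2⟩ : B₀)) ⟨?_, ?_⟩)).symm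
      · intro a a' h
        simp only [Subtype.ext_iff] at h
        exact Subtype.ext (eq_of_mul_eq_mul_of_disjoint hd (f _).2 (f _).2 (hA0A a.2) (hA0A a'.2) h).2
      · rintro ⟨b, hb, hb'⟩
        obtain ⟨a, rfl⟩ := hsurj b hb
        obtain ⟨n, hn, a', ha', h⟩ := exists_mul_of_mem_sup (hA0A.trans hAN) hb'
        have ha : (a : X) = a' :=
          (eq_of_mul_eq_mul_of_disjoint hd (f a).2 hn a.2 (hA0A ha') h).2
        have ha0 : (a : X) ∈ A₀ := ha ▸ ha'
        exact ⟨⟨a, ha0⟩, rfl⟩
    obtain ⟨n, hn, hn0⟩ := ih A₀ hA0lt N B₀ (hA0A.trans hAN)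
      (hcop.coprime_dvd_left (Subgroup.card_dvd_of_le hA0A)) hA0sol inf_le_right hB0card
    -- replace `A` by its conjugate `A₁`, sharing `B₀` with `B`
    let A₁ : Subgroup X := A.map (MulAut.conj n).toMonoidHom
    let R₁ : Subgroup X := R.map (MulAut.conj n).toMonoidHom
    have hA1 : A₁ = B₀ ⊔ R₁ := by rw [hn0, ← Subgroup.map_sup, hgen']
    have hnN : n ∈ Subgroup.normalizer (N : Set X) := Subgroup.le_normalizer hn
    have hsup1 : N ⊔ A₁ = N ⊔ A := by
      apply le_antisymm
      · refine sup_le le_sup_left ?_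
        rintro _ ⟨a, ha, rfl⟩
        simp only [MulEquiv.coe_toMonoidHom, MulAut.conj_apply]
        exact mul_mem (mul_mem ((le_sup_left : N ≤ N ⊔ A) hn) ((le_sup_right : A ≤ N ⊔ A) ha))
          (inv_mem ((le_sup_left : N ≤ N ⊔ A) hn))
      · refine sup_le le_sup_left ?_
        intro a ha
        have h1 : n * a * n⁻¹ ∈ N ⊔ A₁ := (le_sup_right : A₁ ≤ N ⊔ A₁) ⟨a, ha, rfl⟩
        have h2 : n ∈ N ⊔ A₁ := (le_sup_left : N ≤ N ⊔ A₁) hn
        simpa [mul_assoc] using mul_mem (mul_mem (inv_mem h2) h1) h2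
    -- `B₀` is normalized by `A₁` and by `B`
    have hA1N : A₁ ≤ Subgroup.normalizer (N : Set X) :=
      (le_sup_right.trans hsup1.le).trans (sup_le Subgroup.le_normalizer hAN)
    have hA0n : A ≤ Subgroup.normalizer (A₀ : Set X) := by
      have := (Subgroup.le_normalizer_map A.subtype (H := M))
      rw [Subgroup.normalizer_eq_top, ← MonoidHom.range_eq_map, Subgroup.range_subtype] at this
      exact this
    have hB0A1 : A₁ ≤ Subgroup.normalizer (B₀ : Set X) := by
      rw [hn0]
      exact (Subgroup.map_mono hA0n).trans (Subgroup.le_normalizer_map _)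
    have hB0B : B₀ ≤ B := inf_le_left
    have hBnorm : B ≤ Subgroup.normalizer (B₀ : Set X) := by
      refine Subgroup.le_normalizer_iff.mpr fun b hb x hx => Subgroup.mem_inf.mpr ⟨?_, ?_⟩
      · exact mul_mem (mul_mem hb hx.1) (inv_mem hb)
      · obtain ⟨m, hm, a', ha', rfl⟩ := exists_mul_of_mem_sup hAN (hB hb)
        refine conj_mem_of_mem_normalizer (mul_mem ?_ ?_) hx.2
        · exact Subgroup.le_normalizer ((le_sup_left : N ≤ N ⊔ A₀) hm)
        · exact Subgroup.normalizer_inf_normalizer_le_normalizer_sup _ _ ⟨hAN ha', hA0n ha'⟩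
    -- work inside `C ⊔ A₁` with `C = N_N(B₀)`
    let C : Subgroup X := N ⊓ Subgroup.normalizer (B₀ : Set X)
    have hA1C : A₁ ≤ Subgroup.normalizer (C : Set X) :=
      (le_inf hA1N (hB0A1.trans Subgroup.le_normalizer)).trans
        Subgroup.inf_normalizer_le_normalizer_inf
    have hBC : B ≤ C ⊔ A₁ := by
      intro b hb
      obtain ⟨m, hm, a, ha, rfl⟩ := exists_mul_of_mem_sup hA1N (hsup1.symm ▸ hB hb : b ∈ N ⊔ A₁)
      refine Subgroup.mul_mem_sup ⟨hm, ?_⟩ ha
      simpa [mul_assoc] using mul_mem (hBnorm hb) (inv_mem (hB0A1 ha))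
    have hcopC : (Nat.card A₁).Coprime (Nat.card C) := by
      rw [card_map_conj]
      exact hcop.coprime_dvd_right (Subgroup.card_dvd_of_le inf_le_left)
    let H : Subgroup X := C ⊔ A₁
    have hcardH : Nat.card H = Nat.card C * Nat.card A := by
      rw [card_sup_of_disjoint hA1C (disjoint_of_coprime_card hcopC.symm), card_map_conj]
    have hpA : p ∣ Nat.card A := hpdvd.trans M.index_dvd_card
    have hpC : ¬ p ∣ Nat.card C := fun h =>
      hp.one_lt.ne' (Nat.eq_one_of_dvd_coprimes hcopC (by rwa [card_map_conj]) h)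
    have hfac : (Nat.card H).factorization p = (Nat.card A).factorization p := by
      rw [hcardH, Nat.factorization_mul Nat.card_pos.ne' Nat.card_pos.ne']
      simp [Nat.factorization_eq_zero_of_not_dvd hpC]
    have hR1card : Nat.card R₁ = p ^ (Nat.card H).factorization p := by
      rw [card_map_conj, hfac, Subgroup.card_map_of_injective A.subtype_injective]
      exact P.card_eq_multiplicity
    have hR1A1 : R₁ ≤ A₁ := Subgroup.map_mono hRA
    have hR1H : R₁ ≤ H := hR1A1.trans le_sup_right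
    -- a Sylow `p`-subgroup of `B`
    obtain ⟨Q⟩ : Nonempty (Sylow p B) := inferInstance
    let Q' : Subgroup X := (Q : Subgroup B).map B.subtype
    have hQB : Q' ≤ B := Subgroup.map_subtype_le _
    have hQH : Q' ≤ H := hQB.trans hBC
    have hQcard : Nat.card Q' = p ^ (Nat.card H).factorization p := by
      rw [Subgroup.card_map_of_injective B.subtype_injective, hfac, ← hcard]
      exact Q.card_eq_multiplicity
    let S₁ : Sylow p H := Sylow.ofCard (R₁.subgroupOf H) (by
      rw [Nat.card_congr (Subgroup.subgroupOfEquivOfLe hR1H).toEquiv, hR1card])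
    let S₂ : Sylow p H := Sylow.ofCard (Q'.subgroupOf H) (by
      rw [Nat.card_congr (Subgroup.subgroupOfEquivOfLe hQH).toEquiv, hQcard])
    obtain ⟨g, hg⟩ := MulAction.exists_smul_eq H S₁ S₂
    have hgQ : ∀ x ∈ Q', (g : X)⁻¹ * x * g ∈ R₁ := by
      intro x hx
      have h1 : (⟨x, hQH hx⟩ : H) ∈ (S₂ : Subgroup H) := hx
      rw [← hg, Sylow.coe_subgroup_smul, Subgroup.mem_pointwise_smul_iff_inv_smul_mem] at h1
      rw [MulAut.smul_def, MulAut.conj_inv_apply] at h1
      exact h1
    obtain ⟨c, hc, a, ha, hga⟩ := exists_mul_of_mem_sup hA1C g.2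
    have hcQ : Q' ≤ A₁.map (MulAut.conj c).toMonoidHom := by
      intro x hx
      rw [mem_map_conj_iff]
      have h := hR1A1 (hgQ x hx)
      rw [hga] at h
      simpa [mul_assoc] using mul_mem (mul_mem ha h) (inv_mem ha)
    have hcB0 : B₀ ≤ A₁.map (MulAut.conj c).toMonoidHom := by
      intro x hx
      rw [mem_map_conj_iff, hA1]
      refine (le_sup_left : B₀ ≤ B₀ ⊔ R₁) ?_
      simpa [mul_assoc] using conj_mem_of_mem_normalizer (inv_mem hc.2) hx
    -- `B₀` and `Q'` generate `B`
    have hidx : ∃ k, M.index = p ^ k := by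
      have hs : Function.Surjective ((QuotientGroup.mk' M).comp (P : Subgroup A).subtype) := by
        intro y
        obtain ⟨y, rfl⟩ := QuotientGroup.mk'_surjective M y
        obtain ⟨m, hm, r, hr, rfl⟩ := exists_mul_of_mem_sup Subgroup.le_normalizer_of_normal
          (hgen.symm ▸ Subgroup.mem_top y : y ∈ M ⊔ (P : Subgroup A))
        exact ⟨⟨r, hr⟩, by simp [(QuotientGroup.eq_one_iff m).mpr hm]⟩
      have hq := Subgroup.card_dvd_of_surjective _ hs
      rw [P.card_eq_multiplicity] at hq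
      obtain ⟨k, -, hk⟩ := (Nat.dvd_prime_pow hp).mp hq
      exact ⟨k, hk⟩
    obtain ⟨k, hk⟩ := hidx
    have hidx0 : (B₀.subgroupOf B).index = p ^ k := by
      have h1 := (B₀.subgroupOf B).index_mul_card
      rw [Nat.card_congr (Subgroup.subgroupOfEquivOfLe hB0B).toEquiv, hB0card,
        Subgroup.card_map_of_injective A.subtype_injective, hcard, ← M.index_mul_card] at h1
      rw [← hk]
      exact Nat.eq_of_mul_eq_mul_right Nat.card_pos h1
    have hQsup : B ≤ B₀ ⊔ Q' := by
      rw [← Subgroup.subgroupOf_eq_top, ← Subgroup.index_eq_one]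
      obtain ⟨j, -, hj⟩ := (Nat.dvd_prime_pow hp).mp (hidx0 ▸ Subgroup.index_dvd_of_le
        (Subgroup.comap_mono (le_sup_left : B₀ ≤ B₀ ⊔ Q') :
          B₀.subgroupOf B ≤ (B₀ ⊔ Q').subgroupOf B))
      rcases Nat.eq_zero_or_pos j with hj0 | hj0
      · exact hj.trans (by rw [hj0, pow_zero])
      · refine absurd ?_ Q.not_dvd_index
        refine (dvd_pow_self p hj0.ne').trans (hj ▸ Subgroup.index_dvd_of_le ?_)
        intro x hx
        exact (le_sup_right : Q' ≤ B₀ ⊔ Q') ⟨x, hx, rfl⟩
    refine ⟨c * n, mul_mem hc.1 hn, ?_⟩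
    rw [← map_conj_conj]
    refine Subgroup.eq_of_le_of_card_ge (hQsup.trans (sup_le hcB0 hcQ)) ?_
    rw [card_map_conj, card_map_conj, hcard]

/-- Schur-Zassenhaus conjugacy in ambient form. -/
theorem exists_conj_of_coprime [Finite X] (N A B : Subgroup X)
    (hAN : A ≤ Subgroup.normalizer (N : Set X)) (hcop : (Nat.card A).Coprime (Nat.card N))
    (hsol : Group.IsSolvable A ∨ Group.IsSolvable N) (hB : B ≤ N ⊔ A)
    (hcard : Nat.card B = Nat.card A) : ∃ n ∈ N, B = A.map (MulAut.conj n).toMonoidHom :=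
  hsol.elim (fun h => exists_conj_of_coprime_of_isSolvable_right A N B hAN hcop h hB hcard)
    (fun h => exists_conj_of_coprime_of_isSolvable_left N A B hAN hcop h hB hcard)

end Cfsg.Lib.Coprime
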