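import Mathlib

/-!
# Class sizes of products, and Neumann's bound for groups with bounded classes
-/

set_option autoImplicit false

namespace Cfsg.Lib.Coprime.ClassBound

open scoped commutatorElement

variable {G : Type*} [Group G]

/-- The size of the conjugacy class, as the index of the centraliser. -/
noncomputable def cls (x : G) : ℕ := (Subgroup.centralizer ({x} : Set G)).index

theorem cls_mul_le [Finite G] (x y : G) : cls (x * y) ≤ cls x * cls y := by
  refine le_trans (Nat.le_of_dvd (Nat.pos_of_ne_zero Subgroup.index_ne_zero_of_finite)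
    (Subgroup.index_dvd_of_le ?_)) Subgroup.index_inf_le
  rintro g ⟨h1, h2⟩
  rw [Subgroup.mem_centralizer_iff]
  rintro z rfl
  replace h1 := Subgroup.mem_centralizer_iff.mp h1 x rfl
  replace h2 := Subgroup.mem_centralizer_iff.mp h2 y rfl
  rw [mul_assoc, h2, ← mul_assoc, h1, mul_assoc]

theorem cls_one : cls (1 : G) = 1 := by
  rw [cls, Subgroup.index_eq_one]
  ext g
  simp [Subgroup.mem_centralizer_iff]

theorem cls_pos [Finite G] (x : G) : 0 < cls x :=
  Nat.pos_of_ne_zero Subgroup.index_ne_zero_of_finite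

theorem cls_list_prod_le [Finite G] (l : List G) {M : ℕ} (h : ∀ x ∈ l, cls x ≤ M) :
    cls l.prod ≤ M ^ l.length := by
  induction l with
  | nil => simp [cls_one]
  | cons a l ih =>
    rw [List.prod_cons, List.length_cons, pow_succ']
    exact (cls_mul_le _ _).trans (Nat.mul_le_mul (h a List.mem_cons_self)
      (ih fun x hx => h x (List.mem_cons_of_mem _ hx)))

/-- The conjugates of `x`. -/
def conjSet (x : G) : Set G := Set.range fun g : G => g * x * g⁻¹

theorem card_conjSet (x : G) : Nat.card (conjSet x) = cls x := by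
  symm
  refine Nat.card_congr (Equiv.ofBijective
    (fun c : G ⧸ Subgroup.centralizer ({x} : Set G) =>
      (⟨c.out * x * (c.out)⁻¹, c.out, rfl⟩ : conjSet x)) ⟨?_, ?_⟩)
  · intro c d hcd
    rw [← QuotientGroup.out_eq' c, ← QuotientGroup.out_eq' d, QuotientGroup.eq,
      Subgroup.mem_centralizer_iff]
    rintro z rfl
    have h : c.out * z * (c.out)⁻¹ = d.out * z * (d.out)⁻¹ := congrArg Subtype.val hcd
    calc z * ((c.out)⁻¹ * d.out) = (c.out)⁻¹ * (c.out * z * (c.out)⁻¹) * d.out := by
          simp [mul_assoc]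
      _ = (c.out)⁻¹ * (d.out * z * (d.out)⁻¹) * d.out := by rw [h]
      _ = (c.out)⁻¹ * d.out * z := by simp [mul_assoc]
  · rintro ⟨_, g, rfl⟩
    refine ⟨(g : G ⧸ Subgroup.centralizer ({x} : Set G)), Subtype.ext ?_⟩
    obtain ⟨k, hk⟩ := QuotientGroup.mk_out_eq_mul (Subgroup.centralizer ({x} : Set G)) g
    show _ * x * _⁻¹ = g * x * g⁻¹
    rw [hk, mul_inv_rev, mul_assoc g, ← Subgroup.mem_centralizer_iff.mp k.2 x rfl]
    simp [mul_assoc]

theorem cls_map_mulEquiv (e : G ≃* G) (x : G) : cls (e x) = cls x := by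
  rw [← card_conjSet, ← card_conjSet]
  refine (Nat.card_congr (Equiv.subtypeEquiv e.toEquiv fun y => ?_)).symm
  show y ∈ conjSet x ↔ e y ∈ conjSet (e x)
  constructor
  · rintro ⟨g, rfl⟩
    exact ⟨e g, by simp⟩
  · rintro ⟨g, hg⟩
    exact ⟨e.symm g, e.injective (by simpa using hg)⟩

/-- Neumann: if all conjugacy classes have size at most `n`, then there are boundedly many
commutators. -/
theorem card_commutatorSet_le [Finite G] (n : ℕ) (h : ∀ x : G, cls x ≤ n) :
    Nat.card (commutatorSet G) ≤ n ^ n * (n * (n * n)) := by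
  classical
  obtain ⟨x, hx⟩ := Finite.exists_max (fun y : G => cls y)
  haveI : Fintype (conjSet x) := Fintype.ofFinite _
  have ht : ∀ o : conjSet x, ∃ t : G, t * x * t⁻¹ = o := fun o => o.2
  choose t ht using ht
  let U : Subgroup G := ⨅ o : conjSet x, Subgroup.centralizer ({t o} : Set G)
  have hU : U.index ≤ n ^ n := by
    refine (Subgroup.index_iInf_le _).trans ?_
    refine (Finset.prod_le_pow_card _ _ n fun o _ => h _).trans ?_
    rw [Finset.card_univ, ← Nat.card_eq_fintype_card, card_conjSet]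
    exact Nat.pow_le_pow_right ((cls_pos x).trans_le (h x)) (h x)
  -- commutators with elements of `U` lie in a fixed small set
  have hD : ∀ g : G, ∀ u ∈ U, ∃ o o' : conjSet x, ⁅g, u⁆ = (o : G)⁻¹ * o' := by
    intro g u hu
    have hcomm : ∀ o : conjSet x, u * t o = t o * u := fun o => by
      have := (Subgroup.mem_iInf.mp hu o)
      exact (Subgroup.mem_centralizer_iff.mp this _ rfl).symm
    let F : conjSet x → conjSet (x * u) := fun o => ⟨(o : G) * u, t o, by
      show t o * (x * u) * (t o)⁻¹ = _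
      have h3 : u * (t o)⁻¹ = (t o)⁻¹ * u := by
        rw [eq_inv_mul_iff_mul_eq, ← mul_assoc, ← hcomm o, mul_inv_cancel_right]
      rw [← ht o]
      simp only [mul_assoc, h3]⟩
    have hinj : Function.Injective F := fun o o' hoo => by
      have := congrArg Subtype.val hoo
      exact Subtype.ext (mul_right_cancel this)
    have hsurj : Function.Surjective F := by
      refine (Function.Injective.bijective_of_nat_card_le hinj ?_).2
      rw [card_conjSet, card_conjSet]
      exact hx _
    obtain ⟨o', ho'⟩ := hsurj ⟨g * (x * u) * g⁻¹, g, rfl⟩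
    refine ⟨⟨g * x * g⁻¹, g, rfl⟩, o', ?_⟩
    have h1 : (o' : G) * u = g * (x * u) * g⁻¹ := congrArg Subtype.val ho'
    have h2 : (o' : G) = g * (x * u) * g⁻¹ * u⁻¹ := by rw [← h1, mul_inv_cancel_right]
    rw [h2, commutatorElement_def]
    simp [mul_assoc]
  haveI : Fintype (G ⧸ U) := Fintype.ofFinite _
  let S : Type _ := Σ c : G ⧸ U, conjSet c.out × (conjSet x × conjSet x)
  let f : S → G := fun s => (s.2.1 : G) * (s.1.out)⁻¹ *
    (s.1.out * ((s.2.2.1 : G)⁻¹ * s.2.2.2) * (s.1.out)⁻¹)
  have hsub : commutatorSet G ⊆ Set.range f := by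
    rintro z ⟨g, b, rfl⟩
    set c : G ⧸ U := (b : G ⧸ U)
    have hcu : (c.out)⁻¹ * b ∈ U := QuotientGroup.eq.mp (QuotientGroup.out_eq' c)
    obtain ⟨o, o', hoo⟩ := hD g _ hcu
    refine ⟨⟨c, ⟨g * c.out * g⁻¹, g, rfl⟩, o, o'⟩, ?_⟩
    simp only [f, ← hoo, commutatorElement_def]
    simp [mul_assoc]
  rw [Nat.card_coe_set_eq]
  refine (Set.ncard_le_ncard hsub (Set.toFinite _)).trans ?_
  rw [← Nat.card_coe_set_eq]
  refine (Finite.card_range_le f).trans ?_
  rw [Nat.card_sigma]
  refine (Finset.sum_le_card_nsmul _ _ (n * (n * n)) fun c _ => ?_).trans ?_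
  · rw [Nat.card_prod, Nat.card_prod, card_conjSet, card_conjSet]
    exact Nat.mul_le_mul (h _) (Nat.mul_le_mul (h _) (h _))
  · rw [Finset.card_univ, ← Nat.card_eq_fintype_card, smul_eq_mul]
    exact Nat.mul_le_mul_right _ hU

/-- Neumann's theorem: the derived subgroup of a finite group with bounded classes is bounded. -/
theorem card_commutator_le [Finite G] (n : ℕ) (h : ∀ x : G, cls x ≤ n) :
    Nat.card (commutator G) ≤ (Finset.range (n ^ n * (n * (n * n)) + 1)).sup
      Subgroup.cardCommutatorBound := by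
  refine (Subgroup.card_commutator_le_of_finite_commutatorSet G).trans ?_
  exact Finset.le_sup (Finset.mem_range.mpr (Nat.lt_succ_of_le (card_commutatorSet_le n h)))

end Cfsg.Lib.Coprime.ClassBound
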