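import Cfsg.Agent.Lib.Coprime.Generation
import Cfsg.Agent.Lib.Core.PSolvable
import Mathlib.GroupTheory.Transfer
import Mathlib.GroupTheory.Nilpotent

/-!
# Generation of fixed points inside `Y = [Y, A]`

For `A` abelian acting coprimely on a solvable group `Y = [Y, A]` and `B ≤ A`, the fixed points
`C_Y(B)` are generated by the `C_{[C_Y(D), A]}(B)`, `D` running over the subgroups of `B` with
`B / D` cyclic.
-/

set_option autoImplicit false
set_option linter.unusedSectionVars false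
set_option linter.style.haveILetI false

namespace Cfsg.Lib.Coprime.FixedGen

open Subgroup
open scoped commutatorElement Pointwise

universe u

variable {X : Type u} [Group X]

/-- `D` is a subgroup of `B` with cyclic quotient. -/
def Good (B D : Subgroup X) : Prop :=
  D ≤ B ∧ ∀ [(D.subgroupOf B).Normal], IsCyclic (↥B ⧸ D.subgroupOf B)

/-- The subgroup generated by the fixed points in the `[C_Y(D), A]`. -/
def fixGen (A B Y : Subgroup X) : Subgroup X :=
  ⨆ D : {D : Subgroup X // Good B D},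
    Y ⊓ centralizer (B : Set X) ⊓ ⁅Y ⊓ centralizer ((D : Subgroup X) : Set X), A⁆

theorem subgroupOf_normal_of_comm {B : Subgroup X} (hB : IsMulCommutative B) (D : Subgroup X) :
    (D.subgroupOf B).Normal :=
  ⟨fun n hn g => by rwa [mul_comm' g n, mul_inv_cancel_right]⟩

theorem isMulCommutative_of_le {A B : Subgroup X} (hA : IsMulCommutative A) (hB : B ≤ A) :
    IsMulCommutative B :=
  ⟨⟨fun a b => Subtype.ext (show (a : X) * b = b * a from congrArg Subtype.val
    (mul_comm' (⟨(a : X), hB a.2⟩ : A) ⟨(b : X), hB b.2⟩))⟩⟩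

theorem good_self (B : Subgroup X) : Good B B := by
  refine ⟨le_rfl, fun {hN} => ?_⟩
  haveI : Subsingleton (↥B ⧸ B.subgroupOf B) := by
    rw [subgroupOf_self]
    exact QuotientGroup.subsingleton_quotient_top
  exact isCyclic_of_subsingleton

theorem good_of_cocyclic {A B D : Subgroup X} (hA : IsMulCommutative A) (hB : B ≤ A)
    (hD : D ∈ cocyclic A) : Good B (D ⊓ B) := by
  obtain ⟨hDA, a, ha, hsup⟩ := hD
  refine ⟨inf_le_right, fun {hN} => ?_⟩
  haveI := subgroupOf_normal_of_comm hA D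
  haveI : IsCyclic (↥A ⧸ D.subgroupOf A) := by
    refine ⟨⟨((⟨a, ha⟩ : A) : ↥A ⧸ D.subgroupOf A), fun q => ?_⟩⟩
    obtain ⟨⟨x, hx⟩, rfl⟩ := QuotientGroup.mk_surjective q
    have hx' : x ∈ D ⊔ zpowers a := hsup.symm ▸ hx
    have hnorm : zpowers a ≤ normalizer (D : Set X) := by
      refine Subgroup.le_normalizer_iff.mpr fun b hb d hd => ?_
      have h : b * d = d * b := congrArg Subtype.val
        (mul_comm' (⟨b, zpowers_le.2 ha hb⟩ : A) ⟨d, hDA hd⟩)
      rwa [h, mul_inv_cancel_right]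
    rw [← SetLike.mem_coe, coe_mul_of_right_le_normalizer_left D (zpowers a) hnorm] at hx'
    obtain ⟨d, hd, z, hz, hdz⟩ := hx'
    obtain ⟨k, rfl⟩ := mem_zpowers_iff.1 hz
    refine ⟨k, ?_⟩
    show ((⟨a, ha⟩ : A) : ↥A ⧸ D.subgroupOf A) ^ k = _
    rw [← QuotientGroup.mk_zpow, QuotientGroup.eq, mem_subgroupOf]
    have hc : a ^ k * d = d * a ^ k := congrArg Subtype.val
      (mul_comm' (⟨a ^ k, zpow_mem ha k⟩ : A) ⟨d, hDA hd⟩)
    simp only [Subgroup.coe_mul, Subgroup.coe_inv, SubgroupClass.coe_zpow]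
    rw [← hdz]
    show (a ^ k)⁻¹ * (d * a ^ k) ∈ D
    rwa [← hc, inv_mul_cancel_left]
  refine isCyclic_of_injective (QuotientGroup.map ((D ⊓ B).subgroupOf B) (D.subgroupOf A)
    (inclusion hB) fun b hb => (Subgroup.mem_inf.1 (mem_subgroupOf.1 hb)).1) ?_
  refine (injective_iff_map_eq_one _).2 fun q hq => ?_
  obtain ⟨b, rfl⟩ := QuotientGroup.mk_surjective q
  replace hq := (QuotientGroup.eq_one_iff _).1 hq
  exact (QuotientGroup.eq_one_iff b).2 ⟨hq, b.2⟩

theorem good_map {Z : Type u} [Group Z] (f : X →* Z) {B D : Subgroup X} (hB : IsMulCommutative B)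
    (hD : Good B D) : Good (B.map f) (D.map f) := by
  refine ⟨Subgroup.map_mono hD.1, fun {hN} => ?_⟩
  haveI := subgroupOf_normal_of_comm hB D
  haveI : IsCyclic (↥B ⧸ D.subgroupOf B) := hD.2
  refine isCyclic_of_surjective (QuotientGroup.map (D.subgroupOf B) ((D.map f).subgroupOf (B.map f))
    (f.subgroupMap B) fun b hb => ⟨b, mem_subgroupOf.1 hb, rfl⟩) fun q => ?_
  obtain ⟨y, rfl⟩ := QuotientGroup.mk_surjective q
  obtain ⟨b, rfl⟩ := f.subgroupMap_surjective B y
  exact ⟨(b : ↥B ⧸ D.subgroupOf B), rfl⟩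

theorem exists_good_preimage {Z : Type u} [Group Z] (f : X →* Z) {B : Subgroup X}
    (hB : IsMulCommutative B) {E : Subgroup Z} (hE : Good (B.map f) E) :
    ∃ D, Good B D ∧ D.map f = E := by
  refine ⟨B ⊓ E.comap f, ⟨inf_le_left, fun {hN} => ?_⟩, ?_⟩
  · haveI : IsMulCommutative (B.map f) := ⟨⟨by
      rintro ⟨_, a, ha, rfl⟩ ⟨_, b, hb, rfl⟩
      refine Subtype.ext ?_
      show f a * f b = f b * f a
      rw [← map_mul, ← map_mul]
      exact congrArg f (congrArg Subtype.val (mul_comm' (⟨a, ha⟩ : B) ⟨b, hb⟩))⟩⟩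
    haveI := subgroupOf_normal_of_comm (B := B.map f) inferInstance E
    haveI : IsCyclic (↥(B.map f) ⧸ E.subgroupOf (B.map f)) := hE.2
    refine isCyclic_of_injective (QuotientGroup.map ((B ⊓ E.comap f).subgroupOf B)
      (E.subgroupOf (B.map f)) (f.subgroupMap B) fun b hb => (Subgroup.mem_inf.1 (mem_subgroupOf.1 hb)).2) ?_
    refine (injective_iff_map_eq_one _).2 fun q hq => ?_
    obtain ⟨b, rfl⟩ := QuotientGroup.mk_surjective q
    replace hq := (QuotientGroup.eq_one_iff _).1 hq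
    exact (QuotientGroup.eq_one_iff b).2 ⟨b.2, hq⟩
  · refine le_antisymm (Subgroup.map_le_iff_le_comap.2 inf_le_right) fun e he => ?_
    obtain ⟨b, hb, rfl⟩ := hE.1 he
    exact ⟨b, ⟨hb, he⟩, rfl⟩

theorem comm_subgroupOf {A : Subgroup X} (hA : IsMulCommutative A) (H : Subgroup X) :
    IsMulCommutative (A.subgroupOf H) :=
  ⟨⟨fun a b => Subtype.ext (Subtype.ext (show ((a : H) : X) * (b : H) = (b : H) * (a : H) from
    congrArg Subtype.val (mul_comm' (⟨((a : H) : X), a.2⟩ : A) ⟨((b : H) : X), b.2⟩)))⟩⟩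

/-- The data of the theorem. -/
structure Hyp (A B Y : Subgroup X) : Prop where
  comm : IsMulCommutative A
  le : B ≤ A
  norm : A ≤ normalizer (Y : Set X)
  cop : (Nat.card A).Coprime (Nat.card Y)
  sol : Group.IsSolvable Y
  gen : ⁅Y, A⁆ = Y

theorem card_map_mk_lt [Finite X] {N Y : Subgroup X} [N.Normal] (hN : N ≠ ⊥) (hNY : N ≤ Y) :
    Nat.card (Y.map (QuotientGroup.mk' N)) < Nat.card Y := by
  have h1 : N.relIndex Y = Nat.card (Y.map (QuotientGroup.mk' N)) := by
    have := Subgroup.relIndex_ker Y (QuotientGroup.mk' N)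
    rwa [QuotientGroup.ker_mk'] at this
  have h2 : Nat.card N * N.relIndex Y = Nat.card Y := by
    rw [← relIndex_bot_left N, ← relIndex_bot_left Y]
    exact relIndex_mul_relIndex ⊥ N Y bot_le hNY
  rw [h1] at h2
  have h3 : 1 < Nat.card N := (one_lt_card_iff_ne_bot N).2 hN
  have h4 : 0 < Nat.card (Y.map (QuotientGroup.mk' N)) := Nat.card_pos
  nlinarith

theorem sup_map_mk_eq_top {A Y : Subgroup X} (N : Subgroup X) [N.Normal] (htop : Y ⊔ A = ⊤) :
    Y.map (QuotientGroup.mk' N) ⊔ A.map (QuotientGroup.mk' N) = ⊤ := by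
  rw [← Subgroup.map_sup, htop, ← MonoidHom.range_eq_map, MonoidHom.range_eq_top]
  exact QuotientGroup.mk'_surjective N

theorem Hyp.map_mk [Finite X] {A B Y : Subgroup X} (h : Hyp A B Y) (N : Subgroup X) [N.Normal] :
    Hyp (A.map (QuotientGroup.mk' N)) (B.map (QuotientGroup.mk' N)) (Y.map (QuotientGroup.mk' N)) := by
  set f := QuotientGroup.mk' N
  haveI := h.comm
  haveI := h.sol
  refine ⟨⟨⟨?_⟩⟩, Subgroup.map_mono h.le, (Subgroup.map_mono h.norm).trans (le_normalizer_map f),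
    (h.cop.coprime_dvd_left (card_map_dvd _ f)).coprime_dvd_right (card_map_dvd _ f),
    Group.isSolvable_of_surjective (f.subgroupMap_surjective Y), by rw [← Subgroup.map_commutator, h.gen]⟩
  rintro ⟨_, a, ha, rfl⟩ ⟨_, b, hb, rfl⟩
  refine Subtype.ext ?_
  show f a * f b = f b * f a
  rw [← map_mul, ← map_mul]
  exact congrArg f (congrArg Subtype.val (mul_comm' (⟨a, ha⟩ : A) ⟨b, hb⟩))

theorem le_fixGen {A B Y D : Subgroup X} (hD : Good B D) :
    Y ⊓ centralizer (B : Set X) ⊓ ⁅Y ⊓ centralizer (D : Set X), A⁆ ≤ fixGen A B Y :=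
  le_iSup (fun D : {D : Subgroup X // Good B D} =>
    Y ⊓ centralizer (B : Set X) ⊓ ⁅Y ⊓ centralizer ((D : Subgroup X) : Set X), A⁆) ⟨D, hD⟩

theorem fixGen_le (A B Y : Subgroup X) : fixGen A B Y ≤ Y ⊓ centralizer (B : Set X) :=
  iSup_le fun _ => inf_le_left

theorem fixGen_mono {A B Y Y' : Subgroup X} (h : Y' ≤ Y) : fixGen A B Y' ≤ fixGen A B Y :=
  iSup_mono fun _ => inf_le_inf (inf_le_inf_right _ h)
    (commutator_mono (inf_le_inf_right _ h) le_rfl)

theorem map_fixGen_le {Z : Type u} [Group Z] (f : X →* Z) {A B Y : Subgroup X}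
    (hB : IsMulCommutative B) : (fixGen A B Y).map f ≤ fixGen (A.map f) (B.map f) (Y.map f) := by
  rw [fixGen, Subgroup.map_iSup]
  refine iSup_le fun D => le_trans ?_ (le_fixGen (good_map f hB D.2))
  have hc : ∀ S : Subgroup X,
      (Y ⊓ centralizer (S : Set X)).map f ≤ Y.map f ⊓ centralizer ((S.map f : Subgroup Z) : Set Z) :=
    fun S => le_inf (Subgroup.map_mono inf_le_left)
      ((Subgroup.map_mono inf_le_right).trans (map_centralizer_le_centralizer_image _ _))
  refine (Subgroup.map_inf_le _ _ f).trans (inf_le_inf (hc B) ?_)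
  rw [Subgroup.map_commutator]
  exact commutator_mono (hc _) le_rfl

variable [Finite X] {A B Y : Subgroup X}

theorem fixGen_map_le {Z : Type u} [Group Z] (f : X →* Z) (h : Hyp A B Y) :
    fixGen (A.map f) (B.map f) (Y.map f) ≤ (fixGen A B Y).map f := by
  haveI := h.comm
  have hB := isMulCommutative_of_le h.comm h.le
  have hsA : ∀ S ≤ A, A ≤ normalizer (S : Set X) := fun S hS =>
    Subgroup.le_normalizer_iff.mpr fun a ha b hb => by
      have e : a * b = b * a :=
        congrArg Subtype.val (mul_comm' (⟨a, ha⟩ : A) ⟨b, hS hb⟩)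
      rwa [e, mul_inv_cancel_right]
  refine iSup_le fun E => ?_
  obtain ⟨D, hD, hDE⟩ := exists_good_preimage f hB E.2
  rw [← hDE]
  have hDA : D ≤ A := hD.1.trans h.le
  rw [← map_inf_centralizer_eq f (hDA.trans h.norm)
    (h.cop.coprime_dvd_left (card_dvd_of_le hDA)) (Or.inr h.sol), ← Subgroup.map_commutator]
  set R := ⁅Y ⊓ centralizer (D : Set X), A⁆ with hR
  have hRY : R ≤ Y := (commutator_mono inf_le_left le_rfl).trans
    (commutator_le_of_le_normalizer h.norm)
  have hAR : A ≤ normalizer (R : Set X) := normalizer_commutator_ge_right _ _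
  have key := map_inf_centralizer_eq f (h.le.trans hAR)
    ((coprime_of_le hRY h.cop).coprime_dvd_left (card_dvd_of_le h.le)) (Or.inr (isSolvable_of_le hRY h.sol))
  intro y hy
  have hy' : y ∈ R.map f ⊓ centralizer ((B.map f : Subgroup Z) : Set Z) := ⟨hy.2, hy.1.2⟩
  rw [← key] at hy'
  obtain ⟨x, hx, rfl⟩ := hy'
  exact ⟨x, le_fixGen hD ⟨⟨hRY hx.1, hx.2⟩, hx.1⟩, rfl⟩

theorem le_iSup_good (h : Hyp A B Y) :
    Y ≤ ⨆ D : {D : Subgroup X // Good B D}, ⁅Y ⊓ centralizer ((D : Subgroup X) : Set X), A⁆ := by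
  haveI := h.comm
  conv_lhs => rw [← h.gen, ← iSup_commutator_centralizer_cocyclic_eq h.norm h.cop]
  refine iSup₂_le fun D hD => le_trans ?_ (le_iSup (fun D : {D : Subgroup X // Good B D} =>
    ⁅Y ⊓ centralizer ((D : Subgroup X) : Set X), A⁆) ⟨D ⊓ B, good_of_cocyclic h.comm h.le hD⟩)
  exact commutator_mono (inf_le_inf_left _ (centralizer_le inf_le_left)) le_rfl

theorem inf_centralizer_le_sup_commutator (h : Hyp A B Y) {N : Subgroup X} (hN : N ≤ Y)
    (hAN : A ≤ normalizer (N : Set X)) (hNA : N ⊓ centralizer (A : Set X) ≤ fixGen A B Y) :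
    N ⊓ centralizer (B : Set X) ≤ fixGen A B Y := by
  haveI := h.comm
  set T := N ⊓ centralizer (B : Set X) with hT
  have hBn : A ≤ normalizer (B : Set X) := Subgroup.le_normalizer_iff.mpr fun a ha b hb => by
    have e : a * b = b * a := congrArg Subtype.val (mul_comm' (⟨a, ha⟩ : A) ⟨b, h.le hb⟩)
    rwa [e, mul_inv_cancel_right]
  have hAT : A ≤ normalizer (T : Set X) := le_normalizer_inf_centralizer hAN hBn
  have hTY : T ≤ Y := inf_le_left.trans hN
  rw [← commutator_sup_centralizer_eq hAT (coprime_of_le hTY h.cop)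
    (Or.inr (isSolvable_of_le hTY h.sol))]
  refine sup_le ?_ ((inf_le_inf_right _ inf_le_left).trans hNA)
  refine le_trans (le_inf (le_inf ?_ ?_) ?_) (le_fixGen (good_self B))
  · exact (commutator_le_of_le_normalizer hAT).trans hTY
  · exact (commutator_le_of_le_normalizer hAT).trans inf_le_right
  · exact commutator_mono (inf_le_inf_right _ hN) le_rfl

/-- A commutator subgroup `[U, Y]` centralized by `U` is handled directly. -/
theorem commutator_inf_centralizer_le (h : Hyp A B Y) {U : Subgroup X} [U.Normal]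
    (hYn : Y.Normal) (hUY : U ≤ Y) (hU : ∀ u ∈ U, ∀ n ∈ ⁅U, Y⁆, u * n = n * u) :
    ⁅U, Y⁆ ⊓ centralizer (B : Set X) ≤ fixGen A B Y := by
  haveI := hYn
  haveI := h.comm
  set N := ⁅U, Y⁆ with hN
  have hNU : N ≤ U := commutator_le_left U Y
  have hNY : N ≤ Y := hNU.trans hUY
  haveI hNab : IsMulCommutative N :=
    ⟨⟨fun a b => Subtype.ext (hU a (hNU a.2) b b.2)⟩⟩
  have hBN : B ≤ normalizer (N : Set X) := le_normalizer_of_normal
  have hcopB : ∀ S ≤ Y, (Nat.card B).Coprime (Nat.card S) := fun S hS =>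
    (coprime_of_le hS h.cop).coprime_dvd_left (card_dvd_of_le h.le)
  set K := (N ⊓ fixGen A B Y) ⊔ ⁅N, B⁆ with hK
  have hNB : ⁅N, B⁆ ≤ N := commutator_le_of_le_normalizer hBN
  have hKN : K ≤ N := sup_le inf_le_left hNB
  have hmain : ∀ x ∈ Y, ∀ u ∈ U, ⁅u, x⁆ ∈ K := by
    let T : Subgroup X :=
      { carrier := {x | x ∈ Y ∧ ∀ u ∈ U, ⁅u, x⁆ ∈ K}
        one_mem' := ⟨one_mem _, fun u _ => by simp⟩
        mul_mem' := by
          rintro x y ⟨hx, hx'⟩ ⟨hy, hy'⟩
          refine ⟨mul_mem hx hy, fun u hu => ?_⟩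
          have e : ⁅u, x * y⁆ = ⁅u, x⁆ * (⁅⁅u, y⁆, x⁆⁻¹ * ⁅u, y⁆) := by
            simp only [commutatorElement_def]; group
          rw [e]
          exact mul_mem (hx' u hu) (mul_mem (inv_mem (hx' _ (hNU (hKN (hy' u hu))))) (hy' u hu))
        inv_mem' := by
          rintro x ⟨hx, hx'⟩
          refine ⟨inv_mem hx, fun u hu => ?_⟩
          have hn : x⁻¹ * u * x * u⁻¹ ∈ U := mul_mem (by
            simpa using Subgroup.Normal.conj_mem inferInstance u hu x⁻¹) (inv_mem hu)
          have e : ⁅u, x⁻¹⁆ = ⁅x⁻¹ * u * x, x⁆⁻¹ := by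
            simp only [commutatorElement_def]; group
          rw [e]
          exact inv_mem (hx' _ (by simpa using Subgroup.Normal.conj_mem inferInstance u hu x⁻¹)) }
    suffices hYT : Y ≤ T from fun x hx => (hYT hx).2
    refine (le_iSup_good h).trans (iSup_le fun D => fun x hx => ?_)
    have hDA : (D : Subgroup X) ≤ A := D.2.1.trans h.le
    have hxCY : x ∈ Y ⊓ centralizer ((D : Subgroup X) : Set X) :=
      commutator_le_of_le_normalizer (le_normalizer_inf_centralizer h.norm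
        (Subgroup.le_normalizer_iff.mpr fun a ha b hb => by
          have e : a * b = b * a := congrArg Subtype.val (mul_comm' (⟨a, ha⟩ : A) ⟨b, hDA hb⟩)
          rwa [e, mul_inv_cancel_right])) hx
    refine ⟨hxCY.1, fun u hu => ?_⟩
    let S : Subgroup X :=
      { carrier := {u | u ∈ U ∧ ⁅u, x⁆ ∈ K}
        one_mem' := ⟨one_mem _, by simp⟩
        mul_mem' := by
          rintro a b ⟨ha, ha'⟩ ⟨hb, hb'⟩
          refine ⟨mul_mem ha hb, ?_⟩
          have e : ⁅a * b, x⁆ = a * ⁅b, x⁆ * a⁻¹ * ⁅a, x⁆ := by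
            simp only [commutatorElement_def]; group
          rw [e, hU a ha _ (hKN hb'), mul_inv_cancel_right]
          exact mul_mem hb' ha'
        inv_mem' := by
          rintro a ⟨ha, ha'⟩
          refine ⟨inv_mem ha, ?_⟩
          have e : ⁅a⁻¹, x⁆ = a⁻¹ * ⁅a, x⁆⁻¹ * a⁻¹⁻¹ := by
            simp only [commutatorElement_def]; group
          rw [e, hU _ (inv_mem ha) _ (inv_mem (hKN ha')), mul_inv_cancel_right]
          exact inv_mem ha' }
    suffices hUS : U ≤ S from (hUS hu).2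
    have hDU : (D : Subgroup X) ≤ normalizer (U : Set X) := le_normalizer_of_normal
    rw [← commutator_sup_centralizer_eq hDU
      ((coprime_of_le hUY h.cop).coprime_dvd_left (card_dvd_of_le hDA))
      (Or.inr (isSolvable_of_le hUY h.sol))]
    refine sup_le (commutator_le.2 fun v hv d hd => ?_) fun v hv => ?_
    · refine ⟨commutator_le_of_le_normalizer hDU (commutator_mem_commutator hv hd), ?_⟩
      set n := ⁅v, x⁆ with hn
      have hnN : n ∈ N := commutator_mem_commutator hv hxCY.1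
      have hdx : d * x = x * d := mem_centralizer_iff.1 hxCY.2 d hd
      have e1 : ⁅⁅v, d⁆, x⁆ = v * ((d * v⁻¹ * d⁻¹) * x * (d * v⁻¹ * d⁻¹)⁻¹ * x⁻¹) * v⁻¹ * n := by
        simp only [hn, commutatorElement_def]; group
      have e2 : (d * v⁻¹ * d⁻¹) * x * (d * v⁻¹ * d⁻¹)⁻¹ * x⁻¹ = d * (v⁻¹ * n⁻¹ * v) * d⁻¹ := by
        have hdx' : d⁻¹ * x = x * d⁻¹ := by
          rw [eq_mul_inv_iff_mul_eq, mul_assoc, ← hdx, inv_mul_cancel_left]
        calc (d * v⁻¹ * d⁻¹) * x * (d * v⁻¹ * d⁻¹)⁻¹ * x⁻¹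
            = d * v⁻¹ * (d⁻¹ * x * d) * v * d⁻¹ * x⁻¹ := by group
          _ = d * v⁻¹ * x * v * (d⁻¹ * x⁻¹) := by
              rw [hdx', inv_mul_cancel_right]; group
          _ = d * v⁻¹ * x * v * (x⁻¹ * d⁻¹) := by rw [← mul_inv_rev, ← hdx, mul_inv_rev]
          _ = d * (v⁻¹ * n⁻¹ * v) * d⁻¹ := by
              simp only [hn, commutatorElement_def]; group
      have e3 : v⁻¹ * n⁻¹ * v = n⁻¹ := by
        rw [mul_assoc, ← hU v hv _ (inv_mem hnN), inv_mul_cancel_left]
      rw [e1, e2, e3]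
      have hd' : d * n⁻¹ * d⁻¹ ∈ N := Subgroup.Normal.conj_mem inferInstance _ (inv_mem hnN) d
      rw [hU v hv _ hd', mul_inv_cancel_right]
      refine (le_sup_right : ⁅N, B⁆ ≤ K) ?_
      have := inv_mem (commutator_mem_commutator (inv_mem hnN) (D.2.1 hd) (H₂ := B))
      convert this using 1
      simp [commutatorElement_def, mul_assoc]
    · refine ⟨hv.1, ?_⟩
      set E := N ⊓ ⁅Y ⊓ centralizer ((D : Subgroup X) : Set X), A⁆ with hE
      have hvn : ⁅v, x⁆ ∈ E := by
        refine ⟨commutator_mem_commutator hv.1 hxCY.1, ?_⟩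
        have hvY : v ∈ normalizer ((⁅Y ⊓ centralizer ((D : Subgroup X) : Set X), A⁆ : Subgroup X) : Set X) :=
          normalizer_commutator_ge_left _ _ ⟨hUY hv.1, hv.2⟩
        rw [commutatorElement_def]
        exact Subgroup.mul_mem _ ((Subgroup.mem_normalizer_iff.1 hvY x).1 hx) (Subgroup.inv_mem _ hx)
      have hBE : B ≤ normalizer (E : Set X) :=
        (le_inf hBN (h.le.trans (normalizer_commutator_ge_right _ _))).trans
          inf_normalizer_le_normalizer_inf
      rw [← commutator_sup_centralizer_eq hBE (hcopB E (inf_le_left.trans hNY))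
        (Or.inr (isSolvable_of_le (inf_le_left.trans hNY) h.sol))] at hvn
      refine sup_le ((commutator_mono inf_le_left le_rfl).trans le_sup_right) ?_ hvn
      refine le_trans ?_ le_sup_left
      exact le_inf (inf_le_left.trans inf_le_left) fun z hz =>
        le_fixGen D.2 ⟨⟨hNY hz.1.1, hz.2⟩, hz.1.2⟩
  have hNK : N ≤ K := commutator_le.2 fun u hu x hx => hmain x hx u hu
  intro z hz
  have hnorm : ⁅N, B⁆ ≤ normalizer ((N ⊓ fixGen A B Y : Subgroup X) : Set X) :=
    Subgroup.le_normalizer_iff.mpr fun a ha b hb => by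
      have e : a * b = b * a :=
        congrArg Subtype.val (mul_comm' (⟨a, hNB ha⟩ : N) ⟨b, hb.1⟩)
      rwa [e, mul_inv_cancel_right]
  have hzK : z ∈ (↑((N ⊓ fixGen A B Y) ⊔ ⁅N, B⁆) : Set X) := hNK hz.1
  rw [coe_mul_of_right_le_normalizer_left _ _ hnorm] at hzK
  obtain ⟨w, hw, b, hb, rfl⟩ := hzK
  have hbc : b ∈ centralizer (B : Set X) :=
    (Subgroup.mul_mem_cancel_left _ ((fixGen_le A B Y hw.2).2)).1 hz.2
  show w * b ∈ _
  rw [Subgroup.disjoint_def.1 (disjoint_commutator_centralizer hBN (hcopB N hNY)) hb hbc, mul_one]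
  exact hw.2

theorem inf_centralizer_eq_bot_of_comm (h : Hyp A B Y) (hY : IsMulCommutative Y) :
    Y ⊓ centralizer (A : Set X) = ⊥ := by
  haveI := hY
  have := disjoint_iff.1 (disjoint_commutator_centralizer h.norm h.cop)
  rwa [h.gen] at this

/-- Passing to a quotient. -/
theorem le_of_quotient (h : Hyp A B Y) {N : Subgroup X} [N.Normal] (hN : N ≤ Y)
    (hNA : N ⊓ centralizer (A : Set X) ≤ fixGen A B Y)
    (ih : Y.map (QuotientGroup.mk' N) ⊓ centralizer ((A.map (QuotientGroup.mk' N) : Subgroup (X ⧸ N)) : Set (X ⧸ N))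
      ≤ fixGen (A.map (QuotientGroup.mk' N)) (B.map (QuotientGroup.mk' N)) (Y.map (QuotientGroup.mk' N))) :
    Y ⊓ centralizer (A : Set X) ≤ fixGen A B Y := by
  intro x hx
  have hfx : QuotientGroup.mk' N x ∈ Y.map (QuotientGroup.mk' N) ⊓
      centralizer ((A.map (QuotientGroup.mk' N) : Subgroup (X ⧸ N)) : Set (X ⧸ N)) :=
    ⟨⟨x, hx.1, rfl⟩, map_centralizer_le_centralizer_image (A : Set X) _ ⟨x, hx.2, rfl⟩⟩
  obtain ⟨w, hw, hwx⟩ := fixGen_map_le (QuotientGroup.mk' N) h (ih hfx)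
  have hn : w⁻¹ * x ∈ N := QuotientGroup.eq.1 hwx
  have hnB : w⁻¹ * x ∈ centralizer (B : Set X) :=
    mul_mem (inv_mem (fixGen_le A B Y hw).2) (centralizer_le h.le hx.2)
  have := mul_mem hw (inf_centralizer_le_sup_commutator h hN le_normalizer_of_normal hNA ⟨hn, hnB⟩)
  rwa [mul_inv_cancel_left] at this

theorem mem_commutator_of_centralized (h : Hyp A B Y) [Y.Normal] {v : X} (hv : v ∈ Y)
    (hvA : v ∈ centralizer (A : Set X)) : v ∈ ⁅Y, Y⁆ := by
  set f := QuotientGroup.mk' ⁅Y, Y⁆ with hf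
  haveI : IsMulCommutative (Y.map f) := ⟨⟨by
    rintro ⟨_, a, ha, rfl⟩ ⟨_, b, hb, rfl⟩
    refine Subtype.ext ?_
    show f a * f b = f b * f a
    rw [← map_mul, ← map_mul]
    refine QuotientGroup.eq.2 ?_
    have : (a * b)⁻¹ * (b * a) = ⁅b⁻¹, a⁻¹⁆ := by simp [commutatorElement_def, mul_assoc]
    rw [this]
    exact commutator_mem_commutator (inv_mem hb) (inv_mem ha)⟩⟩
  have hAn : A.map f ≤ normalizer ((Y.map f : Subgroup _) : Set _) := by
    haveI : (Y.map f).Normal := Subgroup.Normal.map inferInstance f (QuotientGroup.mk'_surjective _)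
    exact le_normalizer_of_normal
  have hd := disjoint_commutator_centralizer hAn
    ((h.cop.coprime_dvd_left (card_map_dvd _ f)).coprime_dvd_right (card_map_dvd _ f))
  rw [← Subgroup.map_commutator, h.gen] at hd
  have := Subgroup.disjoint_def.1 hd (x := f v) ⟨v, hv, rfl⟩ (map_centralizer_le_centralizer_image (A : Set X) f ⟨v, hvA, rfl⟩)
  exact (QuotientGroup.eq_one_iff v).1 this

/-- Transfer to an abelian complemented central subgroup. -/
theorem false_of_split {q : ℕ} [Fact q.Prime] {V P₀ : Subgroup X} [V.Normal] (P : Sylow q Y)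
    (hVq : IsPGroup q V) (hV : V ≠ ⊥) (hVc : V ≤ center X)
    (hP₀ : ∀ p ∈ (P : Subgroup Y), ∃ w ∈ P₀, ∃ v ∈ V, (p : X) = w * v)
    (hVP : ∀ v ∈ V, ∀ hv : v ∈ Y, (⟨v, hv⟩ : Y) ∈ (P : Subgroup Y))
    (hdisj : Disjoint V P₀) (hVY : V ≤ Y) (hVYY : V ≤ ⁅Y, Y⁆) : False := by
  classical
  have hvc : ∀ v ∈ V, ∀ g : X, g * v = v * g := fun v hv g => mem_center_iff.1 (hVc hv) g
  have huniq : ∀ {w w' v v' : X}, w ∈ P₀ → w' ∈ P₀ → v ∈ V → v' ∈ V →
      w * v = w' * v' → v = v' := by
    intro w w' v v' hw hw' hv hv' e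
    have h1 : v * v'⁻¹ = w⁻¹ * w' := by
      rw [eq_inv_mul_iff_mul_eq, ← mul_assoc, e, mul_inv_cancel_right]
    have := Subgroup.disjoint_def.1 hdisj (mul_mem hv (inv_mem hv'))
      (h1 ▸ mul_mem (inv_mem hw) hw')
    exact mul_inv_eq_one.1 this
  choose w hw v hv hwv using fun p : (P : Subgroup Y) => hP₀ p p.2
  let φ : (P : Subgroup Y) →* V :=
    { toFun := fun p => ⟨v p, hv p⟩
      map_one' := Subtype.ext (huniq (hw 1) (one_mem _) (hv 1) (one_mem _)
        (by rw [← hwv 1]; simp))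
      map_mul' := fun p p' => Subtype.ext (by
        show v (p * p') = v p * v p'
        refine huniq (hw (p * p')) (mul_mem (hw p) (hw p')) (hv _) (mul_mem (hv p) (hv p')) ?_
        rw [← hwv, Subgroup.coe_mul, Subgroup.coe_mul, hwv p, hwv p']
        calc w p * v p * (w p' * v p') = w p * (v p * w p') * v p' := by group
          _ = w p * (w p' * v p) * v p' := by rw [hvc _ (hv p) (w p')]
          _ = w p * w p' * (v p * v p') := by group) }
  haveI : IsMulCommutative V := ⟨⟨fun a b => Subtype.ext (hvc b b.2 a)⟩⟩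
  open scoped IsMulCommutative in
  let τ : Y →* V := MonoidHom.transfer φ
  obtain ⟨z, hz, hz1⟩ := V.bot_or_exists_ne_one.resolve_left hV
  have hzY := hVY hz
  have hτ1 : τ ⟨z, hzY⟩ = 1 := by
    have hmem : (⟨z, hzY⟩ : Y) ∈ commutator Y := by
      have h2 := hVYY hz
      rw [← map_subtype_commutator] at h2
      obtain ⟨y, hy, he⟩ := h2
      rwa [show (⟨z, hzY⟩ : Y) = y from Subtype.ext he.symm]
    open scoped IsMulCommutative in
    exact Abelianization.commutator_subset_ker τ hmem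
  have hτ2 : τ ⟨z, hzY⟩ = φ ⟨_, hVP _ (pow_mem hz (P : Subgroup Y).index)
      (pow_mem hzY _)⟩ := by
    open scoped IsMulCommutative in
    refine (MonoidHom.transfer_eq_pow φ ⟨z, hzY⟩ fun k g _ => Subtype.ext ?_).trans ?_
    · show (g : X)⁻¹ * z ^ k * g = z ^ k
      rw [mul_assoc, ← hvc _ (pow_mem hz k), inv_mul_cancel_left]
    · congr 1
  have hval : v ⟨_, hVP _ (pow_mem hz (P : Subgroup Y).index) (pow_mem hzY _)⟩ =
      z ^ (P : Subgroup Y).index := by
    refine huniq (hw ⟨_, hVP _ (pow_mem hz (P : Subgroup Y).index) (pow_mem hzY _)⟩) (one_mem _)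
      (hv _) (pow_mem hz _) ?_
    rw [← hwv, one_mul]
  have hpow : z ^ (P : Subgroup Y).index = 1 := by
    rw [← hval]
    exact congrArg Subtype.val (hτ2.symm.trans hτ1)
  obtain ⟨k, hk⟩ := hVq ⟨z, hz⟩
  have hk' : z ^ q ^ k = 1 := by simpa using congrArg Subtype.val hk
  refine hz1 (orderOf_eq_one_iff.1 (Nat.eq_one_of_dvd_coprimes
    (Nat.Coprime.pow_left k ((Fact.out : q.Prime).coprime_iff_not_dvd.2 P.not_dvd_index))
    (orderOf_dvd_of_pow_eq_one hk') (orderOf_dvd_of_pow_eq_one hpow)))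

theorem main_aux (n : ℕ) : ∀ {X : Type u} [Group X] [Finite X] (A B Y : Subgroup X),
    Nat.card Y = n → Hyp A B Y → Y ⊔ A = ⊤ → Y.Normal →
      Y ⊓ centralizer (A : Set X) ≤ fixGen A B Y := by
  induction n using Nat.strong_induction_on with
  | _ n ih =>
  intro X _ _ A B Y hn h htop hYn
  haveI := hYn
  haveI := h.comm
  haveI := h.sol
  have quot : ∀ (N : Subgroup X) [N.Normal], N ≠ ⊥ → N ≤ Y →
      N ⊓ centralizer (A : Set X) ≤ fixGen A B Y →
      Y ⊓ centralizer (A : Set X) ≤ fixGen A B Y := by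
    intro N _ hN0 hNY hNA
    set f := QuotientGroup.mk' N with hf
    exact le_of_quotient h hNY hNA (ih _ (hn ▸ card_map_mk_lt hN0 hNY) _ _ _ rfl (h.map_mk N)
      (sup_map_mk_eq_top N htop) (Subgroup.Normal.map inferInstance f (QuotientGroup.mk'_surjective N)))
  have gen : ∀ R : Subgroup X, Nat.card R < n → Hyp A B R →
      R ⊓ centralizer (A : Set X) ≤ fixGen A B R := by
    intro R hR hh x hx
    set H := R ⊔ A with hH
    have hRH : R ≤ H := le_sup_left
    have hAH : A ≤ H := le_sup_right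
    have hBH : B ≤ H := hh.le.trans hAH
    have e : ∀ {S : Subgroup X}, S ≤ H → (S.subgroupOf H).map H.subtype = S :=
      fun hS => map_subgroupOf_eq_of_le hS
    haveI := hh.sol
    haveI hnR : (R.subgroupOf H).Normal :=
      (normal_subgroupOf_iff_le_normalizer hRH).2 (sup_le le_normalizer hh.norm)
    have key := ih _ ((Nat.card_congr (subgroupOfEquivOfLe hRH).toEquiv).trans_lt hR)
      (A.subgroupOf H) (B.subgroupOf H) (R.subgroupOf H) rfl
      ⟨comm_subgroupOf h.comm H,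
        fun b hb => mem_subgroupOf.2 (hh.le (mem_subgroupOf.1 hb)), le_normalizer_of_normal,
        (by rw [Nat.card_congr (subgroupOfEquivOfLe hAH).toEquiv,
              Nat.card_congr (subgroupOfEquivOfLe hRH).toEquiv]; exact hh.cop),
        Group.isSolvable_of_isSolvable_injective (f := (subgroupOfEquivOfLe hRH).toMonoidHom)
          (subgroupOfEquivOfLe hRH).injective,
        (by
          apply Subgroup.map_injective H.subtype_injective
          rw [Subgroup.map_commutator, e hRH, e hAH, hh.gen])⟩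
      (by rw [← subgroupOf_sup hRH hAH, ← hH, subgroupOf_self]) hnR
    have hxH : x ∈ H := hRH hx.1
    have h1 : (⟨x, hxH⟩ : H) ∈ fixGen (A.subgroupOf H) (B.subgroupOf H) (R.subgroupOf H) :=
      key ⟨mem_subgroupOf.2 hx.1, mem_centralizer_iff.2 fun a ha =>
        Subtype.ext (mem_centralizer_iff.1 hx.2 a (mem_subgroupOf.1 ha))⟩
    have h2 := map_fixGen_le H.subtype (comm_subgroupOf (isMulCommutative_of_le h.comm hh.le) H)
      ⟨_, h1, rfl⟩
    rwa [e hRH, e hAH, e hBH] at h2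
  by_cases hab : IsMulCommutative Y
  · rw [inf_centralizer_eq_bot_of_comm h hab]
    exact bot_le
  by_cases hpg : ∃ q : ℕ, q.Prime ∧ IsPGroup q Y
  · obtain ⟨q, hq, hYq⟩ := hpg
    haveI : Fact q.Prime := ⟨hq⟩
    haveI : Group.IsNilpotent Y := hYq.isNilpotent
    set U := (Subgroup.upperCentralSeries Y 2).map Y.subtype with hU
    haveI : U.Normal := ConjAct.normal_of_characteristic_of_normal
    have hUY : U ≤ Y := map_subtype_le _
    have hcen : ∀ n ∈ ⁅U, Y⁆, ∀ y ∈ Y, y * n = n * y := by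
      intro n hn y hy
      suffices hle : ⁅U, Y⁆ ≤ (center Y).map Y.subtype by
        obtain ⟨z, hz, rfl⟩ := hle hn
        exact congrArg Subtype.val (mem_center_iff.1 hz ⟨y, hy⟩)
      refine commutator_le.2 ?_
      rintro _ ⟨u, hu, rfl⟩ y hy
      refine ⟨⁅u, ⟨y, hy⟩⁆, ?_, rfl⟩
      rw [← Subgroup.upperCentralSeries_one]
      exact Subgroup.mem_upperCentralSeries_succ_iff.1 hu ⟨y, hy⟩
    refine quot ⁅U, Y⁆ (fun hbot => hab ?_) ((commutator_le_left U Y).trans hUY)
      ((inf_le_inf_left _ (centralizer_le h.le)).trans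
        (commutator_inf_centralizer_le h hYn hUY fun u hu m hm => hcen m hm u (hUY hu)))
    have hZ : Subgroup.upperCentralSeries Y 2 = Subgroup.upperCentralSeries Y 1 := by
      refine le_antisymm (fun u hu => ?_) (Subgroup.upperCentralSeries_mono Y (by omega))
      rw [Subgroup.upperCentralSeries_one, mem_center_iff]
      intro y
      have h1 : ⁅((u : Y) : X), (y : X)⁆ ∈ (⊥ : Subgroup X) :=
        hbot ▸ commutator_mem_commutator ⟨u, hu, rfl⟩ y.2
      exact Subtype.ext (commutatorElement_eq_one_iff_mul_comm.1 (mem_bot.1 h1)).symm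
    have hall : ∀ k, Subgroup.upperCentralSeries Y k ≤ Subgroup.upperCentralSeries Y 1 := by
      intro k
      induction k with
      | zero => exact Subgroup.upperCentralSeries_mono Y (by omega)
      | succ k ihk =>
        intro u hu
        rw [← hZ]
        exact Subgroup.mem_upperCentralSeries_succ_iff.2 fun y =>
          ihk (Subgroup.mem_upperCentralSeries_succ_iff.1 hu y)
    obtain ⟨k, hk⟩ := Group.IsNilpotent.nilpotent Y
    have htopc : center Y = ⊤ := by
      rw [← Subgroup.upperCentralSeries_one]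
      exact top_le_iff.1 (hk ▸ hall k)
    exact ⟨⟨fun a b => mem_center_iff.1 (htopc ▸ Subgroup.mem_top b) a⟩⟩
  have hYbot : Y ≠ ⊥ := by
    rintro rfl
    exact hab inferInstance
  obtain ⟨V, hV, hVY⟩ := Cfsg.Lib.Core.exists_isMinNormal hYn hYbot
  haveI hVn : V.Normal := hV.1
  have hVab : IsMulCommutative V :=
    Cfsg.Lib.Core.isMulCommutative_of_minimal_solvable hV (isSolvable_of_le hVY h.sol)
  have hminV : ∀ N : Subgroup X, N.Normal → N ≤ V → N = ⊥ ∨ N = V := by
    intro N hN hle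
    rcases hV.inf_eq_bot_or_le N with e | e
    · left; rwa [inf_eq_right.2 hle] at e
    · exact Or.inr (le_antisymm hle e)
  rcases hminV ⁅V, Y⁆ inferInstance (commutator_le_left V Y) with hbot | hVV
  swap
  · have := commutator_inf_centralizer_le h hYn hVY fun u hu m hm =>
      congrArg Subtype.val (mul_comm' (⟨u, hu⟩ : V) ⟨m, commutator_le_left V Y hm⟩)
    rw [hVV] at this
    exact quot V hV.2.1 hVY ((inf_le_inf_left _ (centralizer_le h.le)).trans this)
  have hVcY : ∀ z ∈ V, ∀ y ∈ Y, y * z = z * y := fun z hz y hy => by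
    have h1 : ⁅z, y⁆ ∈ (⊥ : Subgroup X) := hbot ▸ commutator_mem_commutator hz hy
    exact (commutatorElement_eq_one_iff_mul_comm.1 (mem_bot.1 h1)).symm
  haveI := hVab
  have hVAn : (⁅V, A⁆ : Subgroup X).Normal := by
    rw [← normalizer_eq_top_iff, ← top_le_iff, ← htop]
    refine sup_le (Subgroup.le_normalizer_iff.mpr fun y hy z hz => ?_)
      (normalizer_commutator_ge_right _ _)
    rwa [hVcY z (commutator_le_of_le_normalizer le_normalizer_of_normal hz) y hy,
      mul_inv_cancel_right]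
  rcases hminV _ hVAn (commutator_le_of_le_normalizer le_normalizer_of_normal) with hA0 | hAV
  swap
  · refine quot V hV.2.1 hVY (le_trans ?_ bot_le)
    have := disjoint_iff.1 (disjoint_commutator_centralizer (A := A) (G := V)
      le_normalizer_of_normal (coprime_of_le hVY h.cop))
    rw [hAV] at this
    exact this.le
  have hVcA : V ≤ centralizer (A : Set X) := (commutator_eq_bot_iff_le_centralizer).1 hA0
  have hVc : V ≤ center X := fun z hz => by
    rw [mem_center_iff]
    intro g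
    have hg : g ∈ (⊤ : Subgroup X) := mem_top g
    rw [← htop] at hg
    have hle : Y ⊔ A ≤ centralizer ({z} : Set X) :=
      sup_le (fun y hy => mem_centralizer_singleton_iff.2 (hVcY z hz y hy))
        (fun a ha => mem_centralizer_singleton_iff.2 (mem_centralizer_iff.1 (hVcA hz) a ha))
    exact mem_centralizer_singleton_iff.1 (hle hg)
  set W := fixGen A B Y with hW
  by_cases hVW : V ⊓ W = ⊥
  swap
  · refine quot V hV.2.1 hVY (inf_le_left.trans ?_)
    have hn' : (V ⊓ W : Subgroup X).Normal :=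
      ⟨fun z hz g => by rwa [mem_center_iff.1 (hVc hz.1) g, mul_inv_cancel_right]⟩
    rcases hminV _ hn' inf_le_left with e | e
    · exact absurd e hVW
    · exact inf_eq_left.1 e
  obtain ⟨q, hq, hVq⟩ : ∃ q : ℕ, q.Prime ∧ IsPGroup q V := by
    obtain ⟨-, q, hq, -, hqV⟩ := Cfsg.Lib.Core.minimal_solvable_elementary hV (isSolvable_of_le hVY h.sol)
    exact ⟨q, hq, hqV⟩
  haveI : Fact q.Prime := ⟨hq⟩
  obtain ⟨P, hAP⟩ := exists_invariant_sylow h.norm h.cop (Or.inr h.sol) q
  set PX := (P : Subgroup Y).map Y.subtype with hPX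
  have hPY : PX ≤ Y := map_subtype_le _
  have hPne : PX ≠ Y := fun e => hpg ⟨q, hq, e ▸ P.isPGroup'.map _⟩
  set R := ⁅PX, A⁆ with hR
  have hRP : R ≤ PX := commutator_le_of_le_normalizer hAP
  have hRlt : Nat.card R < n := hn ▸ lt_of_le_of_lt (card_le_of_le hRP) (lt_of_le_of_ne
    (card_le_of_le hPY) fun e => hPne (eq_of_le_of_card_ge hPY e.ge))
  have hcopP := coprime_of_le hPY h.cop
  have hsolP : Group.IsSolvable A ∨ Group.IsSolvable PX := Or.inr (isSolvable_of_le hPY h.sol)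
  have hRH : Hyp A B R := ⟨h.comm, h.le, normalizer_commutator_ge_right _ _,
    coprime_of_le (hRP.trans hPY) h.cop, isSolvable_of_le (hRP.trans hPY) h.sol,
    commutator_commutator_eq hAP hcopP hsolP⟩
  have hRC : R ⊓ centralizer (A : Set X) ≤ W :=
    (gen R hRlt hRH).trans (fixGen_mono (hRP.trans hPY))
  have hCY : ∀ x ∈ Y ⊓ centralizer (A : Set X), ∃ w ∈ W, ∃ z ∈ V, x = w * z := by
    intro x hx
    set f := QuotientGroup.mk' V with hf
    have hfx : f x ∈ Y.map f ⊓ centralizer ((A.map f : Subgroup (X ⧸ V)) : Set (X ⧸ V)) :=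
      ⟨⟨x, hx.1, rfl⟩, map_centralizer_le_centralizer_image (A : Set X) _ ⟨x, hx.2, rfl⟩⟩
    have ihq : Y.map f ⊓ centralizer ((A.map f : Subgroup (X ⧸ V)) : Set (X ⧸ V)) ≤
        fixGen (A.map f) (B.map f) (Y.map f) := by
      exact ih _ (hn ▸ card_map_mk_lt hV.2.1 hVY) _ _ _ rfl (h.map_mk V)
        (sup_map_mk_eq_top V htop) (Subgroup.Normal.map inferInstance f (QuotientGroup.mk'_surjective V))
    obtain ⟨w, hw, hwx⟩ := fixGen_map_le f h (ihq hfx)
    exact ⟨w, hw, w⁻¹ * x, QuotientGroup.eq.1 hwx, by rw [mul_inv_cancel_left]⟩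
  set C₀ := W ⊓ (PX ⊓ centralizer (A : Set X)) with hC₀
  set P₀ := R ⊔ C₀ with hP₀
  have hVP : ∀ z ∈ V, ∀ hz : z ∈ Y, (⟨z, hz⟩ : Y) ∈ (P : Subgroup Y) := by
    intro z hz hzY
    haveI : (V.subgroupOf Y).Normal := inferInstance
    exact IsPGroup.le_sylow_of_normal (N := V.subgroupOf Y) hVq.comap_subtype P hz
  have hVPX : V ≤ PX := fun z hz => ⟨⟨z, hVY hz⟩, hVP z hz (hVY hz), rfl⟩
  have hnorm : C₀ ≤ normalizer (R : Set X) :=
    inf_le_right.trans (inf_le_left.trans (normalizer_commutator_ge_left PX A))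
  have hcoe : (P₀ : Set X) = (R : Set X) * (C₀ : Set X) :=
    coe_mul_of_right_le_normalizer_left R C₀ hnorm
  have hdisj : Disjoint V P₀ := by
    rw [Subgroup.disjoint_def]
    intro z hz hzP
    rw [← SetLike.mem_coe, hcoe] at hzP
    obtain ⟨r, hr, c, hc, rfl⟩ := hzP
    have hrA : r ∈ centralizer (A : Set X) := (Subgroup.mul_mem_cancel_right _ hc.2.2).1 (hVcA hz)
    have : r * c ∈ V ⊓ W := ⟨hz, Subgroup.mul_mem _ (hRC ⟨hr, hrA⟩) hc.1⟩
    rw [hVW] at this
    exact this
  refine (false_of_split (Y := Y) P hVq hV.2.1 hVc (P₀ := P₀) (fun p hp => ?_) hVP hdisj hVY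
    fun z hz => mem_commutator_of_centralized h (hVY hz) (hVcA hz)).elim
  obtain ⟨r, hr, c, hc, hpc⟩ :=
    le_commutator_sup_centralizer hAP hcopP hsolP (x := (p : X)) ⟨p, hp, rfl⟩
  obtain ⟨w, hw, z, hz, rfl⟩ := hCY c ⟨hPY hc.1, hc.2⟩
  refine ⟨r * w, mul_mem_sup hr ⟨hw, ?_, ?_⟩, z, hz, by rw [hpc, mul_assoc]⟩
  · exact (mul_mem_cancel_right (hVPX hz)).1 hc.1
  · exact (mul_mem_cancel_right (hVcA hz)).1 hc.2

/-- Generation of the fixed points of `B`. -/
theorem inf_centralizer_eq (h : Hyp A B Y) :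
    Y ⊓ centralizer (B : Set X) = fixGen A B Y := by
  refine le_antisymm ?_ (fixGen_le A B Y)
  refine inf_centralizer_le_sup_commutator h le_rfl h.norm fun x hx => ?_
  set H := Y ⊔ A with hH
  have hRH : Y ≤ H := le_sup_left
  have hAH : A ≤ H := le_sup_right
  have hBH : B ≤ H := h.le.trans hAH
  haveI := h.comm
  haveI := h.sol
  have e : ∀ {S : Subgroup X}, S ≤ H → (S.subgroupOf H).map H.subtype = S :=
    fun hS => map_subgroupOf_eq_of_le hS
  haveI hnR : (Y.subgroupOf H).Normal :=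
    (normal_subgroupOf_iff_le_normalizer hRH).2 (sup_le le_normalizer h.norm)
  have key := main_aux _ (A.subgroupOf H) (B.subgroupOf H) (Y.subgroupOf H) rfl
    ⟨comm_subgroupOf h.comm H,
      fun b hb => mem_subgroupOf.2 (h.le (mem_subgroupOf.1 hb)), le_normalizer_of_normal,
      (by rw [Nat.card_congr (subgroupOfEquivOfLe hAH).toEquiv,
            Nat.card_congr (subgroupOfEquivOfLe hRH).toEquiv]; exact h.cop),
      Group.isSolvable_of_isSolvable_injective (f := (subgroupOfEquivOfLe hRH).toMonoidHom)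
        (subgroupOfEquivOfLe hRH).injective,
      (by
        apply Subgroup.map_injective H.subtype_injective
        rw [Subgroup.map_commutator, e hRH, e hAH, h.gen])⟩
    (by rw [← subgroupOf_sup hRH hAH, ← hH, subgroupOf_self]) hnR
  have hxH : x ∈ H := hRH hx.1
  have h1 : (⟨x, hxH⟩ : H) ∈ fixGen (A.subgroupOf H) (B.subgroupOf H) (Y.subgroupOf H) :=
    key ⟨mem_subgroupOf.2 hx.1, mem_centralizer_iff.2 fun a ha =>
      Subtype.ext (mem_centralizer_iff.1 hx.2 a (mem_subgroupOf.1 ha))⟩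
  have h2 := map_fixGen_le H.subtype (comm_subgroupOf (isMulCommutative_of_le h.comm h.le) H)
    ⟨_, h1, rfl⟩
  rwa [e hRH, e hAH, e hBH] at h2

end Cfsg.Lib.Coprime.FixedGen
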