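import Cfsg.Agent.Lib.Coprime.FlavellModule

/-!
# Fixed points of `[H, P]` for `P` of odd prime order

For solvable `H` of order prime to the odd prime `p` and `x` with `x ^ p = 1`, the fixed points in
`[H, x]` are generated by the fixed points in the `[h, x]`.
-/

set_option autoImplicit false
set_option linter.unusedSectionVars false

namespace Cfsg.Lib.Flavell

universe u

variable {H : Type u} [Group H] [Finite H] {p : ℕ} {x : MulAut H}

/-- The automorphism of an invariant subgroup. -/
noncomputable def restrict (L : Subgroup H) (hL : Inv x L) : MulAut L :=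
  MulEquiv.ofBijective
    (MonoidHom.mk' (fun l : L => (⟨x l, hL l l.2⟩ : L)) fun a b => Subtype.ext (map_mul x _ _))
    (Finite.injective_iff_bijective.1 fun a b e => Subtype.ext (x.injective (congrArg Subtype.val e)))

theorem restrict_pow_apply (L : Subgroup H) (hL : Inv x L) :
    ∀ (i : ℕ) (l : L), ((restrict L hL ^ i) l : H) = (x ^ i) l
  | 0, _ => rfl
  | i + 1, l => by
    rw [pow_succ_apply, pow_succ_apply, ← restrict_pow_apply L hL i l]; rfl

/-- The automorphism of the quotient by an invariant normal subgroup. -/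
noncomputable def quot (M : Subgroup H) [M.Normal] (hM : Inv x M) : MulAut (H ⧸ M) :=
  QuotientGroup.congr M M x (Subgroup.eq_of_le_of_card_ge
    (by rintro _ ⟨m, hm, rfl⟩; exact hM m hm)
    (le_of_eq (Subgroup.card_map_of_injective (f := (x : H →* H)) x.injective).symm))

theorem quot_pow_apply (M : Subgroup H) [M.Normal] (hM : Inv x M) :
    ∀ (i : ℕ) (h : H), (quot M hM ^ i) (QuotientGroup.mk' M h) = QuotientGroup.mk' M ((x ^ i) h)
  | 0, _ => rfl
  | i + 1, h => by
    rw [pow_succ_apply, quot_pow_apply M hM i h, pow_succ_apply]; rfl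

/-- The fixed points in `[H, x]` are generated by those in the `[h, x]`. -/
theorem fix_inf_cm_le : ∀ (n : ℕ) (H : Type u) [Group H] [Finite H] [Group.IsSolvable H] (p : ℕ)
    (x : MulAut H), Act p x → Nat.card H = n → cm x ⊤ ⊓ Fix x ≤ fromElements x := by
  intro n
  induction n using Nat.strong_induction_on with
  | _ n ih =>
  intro H _ _ _ p x ha hn
  have hsub : ∀ L : Subgroup H, Inv x L → L ≠ ⊤ → ∀ c ∈ cm x L, x c = c → c ∈ fromElements x := by
    intro L hL hne c hc hcx
    have hcard : Nat.card L < n := hn ▸ lt_of_le_of_ne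
      (Nat.le_of_dvd Nat.card_pos L.card_subgroup_dvd_card) fun h => hne (Subgroup.eq_top_of_card_eq L h)
    set y := restrict L hL
    have hy : Act p y :=
      ⟨ha.prime, ha.odd, MulEquiv.ext fun l => Subtype.ext (by
        rw [restrict_pow_apply, ha.pow_eq]; rfl),
      ha.cop.coprime_dvd_left L.card_subgroup_dvd_card⟩
    have key := ih _ hcard L p y hy rfl
    have h1 : cm x L ≤ (cm y ⊤).map L.subtype := (Subgroup.closure_le _).2 (by
      rintro _ ⟨h, hh, i, rfl⟩
      refine ⟨(⟨h, hh⟩ : L)⁻¹ * (y ^ i) ⟨h, hh⟩, mem_cm (Subgroup.mem_top _) i, ?_⟩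
      show (h : H)⁻¹ * ((y ^ i) ⟨h, hh⟩ : H) = _
      rw [restrict_pow_apply])
    have h2 : fromElements y ≤ (fromElements x).comap L.subtype := iSup_le fun h k hk => by
      refine gen_inf_fix_le (h : H) ⟨?_, congrArg Subtype.val hk.2⟩
      have hle : gen y h ≤ (gen x (h : H)).comap L.subtype := (Subgroup.closure_le _).2 (by
        rintro _ ⟨i, rfl⟩
        show (h : H)⁻¹ * ((y ^ i) h : H) ∈ gen x (h : H)
        rw [restrict_pow_apply]
        exact mem_gen _ i)
      exact hle hk.1
    obtain ⟨d, hd, rfl⟩ := h1 hc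
    exact h2 (key ⟨hd, Subtype.ext hcx⟩)
  by_cases htop : cm x (⊤ : Subgroup H) = ⊤
  swap
  · exact fun c hc => hsub _ inv_cm htop c ((cm_idem ha).symm ▸ hc.1) hc.2
  rintro c ⟨-, hcx⟩
  by_cases hnt : Nontrivial H
  swap
  · rw [not_nontrivial_iff_subsingleton] at hnt
    rw [Subsingleton.elim c 1]; exact one_mem _
  have hlift : ∀ M : Subgroup H, M.Normal → Inv x M → M ≠ ⊥ → ∀ c : H, x c = c →
      ∃ r ∈ fromElements x, ∃ m ∈ M, x m = m ∧ c = r * m := by
    intro M hMn hMi hM c hc
    haveI := hMn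
    have hcard : Nat.card (H ⧸ M) < n := by
      rw [← hn, Subgroup.card_eq_card_quotient_mul_card_subgroup M]
      exact lt_mul_of_one_lt_right Nat.card_pos ((Subgroup.one_lt_card_iff_ne_bot M).2 hM)
    set y := quot M hMi
    set π := QuotientGroup.mk' M
    have hy : Act p y :=
      ⟨ha.prime, ha.odd, MulEquiv.ext fun z => by
        obtain ⟨h, rfl⟩ := QuotientGroup.mk'_surjective M z
        rw [quot_pow_apply, ha.pow_eq]; rfl,
      ha.cop.coprime_dvd_left (Subgroup.card_quotient_dvd_card M)⟩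
    have key := ih _ hcard (H ⧸ M) p y hy rfl
    have hyπ : ∀ h, y (π h) = π (x h) := fun h => rfl
    have hgen : ∀ h : H, gen y (π h) ≤ (gen x h).map π := fun h => (Subgroup.closure_le _).2 (by
      rintro _ ⟨i, rfl⟩
      refine ⟨h⁻¹ * (x ^ i) h, mem_gen h i, ?_⟩
      rw [map_mul, map_inv, quot_pow_apply])
    have hR : fromElements y ≤ (fromElements x).map π := iSup_le fun z k hk => by
      obtain ⟨h, rfl⟩ := QuotientGroup.mk'_surjective M z
      obtain ⟨a, haK, rfl⟩ := hgen h hk.1
      have hmem : a⁻¹ * x a ∈ M ⊓ gen x h := Subgroup.mem_inf.2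
        ⟨by
          have e : y (π a) = π a := hk.2
          rw [hyπ] at e
          exact QuotientGroup.eq.1 e.symm,
        mul_mem (inv_mem haK) (inv_gen h a haK)⟩
      obtain ⟨m, hm, hfix⟩ := exists_fix_coset ha (hMi.inf (inv_gen h)) hmem
      refine ⟨a * m, gen_inf_fix_le h ⟨mul_mem haK hm.2, hfix⟩, ?_⟩
      rw [map_mul, (QuotientGroup.eq_one_iff m).2 hm.1 |> fun e => (show π m = 1 from e), mul_one]
    have hcY : π c ∈ cm y (⊤ : Subgroup (H ⧸ M)) := by
      have hle : cm x (⊤ : Subgroup H) ≤ (cm y ⊤).comap π := (Subgroup.closure_le _).2 (by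
        rintro _ ⟨h, -, i, rfl⟩
        show π (h⁻¹ * (x ^ i) h) ∈ cm y (⊤ : Subgroup (H ⧸ M))
        rw [map_mul, map_inv, ← quot_pow_apply]
        exact mem_cm (Subgroup.mem_top _) i)
      exact hle (by rw [htop]; trivial)
    obtain ⟨r, hr, hrc⟩ := hR (key ⟨hcY, show y (π c) = π c by rw [hyπ, hc]⟩)
    refine ⟨r, hr, r⁻¹ * c, QuotientGroup.eq.1 hrc, ?_, (mul_inv_cancel_left r c).symm⟩
    rw [map_mul, map_inv, show x r = r from (fromElements_le hr).2, hc]
  by_contra hcR
  by_cases hout : ∃ M : Subgroup H, M.Normal ∧ Inv x M ∧ M ≠ ⊥ ∧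
      ∀ m ∈ M, x m = m → m ∈ fromElements x
  · obtain ⟨M, hMn, hMi, hM, hMR⟩ := hout
    obtain ⟨r, hr, m, hm, hmx, rfl⟩ := hlift M hMn hMi hM c hcx
    exact hcR (mul_mem hr (hMR m hm hmx))
  push Not at hout
  exact min_false ha ⟨hnt, htop, fun M h1 h2 h3 => hout M h1 h2 h3, hlift, hsub⟩

end Cfsg.Lib.Flavell
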