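import Mathlib

/-!
# An automorphism of prime order coprime to the group: basic facts

`cm x L` is generated by the elements `h⁻¹ * (x ^ i) h`, `h ∈ L`; `fromElements x` is generated by the
fixed points in the subgroups `gen x h = ⟨h⁻¹ * (x ^ i) h⟩`.
-/

set_option autoImplicit false
set_option linter.unusedSectionVars false

namespace Cfsg.Lib.Flavell

open scoped commutatorElement

universe u

variable {H : Type u} [Group H] {p : ℕ} {x : MulAut H}

/-- The fixed points. -/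
abbrev Fix (x : MulAut H) : Subgroup H := (x : H →* H).eqLocus (MonoidHom.id H)

/-- `[h, ⟨x⟩]`. -/
abbrev gen (x : MulAut H) (h : H) : Subgroup H :=
  Subgroup.closure {c : H | ∃ i : ℕ, c = h⁻¹ * (x ^ i) h}

/-- `[L, ⟨x⟩]`. -/
def cm (x : MulAut H) (L : Subgroup H) : Subgroup H :=
  Subgroup.closure {c : H | ∃ h ∈ L, ∃ i : ℕ, c = h⁻¹ * (x ^ i) h}

/-- Generated by the fixed points in the `[h, ⟨x⟩]`. -/
def fromElements (x : MulAut H) : Subgroup H := ⨆ h : H, gen x h ⊓ Fix x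

/-- Invariance under `x`. -/
def Inv (x : MulAut H) (L : Subgroup H) : Prop := ∀ l ∈ L, x l ∈ L

/-- An automorphism of order dividing the odd prime `p`, coprime to the group. -/
structure Act (p : ℕ) (x : MulAut H) : Prop where
  prime : p.Prime
  odd : p ≠ 2
  pow_eq : x ^ p = 1
  cop : (Nat.card H).Coprime p

theorem mem_fix {c : H} : c ∈ Fix x ↔ x c = c := Iff.rfl

theorem pow_succ_apply (i : ℕ) (h : H) : (x ^ (i + 1)) h = x ((x ^ i) h) := by
  rw [pow_succ']; rfl

theorem pow_succ_apply' (i : ℕ) (h : H) : (x ^ (i + 1)) h = (x ^ i) (x h) := by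
  rw [pow_succ]; rfl

theorem pow_add_apply (i j : ℕ) (h : H) : (x ^ (i + j)) h = (x ^ i) ((x ^ j) h) := by
  rw [pow_add]; rfl

theorem pow_fix {c : H} (hc : c ∈ Fix x) : ∀ i : ℕ, (x ^ i) c = c
  | 0 => rfl
  | i + 1 => by rw [pow_succ_apply, pow_fix hc i]; exact hc

theorem Inv.pow {L : Subgroup H} (hL : Inv x L) {l : H} (hl : l ∈ L) : ∀ i : ℕ, (x ^ i) l ∈ L
  | 0 => by rw [pow_zero]; exact hl
  | i + 1 => by rw [pow_succ_apply]; exact hL _ (hL.pow hl i)

theorem Inv.inf {L M : Subgroup H} (hL : Inv x L) (hM : Inv x M) : Inv x (L ⊓ M) :=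
  fun l hl => ⟨hL l hl.1, hM l hl.2⟩

theorem Inv.fix : Inv x (Fix x) := fun l hl => by rw [mem_fix] at hl ⊢; rw [hl, hl]

theorem inv_closure {s : Set H} (h : ∀ a ∈ s, x a ∈ Subgroup.closure s) : Inv x (Subgroup.closure s) :=
  (Subgroup.closure_le (K := (Subgroup.closure s).comap (x : H →* H))).2 h

theorem inv_top : Inv x (⊤ : Subgroup H) := fun _ _ => Subgroup.mem_top _

theorem Inv.iSup {ι : Sort*} {L : ι → Subgroup H} (h : ∀ i, Inv x (L i)) : Inv x (⨆ i, L i) := by
  have : (⨆ i, L i) ≤ (⨆ i, L i).comap (x : H →* H) :=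
    iSup_le fun i l hl => le_iSup L i (h i l hl)
  exact this

theorem Inv.sup {L M : Subgroup H} (hL : Inv x L) (hM : Inv x M) : Inv x (L ⊔ M) := by
  have : L ⊔ M ≤ (L ⊔ M).comap (x : H →* H) :=
    sup_le (fun l hl => le_sup_left (b := M) (hL l hl)) fun l hl => le_sup_right (a := L) (hM l hl)
  exact this

theorem inv_center : Inv x (Subgroup.center H) := fun l hl => by
  rw [Subgroup.mem_center_iff] at hl ⊢
  intro g
  obtain ⟨g', rfl⟩ := x.surjective g
  rw [← map_mul, hl g', map_mul]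

theorem inv_commutator {L M : Subgroup H} (hL : Inv x L) (hM : Inv x M) : Inv x ⁅L, M⁆ := by
  have : ⁅L, M⁆ ≤ (⁅L, M⁆).comap (x : H →* H) := Subgroup.commutator_le.2 fun a ha b hb => by
    show x ⁅a, b⁆ ∈ ⁅L, M⁆
    rw [map_commutatorElement]
    exact Subgroup.commutator_mem_commutator (hL a ha) (hM b hb)
  exact this

theorem gen_le_top_cm (h : H) : gen x h ≤ cm x ⊤ :=
  Subgroup.closure_mono fun _ ⟨i, hi⟩ => ⟨h, Subgroup.mem_top h, i, hi⟩

theorem mem_gen (h : H) (i : ℕ) : h⁻¹ * (x ^ i) h ∈ gen x h := Subgroup.subset_closure ⟨i, rfl⟩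

theorem mem_gen_one (h : H) : h⁻¹ * x h ∈ gen x h := by simpa using mem_gen h 1

theorem mem_cm {L : Subgroup H} {h : H} (hh : h ∈ L) (i : ℕ) : h⁻¹ * (x ^ i) h ∈ cm x L :=
  Subgroup.subset_closure ⟨h, hh, i, rfl⟩

theorem mem_cm_one {L : Subgroup H} {h : H} (hh : h ∈ L) : h⁻¹ * x h ∈ cm x L := by
  simpa using mem_cm hh 1

theorem inv_gen (h : H) : Inv x (gen x h) := inv_closure fun a ha => by
  obtain ⟨i, rfl⟩ := ha
  have e : x (h⁻¹ * (x ^ i) h) = (h⁻¹ * x h)⁻¹ * (h⁻¹ * (x ^ (i + 1)) h) := by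
    rw [pow_succ_apply, map_mul, map_inv]; group
  rw [e]
  exact mul_mem (inv_mem (mem_gen_one h)) (mem_gen h _)

theorem cm_le {L : Subgroup H} (hL : Inv x L) : cm x L ≤ L := by
  rw [cm, Subgroup.closure_le]
  rintro _ ⟨h, hh, i, rfl⟩
  exact mul_mem (inv_mem hh) (hL.pow hh i)

theorem inv_cm {L : Subgroup H} : Inv x (cm x L) := inv_closure fun a ha => by
  obtain ⟨h, hh, i, rfl⟩ := ha
  have e : x (h⁻¹ * (x ^ i) h) = (h⁻¹ * x h)⁻¹ * (h⁻¹ * (x ^ (i + 1)) h) := by
    rw [pow_succ_apply, map_mul, map_inv]; group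
  rw [e]
  exact mul_mem (inv_mem (mem_cm_one hh)) (mem_cm hh _)

theorem cm_mono {L M : Subgroup H} (h : L ≤ M) : cm x L ≤ cm x M :=
  Subgroup.closure_mono fun _ ⟨a, ha, r⟩ => ⟨a, h ha, r⟩

theorem cm_normalized {L : Subgroup H} {g : H} (hg : g ∈ L) {k : H}
    (hk : k ∈ cm x L) : g * k * g⁻¹ ∈ cm x L := by
  have : cm x L ≤ (cm x L).comap (MulAut.conj g).toMonoidHom := (Subgroup.closure_le _).2 (by
    rintro _ ⟨h, hh, i, rfl⟩
    show g * (h⁻¹ * (x ^ i) h) * g⁻¹ ∈ cm x L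
    have e : g * (h⁻¹ * (x ^ i) h) * g⁻¹ =
        ((h * g⁻¹)⁻¹ * (x ^ i) (h * g⁻¹)) * (g⁻¹⁻¹ * (x ^ i) g⁻¹)⁻¹ := by
      rw [map_mul]; group
    rw [e]
    exact mul_mem (mem_cm (mul_mem hh (inv_mem hg)) i) (inv_mem (mem_cm (inv_mem hg) i)))
  exact this hk

theorem cm_top_normal : (cm x ⊤).Normal := ⟨fun _ hk g => cm_normalized (Subgroup.mem_top g) hk⟩

theorem fromElements_le : fromElements x ≤ cm x ⊤ ⊓ Fix x :=
  iSup_le fun h => inf_le_inf_right _ (gen_le_top_cm h)

theorem gen_inf_fix_le (h : H) : gen x h ⊓ Fix x ≤ fromElements x := le_iSup (fun h => gen x h ⊓ Fix x) h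

theorem fix_conj_gen {c : H} (hc : c ∈ Fix x) {h k : H} (hk : k ∈ gen x h) :
    c * k * c⁻¹ ∈ gen x (c * h * c⁻¹) := by
  have : gen x h ≤ (gen x (c * h * c⁻¹)).comap (MulAut.conj c).toMonoidHom := (Subgroup.closure_le _).2 (by
    rintro _ ⟨i, rfl⟩
    show c * (h⁻¹ * (x ^ i) h) * c⁻¹ ∈ gen x (c * h * c⁻¹)
    have e : c * (h⁻¹ * (x ^ i) h) * c⁻¹ = (c * h * c⁻¹)⁻¹ * (x ^ i) (c * h * c⁻¹) := by
      rw [map_mul, map_mul, map_inv, pow_fix hc]; group
    rw [e]; exact mem_gen _ i)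
  exact this hk

theorem fix_conj_fromElements {c : H} (hc : c ∈ Fix x) {k : H} (hk : k ∈ fromElements x) :
    c * k * c⁻¹ ∈ fromElements x := by
  have : fromElements x ≤ (fromElements x).comap (MulAut.conj c).toMonoidHom :=
    iSup_le fun h k hk => gen_inf_fix_le _ ⟨fix_conj_gen hc hk.1,
      (Fix x).mul_mem ((Fix x).mul_mem hc hk.2) ((Fix x).inv_mem hc)⟩
  exact this hk

section Finite

variable [Finite H]

theorem not_dvd_card (ha : Act p x) (L : Subgroup H) : ¬ p ∣ Nat.card L := fun h =>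
  ha.prime.one_lt.ne' (Nat.eq_one_of_dvd_coprimes ha.cop (h.trans L.card_subgroup_dvd_card) dvd_rfl)

/-- A map of period `p` on a set of size prime to `p` fixes a point. -/
theorem exists_fix (ha : Act p x) {α : Type*} [Finite α] (h : ¬ p ∣ Nat.card α) (f : α → α)
    (hf : ∀ a, f^[p] a = a) : ∃ a, f a = a := by
  classical
  haveI := Fintype.ofFinite α
  haveI : Fact p.Prime := ⟨ha.prime⟩
  obtain ⟨k, hk⟩ : ∃ k, p = k + 1 := ⟨p - 1, by have := ha.prime.pos; omega⟩
  let σ : Equiv.Perm α :=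
    { toFun := f
      invFun := f^[k]
      left_inv := fun a => by
        have := hf a; rw [hk, Function.iterate_succ_apply] at this; exact this
      right_inv := fun a => by
        have := hf a; rw [hk, Function.iterate_succ_apply'] at this; exact this }
  have hpow : ∀ (n : ℕ) (a : α), (σ ^ n) a = f^[n] a := by
    intro n
    induction n with
    | zero => intro a; rfl
    | succ n ih => intro a; rw [pow_succ', Equiv.Perm.mul_apply, ih, Function.iterate_succ_apply']; rfl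
  obtain ⟨a, ha'⟩ := Equiv.Perm.exists_fixed_point_of_prime (n := 1) (σ := σ)
    (by rwa [← Nat.card_eq_fintype_card]) (Equiv.ext fun a => by rw [pow_one, hpow, hf]; rfl)
  exact ⟨a, ha'⟩

theorem iterate_eq (h : H) : ∀ n : ℕ, (fun a => x a)^[n] h = (x ^ n) h
  | 0 => rfl
  | n + 1 => by rw [Function.iterate_succ_apply', iterate_eq h n, pow_succ_apply]

/-- An invariant set of size prime to `p` contains a fixed point. -/
theorem exists_fix_mem (ha : Act p x) (s : Set H) (hs : ∀ a ∈ s, x a ∈ s) (h : ¬ p ∣ Nat.card s) :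
    ∃ a ∈ s, x a = a := by
  obtain ⟨⟨a, has⟩, e⟩ := exists_fix ha h (fun a : s => ⟨x a, hs a a.2⟩) fun a => by
    apply Subtype.ext
    have hit : ∀ (n : ℕ) (a : s), (((fun a : s => (⟨x a, hs a a.2⟩ : s))^[n] a) : H) = (x ^ n) a := by
      intro n
      induction n with
      | zero => intro a; rfl
      | succ n ih => intro a; rw [Function.iterate_succ_apply', pow_succ_apply, ← ih]
    rw [hit, ha.pow_eq]; rfl
  exact ⟨a, has, congrArg Subtype.val e⟩

/-- A fixed coset of an invariant subgroup contains a fixed point. -/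
theorem exists_fix_coset (ha : Act p x) {M : Subgroup H} (hM : Inv x M) {g : H}
    (h : g⁻¹ * x g ∈ M) : ∃ m ∈ M, g * m ∈ Fix x := by
  obtain ⟨a, hmem, hfix⟩ := exists_fix_mem ha {a : H | g⁻¹ * a ∈ M} (fun a ha' => by
    show g⁻¹ * x a ∈ M
    have e : g⁻¹ * x a = (g⁻¹ * x g) * x (g⁻¹ * a) := by rw [map_mul, map_inv]; group
    rw [e]; exact mul_mem h (hM _ ha')) (by
    have e : Nat.card {a : H | g⁻¹ * a ∈ M} = Nat.card M :=
      Nat.card_congr ((Equiv.mulLeft g⁻¹).subtypeEquiv fun a => Iff.rfl)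
    rw [e]; exact not_dvd_card ha M)
  exact ⟨g⁻¹ * a, hmem, by rw [mul_inv_cancel_left]; exact hfix⟩

theorem eq_one_of_pow_mem (ha : Act p x) {M : Subgroup H} {g : H} (h : g ^ p ∈ M) : g ∈ M := by
  obtain ⟨a, -, e⟩ : ∃ a : ℕ, True ∧ g = (g ^ p) ^ a := by
    have hc : p.Coprime (orderOf g) := (ha.cop.coprime_dvd_left (orderOf_dvd_natCard g)).symm
    obtain ⟨a, e⟩ := exists_pow_eq_self_of_coprime hc
    exact ⟨a, trivial, e.symm⟩
  rw [e]; exact pow_mem h a

theorem gen_le_cm (ha : Act p x) {h : H} {L : Subgroup H} (hL : gen x h ≤ L) : gen x h ≤ cm x L := by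
  set D := cm x L with hD
  set a := h⁻¹ * x h with hdef
  have haL : a ∈ L := hL (mem_gen_one h)
  have key : ∀ i : ℕ, (a ^ i)⁻¹ * (h⁻¹ * (x ^ i) h) ∈ D := by
    intro i
    induction i with
    | zero => simp
    | succ i ih =>
      set w := (a ^ i)⁻¹ * (h⁻¹ * (x ^ i) h) with hw
      have e : (a ^ (i + 1))⁻¹ * (h⁻¹ * (x ^ (i + 1)) h) = a⁻¹ * w * a * (a⁻¹ * (x ^ i) a) := by
        rw [hw, hdef, map_mul, map_inv, ← pow_succ_apply', pow_succ]; group
      rw [e]
      refine mul_mem ?_ (mem_cm haL i)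
      have := cm_normalized (inv_mem haL) ih
      rwa [inv_inv] at this
  have haD : a ∈ D := eq_one_of_pow_mem ha (inv_mem_iff.1 (by
    have := key p
    rwa [ha.pow_eq, show ((1 : MulAut H) h) = h from rfl, inv_mul_cancel, mul_one] at this))
  rw [gen, Subgroup.closure_le]
  rintro _ ⟨i, rfl⟩
  have := mul_mem (pow_mem haD i) (key i)
  rwa [mul_inv_cancel_left] at this

theorem cm_idem (ha : Act p x) : cm x (cm x ⊤) = cm x (⊤ : Subgroup H) := by
  refine le_antisymm (cm_mono le_top) ?_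
  rw [cm, Subgroup.closure_le]
  rintro _ ⟨h, -, i, rfl⟩
  exact gen_le_cm ha (gen_le_top_cm h) (mem_gen h i)

/-- Without fixed points every element is a commutator. -/
theorem exists_eq_of_fix_eq_bot {L : Subgroup H} (hL : Inv x L)
    (hfix : ∀ l ∈ L, x l = l → l = 1) {a : H} (ha : a ∈ L) : ∃ l ∈ L, l⁻¹ * x l = a := by
  let f : L → L := fun l => ⟨(l : H)⁻¹ * x l, mul_mem (inv_mem l.2) (hL l l.2)⟩
  have hf : Function.Injective f := fun l m e => by
    have e' : (l : H)⁻¹ * x l = (m : H)⁻¹ * x m := congrArg Subtype.val e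
    refine Subtype.ext (mul_inv_eq_one.1 (hfix _ (mul_mem l.2 (inv_mem m.2)) ?_))
    rw [map_mul, map_inv, show x (l : H) = l * ((m : H)⁻¹ * x m) by rw [← e']; group]
    group
  obtain ⟨l, hl⟩ := Finite.injective_iff_surjective.1 hf ⟨a, ha⟩
  exact ⟨l, l.2, congrArg Subtype.val hl⟩

theorem le_cm_of_fix_eq_bot {L : Subgroup H} (hL : Inv x L)
    (hfix : ∀ l ∈ L, x l = l → l = 1) : L ≤ cm x L := fun a ha => by
  obtain ⟨l, hl, rfl⟩ := exists_eq_of_fix_eq_bot hL hfix ha
  exact mem_cm_one hl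

/-- An element of an invariant subgroup is a commutator times a fixed element. -/
theorem exists_mul_fix (ha : Act p x) {L : Subgroup H} (hL : Inv x L) {s : H} (hs : s ∈ L) :
    ∃ a ∈ cm x L, ∃ c ∈ L ⊓ Fix x, s = c * a := by
  obtain ⟨m, hm, hc⟩ := exists_fix_coset ha inv_cm (g := s) (mem_cm_one hs)
  exact ⟨m⁻¹, inv_mem hm, s * m, ⟨mul_mem hs (cm_le hL hm), hc⟩, by rw [mul_inv_cancel_right]⟩

/-- If `[H, x] = H` the fixed points lie in the commutator subgroup. -/
theorem fix_le_commutator (htop : cm x ⊤ = ⊤) : Fix x ≤ commutator H := by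
  intro c hc
  let π : H →* Abelianization H := Abelianization.of
  let X : Abelianization H →* Abelianization H := Abelianization.map (x : H →* H)
  let f : Abelianization H →* Abelianization H := (MonoidHom.id (Abelianization H))⁻¹ * X
  haveI : Finite (Abelianization H) := Quotient.finite _
  have hX : ∀ h, X (π h) = π (x h) := fun h => Abelianization.map_of _ h
  have hfa : ∀ h, f (π h) = π (h⁻¹ * x h) := fun h => by
    show (π h)⁻¹ * X (π h) = _
    rw [hX, map_mul, map_inv]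
  have hsurj : Function.Surjective f := by
    intro b
    obtain ⟨b, rfl⟩ := Quotient.exists_rep b
    have hle : cm x ⊤ ≤ f.range.comap π := (Subgroup.closure_le _).2 (by
      rintro _ ⟨h, -, i, rfl⟩
      show π (h⁻¹ * (x ^ i) h) ∈ f.range
      induction i with
      | zero => simp
      | succ i ih =>
        have e : h⁻¹ * (x ^ (i + 1)) h = (h⁻¹ * (x ^ i) h) * (((x ^ i) h)⁻¹ * x ((x ^ i) h)) := by
          rw [pow_succ_apply]; group
        rw [e, map_mul]
        exact mul_mem ih ⟨π ((x ^ i) h), hfa _⟩)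
    exact hle (by rw [htop]; exact Subgroup.mem_top b)
  have hinj := Finite.injective_iff_surjective.2 hsurj
  have : π c = 1 := hinj (by rw [hfa, show x c = c from hc, inv_mul_cancel, map_one, map_one])
  rw [← Abelianization.ker_of]
  exact this

/-- An invariant Sylow subgroup. -/
theorem exists_inv_sylow (ha : Act p x) (r : ℕ) [Fact r.Prime] :
    ∃ S : Sylow r H, Inv x (S : Subgroup H) := by
  have hdvd : ¬ p ∣ Nat.card (Sylow r H) := by
    obtain ⟨S⟩ : Nonempty (Sylow r H) := inferInstance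
    intro h
    exact ha.prime.one_lt.ne' (Nat.eq_one_of_dvd_coprimes ha.cop
      (h.trans ((S.card_dvd_index).trans (Subgroup.index_dvd_card _))) dvd_rfl)
  obtain ⟨S, hS⟩ := exists_fix ha hdvd (fun S : Sylow r H => x • S) fun S => by
    rw [smul_iterate_apply, ha.pow_eq, one_smul]
  refine ⟨S, fun l hl => ?_⟩
  have : x l ∈ ((x • S : Sylow r H) : Subgroup H) := ⟨l, hl, rfl⟩
  rwa [show x • S = S from hS] at this

/-- Invariant Sylow subgroups are conjugate under a fixed element. -/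
theorem exists_fix_conj (ha : Act p x) {r : ℕ} [Fact r.Prime] {S T : Sylow r H}
    (hS : Inv x (S : Subgroup H)) (hT : Inv x (T : Subgroup H)) :
    ∃ c ∈ Fix x, ∀ t ∈ (T : Subgroup H), c⁻¹ * t * c ∈ (S : Subgroup H) := by
  obtain ⟨g, hg⟩ := MulAction.exists_smul_eq H S T
  have hg' : ∀ y : H, y ∈ (T : Subgroup H) ↔ g⁻¹ * y * g ∈ (S : Subgroup H) := fun y => by
    rw [← hg, Sylow.coe_subgroup_smul, Subgroup.mem_smul_pointwise_iff_exists]
    constructor
    · rintro ⟨s, hs, rfl⟩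
      simpa [mul_assoc] using hs
    · exact fun h => ⟨_, h, by simp [mul_assoc]⟩
  have hinvS : ∀ y : H, x y ∈ (S : Subgroup H) ↔ y ∈ (S : Subgroup H) := fun y =>
    ⟨fun h => by
      obtain ⟨k, hk⟩ : ∃ k, p = k + 1 := ⟨p - 1, by have := ha.prime.pos; omega⟩
      have := hS.pow h k
      rwa [← pow_succ_apply', ← hk, ha.pow_eq] at this, hS y⟩
  have hinvT : ∀ y : H, x y ∈ (T : Subgroup H) ↔ y ∈ (T : Subgroup H) := fun y =>
    ⟨fun h => by
      obtain ⟨k, hk⟩ : ∃ k, p = k + 1 := ⟨p - 1, by have := ha.prime.pos; omega⟩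
      have := hT.pow h k
      rwa [← pow_succ_apply', ← hk, ha.pow_eq] at this, hT y⟩
  have hN : Inv x (Subgroup.normalizer ((S : Subgroup H) : Set H)) := fun n hn => by
    rw [Subgroup.mem_normalizer_iff] at hn ⊢
    intro y
    obtain ⟨y, rfl⟩ := x.surjective y
    rw [← map_inv, ← map_mul, ← map_mul, hinvS, hinvS]
    exact hn y
  obtain ⟨m, hm, hc⟩ := exists_fix_coset ha hN (g := g) (by
    rw [Subgroup.mem_normalizer_iff]
    intro y
    obtain ⟨y, rfl⟩ := x.surjective y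
    have e : g⁻¹ * x g * x y * (g⁻¹ * x g)⁻¹ = g⁻¹ * x (g * y * g⁻¹) * g := by
      rw [map_mul, map_mul, map_inv]; group
    rw [e, ← hg', hinvT, hinvS, hg' (g * y * g⁻¹)]
    simp [mul_assoc])
  refine ⟨g * m, hc, fun t ht => ?_⟩
  have h1 := (hg' t).1 ht
  rw [Subgroup.mem_normalizer_iff'] at hm
  have h2 := (hm (m⁻¹ * (g⁻¹ * t * g))).2 (by rwa [mul_inv_cancel_left])
  rw [show (g * m)⁻¹ * t * (g * m) = m⁻¹ * (g⁻¹ * t * g) * m by group]
  exact h2

/-- The invariant Sylow subgroups generate. -/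
theorem iSup_inv_sylow (ha : Act p x) :
    (⨆ (r : ℕ) (_ : r.Prime) (S : Sylow r H) (_ : Inv x (S : Subgroup H)), (S : Subgroup H)) = ⊤ := by
  refine Subgroup.eq_top_of_card_eq _ (Nat.dvd_antisymm (Subgroup.card_subgroup_dvd_card _) ?_)
  refine (Nat.dvd_iff_prime_pow_dvd_dvd _ _).2 fun r k hr hk => ?_
  haveI : Fact r.Prime := ⟨hr⟩
  obtain ⟨S, hS⟩ := exists_inv_sylow ha r
  refine ((pow_dvd_pow r ?_).trans S.card_eq_multiplicity.symm.dvd).trans
    (Subgroup.card_dvd_of_le (le_iSup_of_le r (le_iSup_of_le hr (le_iSup_of_le S (le_iSup_of_le hS le_rfl)))))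
  exact (hr.pow_dvd_iff_le_factorization Nat.card_pos.ne').1 hk

end Finite

end Cfsg.Lib.Flavell
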