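import Cfsg.Agent.Lib.Coprime.FlavellBasic
import Cfsg.Agent.Lib.PGroup.Basic

/-!
# A minimal counterexample has no nontrivial invariant central subgroup
-/

set_option autoImplicit false
set_option linter.unusedSectionVars false

namespace Cfsg.Lib.Flavell

open scoped commutatorElement

universe u

variable {H : Type u} [Group H] [Finite H] {p : ℕ} {x : MulAut H}

/-- The properties of a minimal counterexample. -/
structure Min (x : MulAut H) : Prop where
  nontriv : Nontrivial H
  top : cm x ⊤ = ⊤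
  out : ∀ M : Subgroup H, M.Normal → Inv x M → M ≠ ⊥ → ∃ c ∈ M, x c = c ∧ c ∉ fromElements x
  lift : ∀ M : Subgroup H, M.Normal → Inv x M → M ≠ ⊥ → ∀ c : H, x c = c →
    ∃ r ∈ fromElements x, ∃ m ∈ M, x m = m ∧ c = r * m
  sub : ∀ L : Subgroup H, Inv x L → L ≠ ⊤ → ∀ c ∈ cm x L, x c = c → c ∈ fromElements x

theorem mem_of_pow_mem {K : Type*} [Group K] (S : Subgroup K) {y : K} {a b : ℕ} (hab : a.Coprime b)
    (h1 : y ^ a ∈ S) (h2 : y ^ b ∈ S) : y ∈ S := by
  have h := Nat.gcd_eq_gcd_ab a b
  rw [Nat.Coprime.gcd_eq_one hab] at h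
  have e : y = (y ^ a) ^ Nat.gcdA a b * (y ^ b) ^ Nat.gcdB a b := by
    rw [← zpow_natCast y a, ← zpow_natCast y b, ← zpow_mul, ← zpow_mul, ← zpow_add, ← h, Nat.cast_one, zpow_one]
  rw [e]
  exact mul_mem (zpow_mem h1 _) (zpow_mem h2 _)

theorem commutator_mul_left_of_central {a b y : H} (h : ⁅b, y⁆ ∈ Subgroup.center H) :
    ⁅a * b, y⁆ = ⁅a, y⁆ * ⁅b, y⁆ := by
  rw [commutatorElement_mul_left_eq_conj_mul, Subgroup.mem_center_iff.1 h a, mul_inv_cancel_right,
    Subgroup.mem_center_iff.1 h]

theorem commutator_mul_right_of_central {a b y : H} (h : ⁅a, y⁆ ∈ Subgroup.center H) :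
    ⁅a, b * y⁆ = ⁅a, b⁆ * ⁅a, y⁆ := by
  rw [commutatorElement_def, commutatorElement_def a b]
  calc a * (b * y) * a⁻¹ * (b * y)⁻¹ = a * b * a⁻¹ * (⁅a, y⁆ * b⁻¹) := by
        rw [commutatorElement_def]; group
    _ = a * b * a⁻¹ * b⁻¹ * ⁅a, y⁆ := by rw [← Subgroup.mem_center_iff.1 h b⁻¹]; group

theorem commutator_central_mul_left {z a b : H} (hz : z ∈ Subgroup.center H) : ⁅z * a, b⁆ = ⁅a, b⁆ := by
  rw [commutatorElement_mul_left_eq_conj_mul,
    commutatorElement_eq_one_iff_mul_comm.2 (Subgroup.mem_center_iff.1 hz b).symm, mul_one,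
    ← Subgroup.mem_center_iff.1 hz ⁅a, b⁆, mul_inv_cancel_right]

theorem commutator_central_mul_right {z a b : H} (hz : z ∈ Subgroup.center H) : ⁅a, z * b⁆ = ⁅a, b⁆ := by
  rw [← commutatorElement_inv (z * b) a, commutator_central_mul_left hz, commutatorElement_inv]

/-- If all commutators are central and the generators of every `[g, x]` commute, the action is
trivial. -/
theorem class_two_false (ha : Act p x) (hm : Min x) (hZ : ∀ a b : H, ⁅a, b⁆ ∈ Subgroup.center H)
    (hZC : Subgroup.center H ≤ Fix x)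
    (hgen : ∀ g : H, ∀ a ∈ gen x g, ∀ b ∈ gen x g, ⁅a, b⁆ = 1) : False := by
  have hl : ∀ a b y : H, ⁅a * b, y⁆ = ⁅a, y⁆ * ⁅b, y⁆ := fun a b y => commutator_mul_left_of_central (hZ b y)
  have hr : ∀ a b y : H, ⁅a, b * y⁆ = ⁅a, b⁆ * ⁅a, y⁆ := fun a b y => commutator_mul_right_of_central (hZ a y)
  have hli : ∀ a y : H, ⁅a⁻¹, y⁆ = ⁅a, y⁆⁻¹ := fun a y =>
    eq_inv_of_mul_eq_one_left (by rw [← hl, inv_mul_cancel, commutatorElement_one_left])
  have hri : ∀ a y : H, ⁅a, y⁻¹⁆ = ⁅a, y⁆⁻¹ := fun a y =>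
    eq_inv_of_mul_eq_one_left (by rw [← hr, inv_mul_cancel, commutatorElement_one_right])
  have hx : ∀ a b : H, ⁅x a, x b⁆ = ⁅a, b⁆ := fun a b => by
    rw [← map_commutatorElement]; exact hZC (hZ a b)
  have hcm : ∀ a b c : H, ⁅a, b⁆ * c = c * ⁅a, b⁆ := fun a b c => (Subgroup.mem_center_iff.1 (hZ a b) c).symm
  have hself : ∀ g : H, ⁅g, x g⁆ = 1 := by
    intro g
    have hrec : ∀ j : ℕ, ⁅g, (x ^ (j + 1)) g⁆ = ⁅g, x g⁆ * ⁅g, (x ^ j) g⁆ := by
      intro j
      have h := hgen g _ (mem_gen_one g) _ (mem_gen g (j + 1))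
      rw [hl, hr, hr, hli, hri, commutatorElement_self, inv_one, inv_one, one_mul, hli, hri,
        pow_succ_apply, hx, ← pow_succ_apply, commutatorElement_inv (x g) g, inv_mul_eq_one] at h
      exact h
    have hpow : ∀ j : ℕ, ⁅g, (x ^ j) g⁆ = ⁅g, x g⁆ ^ j := by
      intro j
      induction j with
      | zero => rw [pow_zero, pow_zero]; exact commutatorElement_self g
      | succ j ih => rw [hrec, ih, pow_succ']
    have := hpow p
    rw [ha.pow_eq, show ((1 : MulAut H) g) = g from rfl, commutatorElement_self] at this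
    exact Subgroup.mem_bot.1 (eq_one_of_pow_mem ha (Subgroup.mem_bot.2 this.symm))
  have hpolar : ∀ a b : H, ⁅a, x b⁆ = ⁅x a, b⁆ := fun a b => by
    have h := hself (a * b)
    rw [map_mul, hl, hr, hr, hself, hself, one_mul, mul_one] at h
    rw [eq_inv_of_mul_eq_one_left h, commutatorElement_inv]
  have hsq : ∀ b : H, (x ^ 2) b * b⁻¹ ∈ Subgroup.center H := fun b => by
    refine Subgroup.mem_center_iff.2 fun a => ?_
    have h : ⁅a, (x ^ 2) b * b⁻¹⁆ = 1 := by
      rw [hr, hri, show (x ^ 2) b = x (x b) from rfl, hpolar, hx, mul_inv_cancel]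
    exact commutatorElement_eq_one_iff_mul_comm.1 h
  have hstep : ∀ b : H, x b * b⁻¹ ∈ Subgroup.center H := by
    intro b
    have hk : ∀ k : ℕ, (x ^ (2 * k)) b * b⁻¹ ∈ Subgroup.center H := by
      intro k
      induction k with
      | zero => simp
      | succ k ih =>
        have e : (x ^ (2 * (k + 1))) b * b⁻¹ =
            ((x ^ 2) ((x ^ (2 * k)) b) * ((x ^ (2 * k)) b)⁻¹) * ((x ^ (2 * k)) b * b⁻¹) := by
          rw [← pow_add_apply, show 2 + 2 * k = 2 * (k + 1) by ring]; group
        rw [e]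
        exact mul_mem (hsq _) ih
    obtain ⟨k, hk'⟩ := ha.prime.odd_of_ne_two ha.odd
    have := hk (k + 1)
    rwa [show 2 * (k + 1) = p + 1 by omega, pow_succ_apply', ha.pow_eq] at this
  have htop : (⊤ : Subgroup H) ≤ Subgroup.center H := by
    rw [← hm.top, cm, Subgroup.closure_le]
    rintro _ ⟨h, -, i, rfl⟩
    have key : ∀ i : ℕ, (x ^ i) h * h⁻¹ ∈ Subgroup.center H := by
      intro i
      induction i with
      | zero => simp
      | succ i ih =>
        have e : (x ^ (i + 1)) h * h⁻¹ = (x ((x ^ i) h) * ((x ^ i) h)⁻¹) * ((x ^ i) h * h⁻¹) := by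
          rw [pow_succ_apply]; group
        rw [e]
        exact mul_mem (hstep _) ih
    have := (Subgroup.mem_center_iff.1 (key i)) h⁻¹
    rw [show (h⁻¹ * (x ^ i) h) = ((x ^ i) h * h⁻¹) by
      have h2 := congrArg (· * h) this
      simpa [mul_assoc] using h2]
    exact key i
  have hbot : cm x ⊤ = ⊥ := by
    rw [eq_bot_iff, cm, Subgroup.closure_le]
    rintro _ ⟨h, -, i, rfl⟩
    rw [pow_fix (hZC (htop (Subgroup.mem_top h))), inv_mul_cancel]
    exact one_mem _
  haveI := hm.nontriv
  exact bot_ne_top (hbot.symm.trans hm.top)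

theorem pgroup_false (ha : Act p x) (hm : Min x) {q : ℕ} [Fact q.Prime] (hq : IsPGroup q H) : False := by
  classical
  haveI := hm.nontriv
  haveI := hq.isNilpotent
  set Z := Subgroup.center H with hZdef
  -- the centre is fixed
  have hZC : Z ≤ Fix x := by
    by_contra hcon
    obtain ⟨z, hz, hzx⟩ := SetLike.not_le_iff_exists.1 hcon
    have hne : cm x Z ≠ ⊥ := fun h => hzx (by
      have h2 : z⁻¹ * x z = 1 := Subgroup.mem_bot.1 (h ▸ mem_cm_one hz)
      exact (inv_mul_eq_one.1 h2).symm)
    have hnorm : (cm x Z).Normal := ⟨fun k hk g => by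
      rw [Subgroup.mem_center_iff.1 (cm_le inv_center hk) g, mul_inv_cancel_right]; exact hk⟩
    obtain ⟨c, hc, hcx, hcR⟩ := hm.out _ hnorm inv_cm hne
    -- the product over the orbit kills commutators
    let N : ℕ → H → H := fun n y => ((List.range n).map fun i => (x ^ i) y).prod
    have hcZ := cm_le (x := x) inv_center hc
    have hN1 : ∀ n, N n c = c ^ n := fun n => by
      induction n with
      | zero => simp [N]
      | succ n ih => simp only [N] at ih ⊢; rw [List.range_succ, List.map_append, List.prod_append, ih]; simp [pow_succ, pow_fix hcx]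
    have hmemZ : ∀ n y, y ∈ Z → N n y ∈ Z := fun n y hy => Subgroup.list_prod_mem _ fun a ha' => by
      obtain ⟨i, -, rfl⟩ := List.mem_map.1 ha'
      exact inv_center.pow hy i
    have hsucc : ∀ n y, N (n + 1) y = N n y * (x ^ n) y := fun n y => by
      simp only [N]; rw [List.range_succ, List.map_append, List.prod_append]; simp
    have hcomm : ∀ a ∈ Z, ∀ b : H, a * b = b * a := fun a ha' b => (Subgroup.mem_center_iff.1 ha' b).symm
    have hkill : ∀ y ∈ cm x Z, N p y = 1 := by
      have hmul : ∀ n, ∀ a ∈ Z, ∀ b ∈ Z, N n (a * b) = N n a * N n b := fun n a ha' b hb => by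
        induction n with
        | zero => simp [N]
        | succ n ih =>
          rw [hsucc, hsucc, hsucc, ih, map_mul, mul_assoc, ← mul_assoc (N n b),
            hcomm _ (hmemZ n b hb) ((x ^ n) a)]
          group
      intro y hy
      have key : ∀ y ∈ cm x Z, y ∈ Z ∧ N p y = 1 := by
        intro y hy
        induction hy using Subgroup.closure_induction with
        | mem y hy =>
          obtain ⟨a, ha', i, rfl⟩ := hy
          have ha2 := (inv_center (x := x)).pow ha' i
          refine ⟨mul_mem (inv_mem ha') ha2, ?_⟩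
          rw [hmul p _ (inv_mem ha') _ ha2]
          have e : ∀ i, ∀ b ∈ Z, N p ((x ^ i) b) = N p b := by
            intro i
            induction i with
            | zero => intro b _; rfl
            | succ i ih =>
              intro b hb
              rw [pow_succ_apply', ih _ (inv_center b hb)]
              have h1 : ∀ n, b * N n (x b) = N (n + 1) b := fun n => by
                induction n with
                | zero => simp [N]
                | succ n ihn => rw [hsucc n (x b), ← mul_assoc, ihn, hsucc (n + 1) b, pow_succ_apply']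
              have h2 := h1 p
              rw [hsucc, ha.pow_eq, show ((1 : MulAut H) b) = b from rfl,
                hcomm _ (hmemZ p b hb) b] at h2
              exact mul_left_cancel h2
          rw [e i a ha']
          rw [← hmul p _ (inv_mem ha') _ ha', inv_mul_cancel]
          clear e
          induction p with
          | zero => simp [N]
          | succ n ih => rw [hsucc, map_one, mul_one]; exact List.prod_eq_one (by simp)
        | one => exact ⟨one_mem _, List.prod_eq_one (by simp)⟩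
        | mul a b _ _ iha ihb => exact ⟨mul_mem iha.1 ihb.1, by rw [hmul p _ iha.1 _ ihb.1, iha.2, ihb.2, mul_one]⟩
        | inv a _ iha =>
          refine ⟨inv_mem iha.1, ?_⟩
          have h1 := hmul p _ (inv_mem iha.1) _ iha.1
          rw [inv_mul_cancel, iha.2, mul_one] at h1
          rw [← h1]
          exact List.prod_eq_one (by simp)
      exact (key y hy).2
    have hc1 : c = 1 := Subgroup.mem_bot.1 (eq_one_of_pow_mem ha (Subgroup.mem_bot.2 (by rw [← hN1]; exact hkill c hc)))
    exact hcR (hc1 ▸ one_mem _)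
  have hZR : ∀ z ∈ Z, z ∈ fromElements x → z = 1 := by
    intro z hz hzR
    by_contra hz1
    set M := Z ⊓ fromElements x
    have hMn : M.Normal := ⟨fun k hk g => by
      rw [Subgroup.mem_center_iff.1 hk.1 g, mul_inv_cancel_right]; exact hk⟩
    obtain ⟨c, hc, -, hcR⟩ := hm.out M hMn (fun l hl => by rw [show x l = l from hZC hl.1]; exact hl)
      (fun h => hz1 (Subgroup.mem_bot.1 (h ▸ (⟨hz, hzR⟩ : z ∈ M))))
    exact hcR hc.2
  have hgenR : ∀ h : H, ∀ a ∈ gen x h, a ∈ Z → a = 1 := fun h a ha' haZ =>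
    hZR a haZ (gen_inf_fix_le h ⟨ha', hZC haZ⟩)
  have hZne : Z ≠ ⊥ := Group.IsNilpotent.center_ne_bot H
  have hZtop : Z ≠ ⊤ := by
    intro h
    obtain ⟨z, hz, hz1⟩ := (Subgroup.bot_or_exists_ne_one Z).resolve_left hZne
    refine hz1 ?_
    have h1 := fix_le_commutator hm.top (hZC hz)
    have h2 : commutator H = ⊥ := by
      rw [commutator_def, Subgroup.commutator_eq_bot_iff_le_centralizer]
      intro a _
      rw [Subgroup.mem_centralizer_iff]
      intro b _
      have haZ : a ∈ Z := by rw [h]; trivial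
      exact Subgroup.mem_center_iff.1 haZ b
    exact Subgroup.mem_bot.1 (h2 ▸ h1)
  -- the second centre
  let U : Subgroup H :=
    { carrier := {u | ∀ g : H, ⁅u, g⁆ ∈ Z}
      one_mem' := fun g => by rw [commutatorElement_one_left]; exact one_mem _
      mul_mem' := fun {a b} ha' hb g => by rw [commutator_mul_left_of_central (hb g)]; exact mul_mem (ha' g) (hb g)
      inv_mem' := fun {a} ha' g => by
        have h1 := commutator_mul_right_of_central (b := a⁻¹ * g * a) (y := 1) (a := a) (by
          rw [commutatorElement_one_right]; exact one_mem _)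
        have e : ⁅a⁻¹, g⁆ = a⁻¹ * ⁅a, g⁆⁻¹ * a⁻¹⁻¹ := by
          rw [commutatorElement_def, commutatorElement_def]; group
        rw [e, Subgroup.mem_center_iff.1 (inv_mem (ha' g)), mul_inv_cancel_right]
        exact inv_mem (ha' g) }
  have hUinv : Inv x U := fun u hu g => by
    obtain ⟨g', rfl⟩ := x.surjective g
    rw [← map_commutatorElement]
    exact inv_center _ (hu g')
  obtain ⟨u₀, hu₀, hu₀Z⟩ : ∃ u ∈ U, u ∉ Z := by
    haveI : Nontrivial (H ⧸ Z) := QuotientGroup.nontrivial_iff.2 hZtop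
    obtain ⟨u, hu, hu1⟩ := (Subgroup.bot_or_exists_ne_one _).resolve_left
      (Group.IsNilpotent.center_ne_bot (G := H ⧸ Z))
    obtain ⟨u, rfl⟩ := QuotientGroup.mk_surjective u
    refine ⟨u, fun g => ?_, fun h => hu1 ((QuotientGroup.eq_one_iff u).2 h)⟩
    rw [← QuotientGroup.eq_one_iff, ← QuotientGroup.mk'_apply, map_commutatorElement,
      commutatorElement_eq_one_iff_mul_comm]
    exact (Subgroup.mem_center_iff.1 hu _).symm
  by_cases hex : ∃ h : H, gen x h ⊔ U = ⊤
  · obtain ⟨h, hKU⟩ := hex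
    set K := gen x h with hK
    -- `K` is abelian
    have hKab : ∀ a ∈ K, ∀ b ∈ K, ⁅a, b⁆ = 1 := by
      by_contra hcon
      push Not at hcon
      obtain ⟨a, ha', b, hb, hne⟩ := hcon
      set D := (commutator (↥K)) with hD
      have hDne : D ≠ ⊥ := fun h0 => hne (by
        have h1 : ⁅(⟨a, ha'⟩ : K), ⟨b, hb⟩⁆ ∈ D :=
          Subgroup.commutator_mem_commutator (Subgroup.mem_top _) (Subgroup.mem_top _)
        rw [h0, Subgroup.mem_bot] at h1
        exact congrArg Subtype.val h1)
      obtain ⟨w, ⟨hwD, hwc⟩, hw1⟩ := (Subgroup.bot_or_exists_ne_one _).resolve_left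
        (Cfsg.Lib.PGroup.inf_center_ne_bot (hq.to_subgroup K) hDne)
      refine hw1 (Subtype.ext (hgenR h (w : H) w.2 ?_))
      -- `w` commutes with `U` and `K`
      have hcU : ∀ u ∈ U, (w : H) * u = u * (w : H) := by
        intro u hu
        have hle : D ≤ (Subgroup.centralizer ({u} : Set H)).subgroupOf K := by
          rw [hD, commutator_def, Subgroup.commutator_le]
          intro s _ t _
          rw [Subgroup.mem_subgroupOf, Subgroup.mem_centralizer_singleton_iff]
          have hch : ∀ g : H, u * g * u⁻¹ = ⁅u, g⁆ * g := fun g => by rw [commutatorElement_def]; group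
          have key : u * ((⁅s, t⁆ : ↥K) : H) * u⁻¹ = ((⁅s, t⁆ : ↥K) : H) := by
            rw [show ((⁅s, t⁆ : ↥K) : H) = ⁅(s : H), (t : H)⁆ from rfl]
            rw [show u * ⁅(s : H), (t : H)⁆ * u⁻¹ = ⁅u * (s : H) * u⁻¹, u * (t : H) * u⁻¹⁆ by
              simp only [commutatorElement_def]; group, hch, hch, commutator_central_mul_left (hu _),
              commutator_central_mul_right (hu _)]
          calc ((⁅s, t⁆ : ↥K) : H) * u = (u * ((⁅s, t⁆ : ↥K) : H) * u⁻¹) * u := by rw [key]
            _ = u * ((⁅s, t⁆ : ↥K) : H) := by group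
        exact Subgroup.mem_centralizer_singleton_iff.1 (hle hwD)
      rw [hZdef, Subgroup.mem_center_iff]
      have hle : K ⊔ U ≤ Subgroup.centralizer ({(w : H)} : Set H) := sup_le
        (fun k hk => Subgroup.mem_centralizer_singleton_iff.2
          (congrArg Subtype.val (Subgroup.mem_center_iff.1 hwc ⟨k, hk⟩)))
        (fun u hu => Subgroup.mem_centralizer_singleton_iff.2 (hcU u hu).symm)
      intro g
      exact Subgroup.mem_centralizer_singleton_iff.1 (hle (hKU ▸ Subgroup.mem_top g))
    -- all commutators are central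
    have hUtop : U = ⊤ := by
      refine top_unique (hKU ▸ sup_le (fun k hk => ?_) le_rfl)
      intro g
      have hle : K ⊔ U ≤ ({ carrier := {g | ⁅k, g⁆ ∈ Z}
                            one_mem' := by show ⁅k, (1 : H)⁆ ∈ Z; rw [commutatorElement_one_right]; exact one_mem _
                            mul_mem' := fun {a b} ha' hb => by
                              show ⁅k, a * b⁆ ∈ Z
                              rw [commutator_mul_right_of_central hb]; exact mul_mem ha' hb
                            inv_mem' := fun {a} ha' => by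
                              show ⁅k, a⁻¹⁆ ∈ Z
                              have e : ⁅k, a⁻¹⁆ = a⁻¹ * ⁅k, a⁆⁻¹ * a⁻¹⁻¹ := by
                                rw [commutatorElement_def, commutatorElement_def]; group
                              rw [e, Subgroup.mem_center_iff.1 (inv_mem ha'), mul_inv_cancel_right]
                              exact inv_mem ha' } : Subgroup H) :=
        sup_le (fun k' hk' => by show ⁅k, k'⁆ ∈ Z; rw [hKab k hk k' hk']; exact one_mem _)
          (fun u hu => by show ⁅k, u⁆ ∈ Z; rw [← commutatorElement_inv]; exact inv_mem (hu k))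
      exact hle (hKU ▸ Subgroup.mem_top g)
    exact class_two_false ha hm (fun a b => (hUtop ▸ Subgroup.mem_top a : a ∈ U) b) hZC
      fun g a ha' b hb => hgenR g _ (by
        rw [commutatorElement_def]
        exact mul_mem (mul_mem (mul_mem ha' hb) (inv_mem ha')) (inv_mem hb))
        ((hUtop ▸ Subgroup.mem_top a : a ∈ U) b)
  · push Not at hex
    refine hu₀Z (Subgroup.mem_center_iff.2 fun g => ?_)
    have hle : cm x ⊤ ≤ Subgroup.centralizer ({u₀} : Set H) := by
      rw [cm, Subgroup.closure_le]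
      rintro _ ⟨h, -, i, rfl⟩
      set k := h⁻¹ * (x ^ i) h
      have hk : k ∈ gen x h := mem_gen h i
      have hL : Inv x (gen x h ⊔ U) := (inv_gen h).sup hUinv
      have hkD : k ∈ cm x (gen x h ⊔ U) := gen_le_cm ha le_sup_left hk
      have h1 : ⁅u₀, k⁆ ∈ cm x (gen x h ⊔ U) := by
        rw [commutatorElement_def]
        exact mul_mem (cm_normalized (Subgroup.mem_sup_right hu₀) hkD) (inv_mem hkD)
      have h2 : ⁅u₀, k⁆ = 1 := hZR _ (hu₀ k) (hm.sub _ hL (hex h) _ h1 (hZC (hu₀ k)))
      exact Subgroup.mem_centralizer_singleton_iff.2 (commutatorElement_eq_one_iff_mul_comm.1 h2).symm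
    exact Subgroup.mem_centralizer_singleton_iff.1 (hle (by rw [hm.top]; trivial))

/-- No nontrivial invariant central subgroup. -/
theorem central_false (ha : Act p x) (hm : Min x) {M : Subgroup H} (hMn : M.Normal) (hMi : Inv x M)
    (hM1 : M ≠ ⊥) (hMc : M ≤ Subgroup.center H) : False := by
  classical
  obtain ⟨c, hcM, hcx, hcR⟩ := hm.out M hMn hMi hM1
  have hex : ∃ n, 0 < n ∧ c ^ n ∈ fromElements x :=
    ⟨orderOf c, orderOf_pos c, by rw [pow_orderOf_eq_one]; exact one_mem _⟩
  obtain ⟨hnpos, hnR⟩ := Nat.find_spec hex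
  set n := Nat.find hex with hn
  obtain ⟨q, hq, e, he⟩ := Nat.exists_prime_and_dvd (n := n) fun h => hcR (by rwa [h, pow_one] at hnR)
  haveI : Fact q.Prime := ⟨hq⟩
  have hepos : 0 < e := Nat.pos_of_ne_zero fun h => by rw [h, mul_zero] at he; omega
  set y := c ^ e with hy
  have hyR : y ∉ fromElements x := fun h => by
    have h1 := Nat.find_min' hex (⟨hepos, h⟩ : 0 < e ∧ c ^ e ∈ fromElements x)
    have := hq.two_le
    rw [← hn, he] at h1
    nlinarith
  have hyq : y ^ q ∈ fromElements x := by rwa [hy, ← pow_mul, mul_comm, ← he]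
  obtain ⟨k, m, hm', hk⟩ : ∃ k m, ¬ q ∣ m ∧ orderOf y = q ^ k * m :=
    Nat.exists_eq_pow_mul_and_not_dvd (orderOf_pos y).ne' q hq.ne_one
  set z := y ^ m with hz
  have hzR : z ∉ fromElements x := fun h =>
    hyR (mem_of_pow_mem _ ((hq.coprime_iff_not_dvd.2 hm').symm) h hyq)
  have hzk : z ^ q ^ k = 1 := by rw [hz, ← pow_mul, mul_comm, ← hk, pow_orderOf_eq_one]
  have hzM : z ∈ M := pow_mem (pow_mem hcM _) _
  have hzc := Subgroup.mem_center_iff.1 (hMc hzM)
  have hzx : x z = z := by rw [hz, hy, map_pow, map_pow, hcx]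
  set N := Subgroup.zpowers z with hN
  have hNn : N.Normal := ⟨fun a ha' g => by
    obtain ⟨j, rfl⟩ := ha'
    rw [Subgroup.mem_center_iff.1 (zpow_mem (hMc hzM) j) g, mul_inv_cancel_right]
    exact ⟨j, rfl⟩⟩
  have hNi : Inv x N := fun a ha' => by
    obtain ⟨j, rfl⟩ := ha'
    show x (z ^ j) ∈ N
    rw [map_zpow, hzx]; exact ⟨j, rfl⟩
  have hN1 : N ≠ ⊥ := fun h => hzR (by
    rw [Subgroup.mem_bot.1 (h ▸ Subgroup.mem_zpowers z : z ∈ (⊥ : Subgroup H))]; exact one_mem _)
  obtain ⟨Q, hQi⟩ := exists_inv_sylow ha q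
  have hzQ : z ∈ (Q : Subgroup H) := by
    have hp : IsPGroup q N := fun a => ⟨k, Subtype.ext (by
      obtain ⟨j, hj⟩ := a.2
      show (a : H) ^ q ^ k = 1
      rw [← hj, ← zpow_natCast, ← zpow_mul, mul_comm, zpow_mul, zpow_natCast, hzk, one_zpow])⟩
    obtain ⟨P, hP⟩ := hp.exists_le_sylow
    obtain ⟨g, rfl⟩ := MulAction.exists_smul_eq H P Q
    rw [Sylow.coe_subgroup_smul, Subgroup.mem_smul_pointwise_iff_exists]
    exact ⟨z, hP (Subgroup.mem_zpowers z), by simp [hzc g]⟩
  by_cases hQ : (Q : Subgroup H) = ⊤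
  · exact pgroup_false ha hm (q := q) (by
      have := Q.2
      rw [hQ] at this
      exact this.of_equiv Subgroup.topEquiv)
  set B := cm x (Q : Subgroup H) with hB
  set E := fromElements x ⊓ (Q : Subgroup H) with hE
  have hBQ : B ≤ (Q : Subgroup H) := cm_le hQi
  let S : Subgroup H :=
    { carrier := {s | ∃ b ∈ E, ∃ a ∈ B, s = b * a}
      one_mem' := ⟨1, one_mem _, 1, one_mem _, (one_mul 1).symm⟩
      mul_mem' := by
        rintro _ _ ⟨b, hb, a, ha', rfl⟩ ⟨b', hb', a', ha'', rfl⟩
        refine ⟨b * b', mul_mem hb hb', (b'⁻¹ * a * b'⁻¹⁻¹) * a', mul_mem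
          (cm_normalized (inv_mem hb'.2) ha') ha'', by group⟩
      inv_mem' := by
        rintro _ ⟨b, hb, a, ha', rfl⟩
        exact ⟨b⁻¹, inv_mem hb, b * a⁻¹ * b⁻¹, cm_normalized hb.2 (inv_mem ha'), by group⟩ }
  have hdec : ∀ g ∈ (Q : Subgroup H), ∃ j : ℤ, ∃ s ∈ S, g = z ^ j * s := by
    intro g hg
    obtain ⟨a, ha', d, hd, rfl⟩ := exists_mul_fix ha hQi hg
    obtain ⟨r, hr, m', hm'', -, rfl⟩ := hm.lift N hNn hNi hN1 d hd.2
    obtain ⟨j, rfl⟩ := hm''
    refine ⟨j, r * a, ⟨r, ⟨hr, ?_⟩, a, ha', rfl⟩, ?_⟩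
    · have := (Q : Subgroup H).mul_mem hd.1 ((Q : Subgroup H).inv_mem ((Q : Subgroup H).zpow_mem hzQ j))
      rwa [mul_inv_cancel_right] at this
    · rw [← mul_assoc]
      show r * z ^ j * a = z ^ j * r * a
      rw [Subgroup.mem_center_iff.1 (zpow_mem (hMc hzM) j) r]
  set S' := S.subgroupOf (Q : Subgroup H) with hS'
  haveI hS'n : S'.Normal := ⟨fun s hs g => by
    obtain ⟨j, t, ht, e⟩ := hdec g g.2
    show (g : H) * s * (g : H)⁻¹ ∈ S
    have hc := Subgroup.mem_center_iff.1 (zpow_mem (hMc hzM) j)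
    rw [e, show z ^ j * t * (s : H) * (z ^ j * t)⁻¹ = z ^ j * (t * s * t⁻¹) * (z ^ j)⁻¹ by group,
      ← hc (t * (s : H) * t⁻¹), mul_inv_cancel_right]
    exact mul_mem (mul_mem ht hs) (inv_mem ht)⟩
  letI : CommGroup (↥(Q : Subgroup H) ⧸ S') :=
    { (inferInstance : Group (↥(Q : Subgroup H) ⧸ S')) with
      mul_comm := fun a b => by
        obtain ⟨a, rfl⟩ := QuotientGroup.mk_surjective a
        obtain ⟨b, rfl⟩ := QuotientGroup.mk_surjective b
        rw [← QuotientGroup.mk_mul, ← QuotientGroup.mk_mul, QuotientGroup.eq, hS', Subgroup.mem_subgroupOf]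
        obtain ⟨i, s, hs, ea⟩ := hdec a a.2
        obtain ⟨j, t, ht, eb⟩ := hdec b b.2
        have hci := Subgroup.mem_center_iff.1 (zpow_mem (hMc hzM) i)
        have hcj := Subgroup.mem_center_iff.1 (zpow_mem (hMc hzM) j)
        simp only [Subgroup.coe_mul, Subgroup.coe_inv, ea, eb]
        have e1 : z ^ i * s * (z ^ j * t) = z ^ i * z ^ j * (s * t) := by
          rw [mul_assoc, ← mul_assoc s, hcj s]; group
        have e2 : z ^ j * t * (z ^ i * s) = z ^ i * z ^ j * (t * s) := by
          rw [mul_assoc, ← mul_assoc t, hci t, ← mul_assoc, ← mul_assoc, hci (z ^ j)]; group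
        rw [e1, e2, mul_inv_rev, mul_assoc, ← mul_assoc (z ^ i * z ^ j)⁻¹, inv_mul_cancel, one_mul]
        exact mul_mem (inv_mem (mul_mem hs ht)) (mul_mem ht hs) }
  let ψ : (Q : Subgroup H) →* ↥(Q : Subgroup H) ⧸ S' := QuotientGroup.mk' S'
  have hker : z ∈ (ψ.transfer).ker :=
    Abelianization.commutator_subset_ker ψ.transfer (fix_le_commutator hm.top hzx)
  rw [MonoidHom.mem_ker, MonoidHom.transfer_eq_pow ψ z (fun j g _ => by
    rw [mul_assoc, ← Subgroup.mem_center_iff.1 (pow_mem (hMc hzM) j) g, inv_mul_cancel_left]),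
    QuotientGroup.mk'_apply, QuotientGroup.eq_one_iff, hS', Subgroup.mem_subgroupOf] at hker
  obtain ⟨b, hb, a, ha', e'⟩ := hker
  have e'' : z ^ (Q : Subgroup H).index = b * a := e'
  have haR : a ∈ fromElements x := hm.sub _ hQi hQ a ha' (by
    rw [show a = b⁻¹ * z ^ (Q : Subgroup H).index by rw [e'', inv_mul_cancel_left], map_mul, map_inv,
      map_pow, hzx, show x b = b from (fromElements_le hb.1).2])
  have hn' : z ^ (Q : Subgroup H).index ∈ fromElements x := e'' ▸ mul_mem hb.1 haR
  refine hzR (mem_of_pow_mem _ (a := q ^ k) ?_ (by rw [hzk]; exact one_mem _) hn')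
  exact ((hq.coprime_iff_not_dvd.2 Q.not_dvd_index).pow_left k)

end Cfsg.Lib.Flavell
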