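import Cfsg.Agent.Lib.Coprime.FlavellCentral

/-!
# A minimal counterexample is impossible

A solvable minimal counterexample is a product `V * L` of a minimal invariant normal subgroup and an
abelian invariant Sylow subgroup; counting fixed points in `V` gives a contradiction.
-/

set_option autoImplicit false
set_option linter.unusedSectionVars false

namespace Cfsg.Lib.Flavell

open scoped commutatorElement

universe u

variable {H : Type u} [Group H] [Finite H] {p : ℕ} {x : MulAut H}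

/-- The product over an orbit. -/
def nrm (x : MulAut H) (n : ℕ) (v : H) : H := ((List.range n).map fun i => (x ^ i) v).prod

theorem nrm_zero (v : H) : nrm x 0 v = 1 := by simp [nrm]

theorem nrm_succ (n : ℕ) (v : H) : nrm x (n + 1) v = nrm x n v * (x ^ n) v := by
  simp [nrm, List.range_succ]

theorem nrm_mem {L : Subgroup H} (hL : Inv x L) {v : H} (hv : v ∈ L) : ∀ n, nrm x n v ∈ L
  | 0 => by rw [nrm_zero]; exact one_mem _
  | n + 1 => by rw [nrm_succ]; exact mul_mem (nrm_mem hL hv n) (hL.pow hv n)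

theorem nrm_fix {v : H} (hv : v ∈ Fix x) : ∀ n, nrm x n v = v ^ n
  | 0 => by rw [nrm_zero, pow_zero]
  | n + 1 => by rw [nrm_succ, nrm_fix hv n, pow_fix hv, pow_succ]

theorem apply_nrm (v : H) : ∀ n, x (nrm x n v) = nrm x n (x v)
  | 0 => by rw [nrm_zero, nrm_zero, map_one]
  | n + 1 => by rw [nrm_succ, nrm_succ, map_mul, apply_nrm v n, ← pow_succ_apply, pow_succ_apply']

theorem mul_nrm_apply (v : H) : ∀ n, v * nrm x n (x v) = nrm x (n + 1) v
  | 0 => by rw [nrm_zero, mul_one, nrm_succ, nrm_zero, one_mul, pow_zero]; rfl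
  | n + 1 => by rw [nrm_succ n (x v), ← mul_assoc, mul_nrm_apply v n, nrm_succ (n + 1) v, pow_succ_apply']

theorem nrm_apply {L : Subgroup H} (ha : Act p x) (hL : Inv x L)
    (hc : ∀ a ∈ L, ∀ b ∈ L, a * b = b * a) {v : H} (hv : v ∈ L) : nrm x p (x v) = nrm x p v := by
  have h := mul_nrm_apply (x := x) v p
  rw [nrm_succ, ha.pow_eq, show ((1 : MulAut H) v) = v from rfl, hc _ (nrm_mem hL hv p) _ hv] at h
  exact mul_left_cancel h

theorem nrm_mul {L : Subgroup H} (hL : Inv x L)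
    (hc : ∀ a ∈ L, ∀ b ∈ L, a * b = b * a) {v w : H} (hv : v ∈ L) (hw : w ∈ L) :
    ∀ n, nrm x n (v * w) = nrm x n v * nrm x n w
  | 0 => by rw [nrm_zero, nrm_zero, nrm_zero, one_mul]
  | n + 1 => by
    rw [nrm_succ, nrm_succ, nrm_succ, nrm_mul hL hc hv hw n, map_mul, mul_assoc, mul_assoc,
      ← mul_assoc (nrm x n w), hc _ (nrm_mem hL hw n) _ (hL.pow hv n), mul_assoc]

/-- The orbit product as a homomorphism. -/
def nrmHom (p : ℕ) {L : Subgroup H} (hL : Inv x L) (hc : ∀ a ∈ L, ∀ b ∈ L, a * b = b * a) : L →* H :=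
  MonoidHom.mk' (fun v => nrm x p v) fun v w => nrm_mul hL hc v.2 w.2 p

theorem cm_le_cm_cm (ha : Act p x) (L : Subgroup H) : cm x L ≤ cm x (cm x L) := by
  conv_lhs => rw [cm]
  rw [Subgroup.closure_le]
  rintro _ ⟨h, hh, i, rfl⟩
  refine gen_le_cm ha ?_ (mem_gen h i)
  rw [gen, Subgroup.closure_le]
  rintro _ ⟨j, rfl⟩
  exact mem_cm hh j

theorem normal_of_sup {V L M : Subgroup H} (hsup : V ⊔ L = ⊤)
    (hV : ∀ g ∈ V, ∀ m ∈ M, g * m * g⁻¹ ∈ M) (hL : ∀ g ∈ L, ∀ m ∈ M, g * m * g⁻¹ ∈ M) : M.Normal := by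
  have key : ∀ K : Subgroup H, (∀ g ∈ K, ∀ m ∈ M, g * m * g⁻¹ ∈ M) →
      K ≤ Subgroup.normalizer (M : Set H) := fun K hK g hg => by
    rw [Subgroup.mem_normalizer_iff]
    intro y
    refine ⟨hK g hg y, fun h => ?_⟩
    have := hK g⁻¹ (inv_mem hg) _ h
    simpa [mul_assoc] using this
  rw [← Subgroup.normalizer_eq_top_iff, eq_top_iff, ← hsup]
  exact sup_le (key V hV) (key L hL)

/-- A minimal invariant normal subgroup. -/
structure MinNormal (x : MulAut H) (V : Subgroup H) : Prop where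
  normal : V.Normal
  inv : Inv x V
  ne_bot : V ≠ ⊥
  comm : ∀ a ∈ V, ∀ b ∈ V, a * b = b * a
  least : ∀ M : Subgroup H, M.Normal → Inv x M → M ≤ V → M ≠ ⊥ → M = V

theorem exists_minNormal [Group.IsSolvable H] [Nontrivial H] :
    ∃ V : Subgroup H, MinNormal x V ∧ ∃ q : ℕ, q.Prime ∧ ∀ v ∈ V, v ^ q = 1 := by
  obtain ⟨V, hV⟩ := (Set.toFinite {M : Subgroup H | M.Normal ∧ Inv x M ∧ M ≠ ⊥}).exists_minimal
    ⟨⊤, inferInstance, inv_top, top_ne_bot⟩
  obtain ⟨hVn, hVi, hV0⟩ := hV.prop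
  haveI := hVn
  have least : ∀ M : Subgroup H, M.Normal → Inv x M → M ≤ V → M ≠ ⊥ → M = V :=
    fun M h1 h2 h3 h4 => hV.eq_of_le ⟨h1, h2, h4⟩ h3
  have hcomm : ∀ a ∈ V, ∀ b ∈ V, a * b = b * a := by
    have hlt : ⁅V, V⁆ < V := IsSolvable.commutator_lt_of_ne_bot hV0
    by_contra hcon
    refine hlt.ne (least _ inferInstance (inv_commutator hVi hVi) hlt.le fun h => hcon fun a ha' b hb => ?_)
    exact commutatorElement_eq_one_iff_mul_comm.1
      (Subgroup.mem_bot.1 (h ▸ Subgroup.commutator_mem_commutator ha' hb))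
  obtain ⟨q, hq, hdvd⟩ := Nat.exists_prime_and_dvd (n := Nat.card V)
    (fun h => hV0 (Subgroup.card_eq_one.1 h))
  haveI : Fact q.Prime := ⟨hq⟩
  obtain ⟨v, hv⟩ := exists_prime_orderOf_dvd_card' q hdvd
  let M : Subgroup H :=
    { carrier := {a | a ∈ V ∧ a ^ q = 1}
      one_mem' := ⟨one_mem _, one_pow _⟩
      mul_mem' := fun {a b} ha' hb => ⟨mul_mem ha'.1 hb.1, by
        rw [(show Commute a b from hcomm a ha'.1 b hb.1).mul_pow, ha'.2, hb.2, one_mul]⟩
      inv_mem' := fun {a} ha' => ⟨inv_mem ha'.1, by rw [inv_pow, ha'.2, inv_one]⟩ }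
  have hM : M = V := least M
    ⟨fun a ha' g => ⟨hVn.conj_mem a ha'.1 g, by rw [conj_pow, ha'.2, mul_one, mul_inv_cancel]⟩⟩
    (fun a ha' => ⟨hVi a ha'.1, by rw [← map_pow, ha'.2, map_one]⟩) (fun a ha' => ha'.1)
    (fun h => by
      have h1 : (v : H) ∈ M := ⟨v.2, by rw [← Subgroup.coe_pow, ← hv, pow_orderOf_eq_one]; rfl⟩
      rw [h, Subgroup.mem_bot, OneMemClass.coe_eq_one] at h1
      rw [h1, orderOf_one] at hv
      exact hq.one_lt.ne hv)
  exact ⟨V, ⟨hVn, hVi, hV0, hcomm, least⟩, q, hq, fun a ha' => (hM ▸ ha' : a ∈ M).2⟩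

/-- An abelian invariant normal subgroup without escape from an invariant proper subgroup. -/
theorem minNormal_not_le_cm (hm : Min x) {V : Subgroup H} (hV : MinNormal x V) {L : Subgroup H}
    (hLi : Inv x L) (hL : L ≠ ⊤) (h : V ≤ cm x L) : False := by
  obtain ⟨c, hc, hcx, hcR⟩ := hm.out V hV.normal hV.inv hV.ne_bot
  exact hcR (hm.sub L hLi hL c (h hc) hcx)

/-- Some invariant Sylow subgroup `S` has `V ⊔ [S, x] = ⊤`. -/
theorem exists_sylow_sup (ha : Act p x) (hm : Min x) {V : Subgroup H} (hV : MinNormal x V)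
    (hcomm : ⁅V, (⊤ : Subgroup H)⁆ = V) :
    ∃ (r : ℕ) (_ : r.Prime) (S : Sylow r H), Inv x (S : Subgroup H) ∧ V ⊔ cm x (S : Subgroup H) = ⊤ := by
  by_contra hcon
  push Not at hcon
  haveI := hV.normal
  let W : Subgroup H :=
    ⨆ (r : ℕ) (_ : r.Prime) (S : Sylow r H) (_ : Inv x (S : Subgroup H)), cm x (S : Subgroup H)
  have hWle : ∀ (r : ℕ) (_ : r.Prime) (S : Sylow r H), Inv x (S : Subgroup H) →
      cm x (S : Subgroup H) ≤ W := fun r hr S hS =>
    le_iSup_of_le r (le_iSup_of_le hr (le_iSup_of_le S (le_iSup_of_le hS le_rfl)))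
  have hWi : Inv x W := Inv.iSup fun r => Inv.iSup fun _ => Inv.iSup fun S => Inv.iSup fun _ => inv_cm
  have hWC : ∀ c ∈ Fix x, ∀ w ∈ W, c * w * c⁻¹ ∈ W := by
    intro c hc
    have hle : W ≤ W.comap (MulAut.conj c).toMonoidHom := by
      refine iSup_le fun r => iSup_le fun hr => iSup_le fun S => iSup_le fun hS => ?_
      haveI : Fact r.Prime := ⟨hr⟩
      have hmem : ∀ s ∈ (S : Subgroup H), c * s * c⁻¹ ∈ ((c • S : Sylow r H) : Subgroup H) := fun s hs => by
        rw [Sylow.coe_subgroup_smul, Subgroup.mem_smul_pointwise_iff_exists]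
        exact ⟨s, hs, rfl⟩
      have hTi : Inv x ((c • S : Sylow r H) : Subgroup H) := fun t ht => by
        rw [Sylow.coe_subgroup_smul, Subgroup.mem_smul_pointwise_iff_exists] at ht
        obtain ⟨s, hs, rfl⟩ := ht
        show x (c * s * c⁻¹) ∈ _
        rw [map_mul, map_mul, map_inv, show x c = c from hc]
        exact hmem _ (hS s hs)
      rw [cm, Subgroup.closure_le]
      rintro _ ⟨s, hs, i, rfl⟩
      refine hWle r hr _ hTi ?_
      show c * (s⁻¹ * (x ^ i) s) * c⁻¹ ∈ _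
      have e : c * (s⁻¹ * (x ^ i) s) * c⁻¹ = (c * s * c⁻¹)⁻¹ * (x ^ i) (c * s * c⁻¹) := by
        rw [map_mul, map_mul, map_inv, pow_fix hc]; group
      rw [e]
      exact mem_cm (hmem s hs) i
    exact fun w hw => hle hw
  have hsup : W ⊔ Fix x = ⊤ := by
    rw [eq_top_iff, ← iSup_inv_sylow ha]
    refine iSup_le fun r => iSup_le fun hr => iSup_le fun S => iSup_le fun hS s hs => ?_
    obtain ⟨a, ha', c, hc, rfl⟩ := exists_mul_fix ha hS hs
    exact mul_mem (Subgroup.mem_sup_right hc.2) (Subgroup.mem_sup_left (hWle r hr S hS ha'))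
  haveI hWn : W.Normal := normal_of_sup hsup
    (fun g hg m hm' => mul_mem (mul_mem hg hm') (inv_mem hg)) hWC
  have hW : W = ⊤ := by
    rw [eq_top_iff, ← hm.top, cm, Subgroup.closure_le]
    rintro _ ⟨h, -, i, rfl⟩
    obtain ⟨w, hw, c, hc, rfl⟩ :=
      Subgroup.mem_sup_of_normal_left.1 (show h ∈ W ⊔ Fix x by rw [hsup]; trivial)
    have e : (w * c)⁻¹ * (x ^ i) (w * c) = c⁻¹ * (w⁻¹ * (x ^ i) w) * c⁻¹⁻¹ := by
      rw [map_mul, pow_fix hc]; group
    rw [e]
    exact hWC _ (inv_mem hc) _ (mul_mem (inv_mem hw) (hWi.pow hw i))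
  let N := nrmHom (x := x) p hV.inv hV.comm
  have hN : ∀ v : V, N v = nrm x p v := fun v => rfl
  let P : Subgroup H :=
    { carrier := {h | ∀ v ∈ V, nrm x p ⁅v, h⁆ ∈ fromElements x}
      one_mem' := fun v hv => by
        rw [commutatorElement_one_right, nrm_fix (one_mem _), one_pow]; exact one_mem _
      mul_mem' := fun {g h} hg hh v hv => by
        set v1 := h * v * h⁻¹ with hv1
        have hv1V : v1 ∈ V := hV.normal.conj_mem v hv h
        have e : ⁅v, g * h⁆ = ⁅v, h⁆ * ⁅v1, g⁆ := by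
          rw [hv1, commutatorElement_def, commutatorElement_def, commutatorElement_def]; group
        rw [e, nrm_mul hV.inv hV.comm (Subgroup.commutator_le_left V ⊤
            (Subgroup.commutator_mem_commutator hv (Subgroup.mem_top h)))
          (Subgroup.commutator_le_left V ⊤ (Subgroup.commutator_mem_commutator hv1V (Subgroup.mem_top g)))]
        exact mul_mem (hh v hv) (hg v1 hv1V)
      inv_mem' := fun {h} hh v hv => by
        set v1 := h⁻¹ * v * h⁻¹⁻¹ with hv1
        have hv1V : v1 ∈ V := hV.normal.conj_mem v hv h⁻¹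
        have hmem : ⁅v1, h⁆ ∈ V :=
          Subgroup.commutator_le_left V ⊤ (Subgroup.commutator_mem_commutator hv1V (Subgroup.mem_top h))
        have e : ⁅v, h⁻¹⁆ = ⁅v1, h⁆⁻¹ := by
          rw [hv1, commutatorElement_def, commutatorElement_def]; group
        rw [e]
        have h1 : nrm x p ⁅v1, h⁆⁻¹ = (nrm x p ⁅v1, h⁆)⁻¹ := map_inv N ⟨_, hmem⟩
        rw [h1]
        exact inv_mem (hh v1 hv1V) }
  have hP : P = ⊤ := by
    rw [eq_top_iff, ← hW]
    refine iSup_le fun r => iSup_le fun hr => iSup_le fun S => iSup_le fun hS s hs => ?_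
    intro v hv
    set L := V ⊔ cm x (S : Subgroup H)
    have hsL : s ∈ cm x L := cm_mono le_sup_right (cm_le_cm_cm ha _ hs)
    have h1 : ⁅v, s⁆ ∈ cm x L := by
      rw [commutatorElement_def]
      exact mul_mem (cm_normalized (Subgroup.mem_sup_left hv) hsL) (inv_mem hsL)
    have hwV : ⁅v, s⁆ ∈ V :=
      Subgroup.commutator_le_left V ⊤ (Subgroup.commutator_mem_commutator hv (Subgroup.mem_top s))
    exact hm.sub L (hV.inv.sup inv_cm) (hcon r hr S hS) _ (nrm_mem inv_cm h1 p)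
      (by rw [apply_nrm, nrm_apply ha hV.inv hV.comm hwV])
  have hall : ∀ v : V, N v ∈ fromElements x := by
    have hle : V ≤ ((fromElements x).comap N).map V.subtype := by
      conv_lhs => rw [← hcomm]
      rw [Subgroup.commutator_le]
      intro v hv g _
      exact ⟨⟨_, Subgroup.commutator_le_left V ⊤ (Subgroup.commutator_mem_commutator hv (Subgroup.mem_top g))⟩,
        (hP ▸ Subgroup.mem_top g : g ∈ P) v hv, rfl⟩
    intro v
    obtain ⟨w, hw, e⟩ := hle v.2
    obtain rfl : w = v := Subtype.ext e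
    exact hw
  obtain ⟨c, hc, hcx, hcR⟩ := hm.out V hV.normal hV.inv hV.ne_bot
  have := hall ⟨c, hc⟩
  rw [hN, nrm_fix hcx] at this
  exact hcR (eq_one_of_pow_mem ha this)

/-- The data of the last case. -/
structure Setup (x : MulAut H) (V L : Subgroup H) : Prop where
  minNormal : MinNormal x V
  inv : Inv x L
  disj : ∀ h ∈ V, h ∈ L → h = 1
  sup : V ⊔ L = ⊤
  cm_eq : cm x L = L
  center : Subgroup.center H = ⊥

theorem Setup.ne_top {V L : Subgroup H} (hs : Setup x V L) : L ≠ ⊤ := fun h =>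
  hs.minNormal.ne_bot ((Subgroup.eq_bot_iff_forall V).2 fun v hv => hs.disj v hv (h ▸ Subgroup.mem_top v))

/-- Only the identity centralizes `V` and `L`. -/
theorem Setup.eq_one {V L : Subgroup H} (hs : Setup x V L) {z : H} (h1 : ∀ v ∈ V, z * v = v * z)
    (h2 : ∀ l ∈ L, z * l = l * z) : z = 1 := by
  rw [← Subgroup.mem_bot, ← hs.center, Subgroup.mem_center_iff]
  intro g
  have hle : V ⊔ L ≤ Subgroup.centralizer ({z} : Set H) := sup_le
    (fun v hv => Subgroup.mem_centralizer_singleton_iff.2 (h1 v hv).symm)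
    (fun v hv => Subgroup.mem_centralizer_singleton_iff.2 (h2 v hv).symm)
  exact Subgroup.mem_centralizer_singleton_iff.1 (hle (by rw [hs.sup]; trivial))

theorem Setup.center_fix (ha : Act p x) (hm : Min x) {V L : Subgroup H} (hs : Setup x V L) {z : H}
    (hzL : z ∈ L) (hzc : ∀ l ∈ L, z * l = l * z) (hzx : x z = z) : z = 1 := by
  have hV := hs.minNormal
  haveI := hV.normal
  by_contra hz1
  set M := V ⊓ Subgroup.centralizer ({z} : Set H) with hM
  have hMn : M.Normal := normal_of_sup hs.sup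
    (fun g hg m hm' => by
      rw [hV.comm g hg m hm'.1, mul_inv_cancel_right]; exact hm')
    (fun g hg m hm' => Subgroup.mem_inf.2 ⟨hV.normal.conj_mem m hm'.1 g, by
      have e1 := hzc g hg
      have e2 : Commute z m := (Subgroup.mem_centralizer_singleton_iff.1 hm'.2).symm
      rw [Subgroup.mem_centralizer_singleton_iff]
      exact (((show Commute z g from e1).mul_right e2).mul_right (show Commute z g from e1).inv_right).eq.symm⟩)
  have hMi : Inv x M := fun m hm' => Subgroup.mem_inf.2 ⟨hV.inv m hm'.1, by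
    have e := Subgroup.mem_centralizer_singleton_iff.1 hm'.2
    rw [Subgroup.mem_centralizer_singleton_iff]
    have := congrArg x e
    rwa [map_mul, map_mul, hzx] at this⟩
  have hM0 : M = ⊥ := by
    by_contra h
    refine hz1 (hs.eq_one (fun v hv => ?_) hzc)
    exact (Subgroup.mem_centralizer_singleton_iff.1
      ((hV.least M hMn hMi inf_le_left h).symm ▸ hv : v ∈ M).2).symm
  have hzR : z ∈ fromElements x := hm.sub L hs.inv hs.ne_top z (hs.cm_eq.symm ▸ hzL) hzx
  let f : ↥(V ⊓ Fix x) → ↥(V ⊓ Fix x) := fun c => ⟨⁅(c : H), z⁆,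
    Subgroup.commutator_le_left V ⊤ (Subgroup.commutator_mem_commutator c.2.1 (Subgroup.mem_top z)), by
      show x ⁅(c : H), z⁆ = ⁅(c : H), z⁆
      rw [map_commutatorElement, hzx, show x (c : H) = c from c.2.2]⟩
  have hf : Function.Injective f := fun c d e => by
    have e' : ⁅(c : H), z⁆ = ⁅(d : H), z⁆ := congrArg Subtype.val e
    rw [commutatorElement_def, commutatorElement_def, mul_left_inj] at e'
    have h1 : (d : H)⁻¹ * c ∈ M := Subgroup.mem_inf.2 ⟨mul_mem (inv_mem d.2.1) c.2.1, by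
      rw [Subgroup.mem_centralizer_singleton_iff]
      calc (d : H)⁻¹ * c * z = (d : H)⁻¹ * ((c : H) * z * (c : H)⁻¹) * c := by group
        _ = (d : H)⁻¹ * ((d : H) * z * (d : H)⁻¹) * c := by rw [e']
        _ = z * ((d : H)⁻¹ * c) := by group⟩
    rw [hM0, Subgroup.mem_bot, inv_mul_eq_one] at h1
    exact Subtype.ext h1.symm
  obtain ⟨c, hc, hcx, hcR⟩ := hm.out V hV.normal hV.inv hV.ne_bot
  obtain ⟨d, hd⟩ := Finite.injective_iff_surjective.1 hf ⟨c, hc, hcx⟩
  refine hcR ?_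
  have e : ⁅(d : H), z⁆ = c := congrArg Subtype.val hd
  rw [← e, commutatorElement_def]
  exact mul_mem (fix_conj_fromElements d.2.2 hzR) (inv_mem hzR)

/-- `L` is abelian without fixed points and without proper invariant subgroups. -/
theorem Setup.abelian (ha : Act p x) (hm : Min x) {V L : Subgroup H} (hs : Setup x V L) {r : ℕ}
    [Fact r.Prime] (hr : IsPGroup r L) (hL0 : L ≠ ⊥) :
    (∀ a ∈ L, ∀ b ∈ L, a * b = b * a) ∧ (∀ a ∈ L, x a = a → a = 1) ∧
      ∀ M : Subgroup H, Inv x M → M ≤ L → M ≠ ⊥ → M = L := by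
  have hV := hs.minNormal
  haveI := hV.normal
  set Z := L ⊓ Subgroup.centralizer (L : Set H) with hZ
  have hZi : Inv x Z := hs.inv.inf (fun z hz => by
    rw [Subgroup.mem_centralizer_iff] at hz ⊢
    intro l hl
    obtain ⟨l', rfl⟩ := x.surjective l
    have hl' : l' ∈ L := by
      obtain ⟨k, hk⟩ : ∃ k, p = k + 1 := ⟨p - 1, by have := ha.prime.pos; omega⟩
      have := hs.inv.pow hl k
      rwa [← pow_succ_apply', ← hk, ha.pow_eq] at this
    rw [← map_mul, ← map_mul, hz l' hl'])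
  have hZ0 : Z ≠ ⊥ := by
    haveI : Nontrivial L := (Subgroup.nontrivial_iff_ne_bot L).2 hL0
    haveI := hr.isNilpotent
    obtain ⟨z, hz, hz1⟩ :=
      (Subgroup.bot_or_exists_ne_one _).resolve_left (Group.IsNilpotent.center_ne_bot L)
    intro h
    refine hz1 (Subtype.ext (Subgroup.mem_bot.1 (h ▸ (Subgroup.mem_inf.2 ⟨z.2, ?_⟩ : (z : H) ∈ Z))))
    rw [Subgroup.mem_centralizer_iff]
    exact fun l hl => congrArg Subtype.val (Subgroup.mem_center_iff.1 hz ⟨l, hl⟩)
  have key : ∀ M : Subgroup H, Inv x M → M ≤ Z → M ≠ ⊥ → M = L := by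
    intro M hMi hMZ hM0
    have hMc : ∀ m ∈ M, ∀ l ∈ L, m * l = l * m := fun m hm' l hl =>
      (Subgroup.mem_centralizer_iff.1 (hMZ hm').2 l hl).symm
    have hMcm : M ≤ cm x M := le_cm_of_fix_eq_bot hMi fun m hm' hmx =>
      hs.center_fix ha hm (hMZ hm').1 (hMc m hm') hmx
    by_cases htop : V ⊔ M = ⊤
    · refine le_antisymm (fun m hm' => (hMZ hm').1) fun l hl => ?_
      obtain ⟨v, hv, m, hm', e⟩ := Subgroup.mem_sup_of_normal_left.1
        (show l ∈ V ⊔ M by rw [htop]; trivial)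
      have : v = 1 := hs.disj v hv (by
        rw [show v = l * m⁻¹ by rw [← e, mul_inv_cancel_right]]
        exact mul_mem hl (inv_mem (hMZ hm').1))
      rw [← e, this, one_mul]; exact hm'
    exfalso
    set D := ⁅V, M⁆ with hD
    have hDV : D ≤ V := Subgroup.commutator_le_left V M
    have hDn : D.Normal := normal_of_sup hs.sup
      (fun g hg d hd => by rw [hV.comm g hg d (hDV hd), mul_inv_cancel_right]; exact hd)
      (fun g hg d hd => by
        have hle : D ≤ D.comap (MulAut.conj g).toMonoidHom := Subgroup.commutator_le.2 fun v hv m hm' => by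
          show g * ⁅v, m⁆ * g⁻¹ ∈ D
          have e : g * ⁅v, m⁆ * g⁻¹ = ⁅g * v * g⁻¹, g * m * g⁻¹⁆ := by
            simp only [commutatorElement_def]; group
          rw [e, ← hMc m hm' g hg, mul_inv_cancel_right]
          exact Subgroup.commutator_mem_commutator (hV.normal.conj_mem v hv g) hm'
        exact hle hd)
    have hD0 : D ≠ ⊥ := fun h => by
      obtain ⟨m, hm', hm1⟩ := (Subgroup.bot_or_exists_ne_one M).resolve_left hM0
      refine hm1 (hs.eq_one (fun v hv => ?_) (hMc m hm'))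
      exact (commutatorElement_eq_one_iff_mul_comm.1
        (Subgroup.mem_bot.1 (h ▸ Subgroup.commutator_mem_commutator hv hm'))).symm
    refine minNormal_not_le_cm hm hV (hV.inv.sup hMi) htop ?_
    refine (hV.least D hDn (inv_commutator hV.inv hMi) hDV hD0).ge.trans ?_
    refine Subgroup.commutator_le.2 fun v hv m hm' => ?_
    have h1 : m ∈ cm x (V ⊔ M) := cm_mono le_sup_right (hMcm hm')
    rw [commutatorElement_def]
    exact mul_mem (cm_normalized (Subgroup.mem_sup_left hv) h1) (inv_mem h1)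
  have hZL : Z = L := key Z hZi le_rfl hZ0
  have hab : ∀ a ∈ L, ∀ b ∈ L, a * b = b * a := fun a ha' b hb =>
    (Subgroup.mem_centralizer_iff.1 (hZL.symm ▸ ha' : a ∈ Z).2 b hb).symm
  exact ⟨hab, fun a ha' hax => hs.center_fix ha hm ha' (hab a ha') hax,
    fun M hMi hML hM0 => key M hMi (hML.trans hZL.symm.le) hM0⟩

/-- Every `a ≠ 1` in `L` gives `V = a F a⁻¹ * F`. -/
theorem Setup.decomp (ha : Act p x) (hm : Min x) {V L : Subgroup H} (hs : Setup x V L) {r : ℕ}
    [Fact r.Prime] (S : Sylow r H) (hS : (S : Subgroup H) = L)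
    (hfix : ∀ a ∈ L, x a = a → a = 1) (hmin : ∀ M : Subgroup H, Inv x M → M ≤ L → M ≠ ⊥ → M = L)
    {a v : H} (ha' : a ∈ L) (ha1 : a ≠ 1) (hv : v ∈ V) :
    ∃ f1 ∈ V ⊓ Fix x, ∃ f2 ∈ V ⊓ Fix x, v = a * f1 * a⁻¹ * f2 := by
  have hV := hs.minNormal
  haveI := hV.normal
  have hFV : ∀ h : H, x h = h → h ∈ V := by
    intro h hh
    obtain ⟨w, hw, l, hl, e⟩ := Subgroup.mem_sup_of_normal_left.1
      (show h ∈ V ⊔ L by rw [hs.sup]; trivial)
    have hxl : x l = l := by
      rw [← e, map_mul] at hh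
      refine (mul_inv_eq_one.1 (hs.disj _ ?_ (mul_mem (hs.inv l hl) (inv_mem hl))))
      rw [show x l * l⁻¹ = (x w)⁻¹ * w by rw [eq_inv_mul_iff_mul_eq, ← mul_assoc, hh, mul_inv_cancel_right]]
      exact mul_mem (inv_mem (hV.inv w hw)) hw
    rw [← e, hfix l hl hxl, mul_one]
    exact hw
  -- work with `a⁻¹`
  set b := a⁻¹ with hb
  have hbL : b ∈ L := inv_mem ha'
  set h := b * v with hh
  clear_value h
  set K := gen x h with hK
  have hKsup : K ⊔ V = ⊤ := by
    have hLK : L ≤ K ⊔ V := by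
      have hmem : b⁻¹ * x b ∈ (K ⊔ V) ⊓ L := by
        refine Subgroup.mem_inf.2 ⟨?_, mul_mem (inv_mem hbL) (hs.inv b hbL)⟩
        have e : b⁻¹ * x b = v * (h⁻¹ * x h) * (x v)⁻¹ := by rw [hh, map_mul]; group
        rw [e]
        exact mul_mem (mul_mem (Subgroup.mem_sup_right hv) (Subgroup.mem_sup_left (mem_gen_one h)))
          (inv_mem (Subgroup.mem_sup_right (hV.inv v hv)))
      have h0 : (K ⊔ V) ⊓ L ≠ ⊥ := fun h0 => by
        rw [h0, Subgroup.mem_bot, inv_mul_eq_one] at hmem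
        exact ha1 (by rw [← inv_inv a, ← hb, hfix b hbL hmem.symm, inv_one])
      exact le_trans (hmin _ (((inv_gen h).sup hV.inv).inf hs.inv) inf_le_right h0).ge inf_le_left
    rw [eq_top_iff, ← hs.sup]
    exact sup_le le_sup_right hLK
  have hdisj : K ⊓ V = ⊥ := by
    by_contra hne
    have hn : (K ⊓ V).Normal := normal_of_sup hKsup
      (fun g hg m hm' => Subgroup.mem_inf.2 ⟨mul_mem (mul_mem hg hm'.1) (inv_mem hg), hV.normal.conj_mem m hm'.2 g⟩)
      (fun g hg m hm' => by rw [hV.comm g hg m hm'.2, mul_inv_cancel_right]; exact hm')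
    have hVK : V ≤ K := (hV.least _ hn ((inv_gen h).inf hV.inv) inf_le_right hne).ge.trans inf_le_left
    obtain ⟨c, hc, hcx, hcR⟩ := hm.out V hV.normal hV.inv hV.ne_bot
    exact hcR (gen_inf_fix_le h ⟨hVK hc, hcx⟩)
  have hcard : Nat.card K = Nat.card L := by
    have h1 : ∀ M : Subgroup H, M ⊔ V = ⊤ → M ⊓ V = ⊥ → Nat.card M = V.index := fun M e1 e2 => by
      rw [← Subgroup.relIndex_bot_left, ← e2, inf_comm, Subgroup.inf_relIndex_right,
        ← Subgroup.relIndex_sup_right, e1, Subgroup.relIndex_top_right]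
    rw [h1 K hKsup hdisj, h1 L (by rw [sup_comm]; exact hs.sup)
      ((Subgroup.eq_bot_iff_forall _).2 fun y hy => hs.disj y hy.2 hy.1)]
  let T : Sylow r H := Sylow.ofCard K (by rw [hcard, ← hS]; exact S.card_eq_multiplicity)
  obtain ⟨u, hu, hconj⟩ := exists_fix_conj ha (S := S) (T := T) (by rw [hS]; exact hs.inv) (inv_gen h)
  have hy : u⁻¹ * (h⁻¹ * x h) * u ∈ L := hS ▸ hconj _ (mem_gen_one h)
  obtain ⟨a₀, ha₀, e₀⟩ := exists_eq_of_fix_eq_bot hs.inv hfix hy
  set c := h * (u * a₀ * u⁻¹)⁻¹ with hc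
  have hcx : x c = c := by
    rw [hc, map_mul, map_inv, map_mul, map_mul, map_inv, show x u = u from hu,
      show x a₀ = a₀ * (u⁻¹ * (h⁻¹ * x h) * u) by rw [← e₀, mul_inv_cancel_left]]
    group
  have hcV := hFV c hcx
  have huV := hFV u hu
  have e1 : h = c * (u * a₀ * u⁻¹) := by rw [hc, inv_mul_cancel_right]
  have e2 : a₀ = b := by
    refine (inv_mul_eq_one.1 (hs.disj _ ?_ (mul_mem (inv_mem hbL) ha₀))).symm
    have e : b⁻¹ * a₀ = b⁻¹ * (u⁻¹ * c⁻¹) * b⁻¹⁻¹ * (v * u) := by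
      rw [show a₀ = u⁻¹ * c⁻¹ * h * u by rw [e1]; group, hh]; group
    rw [e]
    exact mul_mem (hV.normal.conj_mem _ (mul_mem (inv_mem huV) (inv_mem hcV)) _) (mul_mem hv huV)
  refine ⟨c * u, Subgroup.mem_inf.2 ⟨mul_mem hcV huV, Subgroup.mul_mem _ hcx hu⟩, u⁻¹,
    Subgroup.mem_inf.2 ⟨inv_mem huV, Subgroup.inv_mem _ hu⟩, ?_⟩
  rw [e2, hh] at e1
  rw [show v = b⁻¹ * (c * (u * b * u⁻¹)) by rw [← e1, inv_mul_cancel_left], hb]
  group

/-- The last case is impossible. -/
theorem Setup.false (ha : Act p x) (hm : Min x) {V L : Subgroup H} (hs : Setup x V L) {r : ℕ}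
    [Fact r.Prime] (S : Sylow r H) (hS : (S : Subgroup H) = L) (hL0 : L ≠ ⊥) : False := by
  classical
  have hV := hs.minNormal
  haveI := hV.normal
  obtain ⟨hab, hfix, hmin⟩ := hs.abelian ha hm (hS ▸ S.2 : IsPGroup r L) hL0
  have hdec : ∀ a ∈ L, a ≠ 1 → ∀ v ∈ V, ∃ f1 ∈ V ⊓ Fix x, ∃ f2 ∈ V ⊓ Fix x, v = a * f1 * a⁻¹ * f2 :=
    fun a ha' ha1 v hv => hs.decomp ha hm S hS hfix hmin ha' ha1 hv
  obtain ⟨l, hl, hl1⟩ := (Subgroup.bot_or_exists_ne_one L).resolve_left hL0
  by_cases hfree : ∀ a ∈ L, ∀ v ∈ V, a * v = v * a → a = 1 ∨ v = 1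
  · -- no element of `L` has fixed points on `V`
    obtain ⟨c, hc, hcx, hcR⟩ := hm.out V hV.normal hV.inv hV.ne_bot
    have hc1 : c ≠ 1 := fun h => hcR (h ▸ one_mem _)
    obtain ⟨b, hb, d, hd, e⟩ := hdec l hl hl1 (l * l * c * (l * l)⁻¹) (hV.normal.conj_mem c hc _)
    -- the relation holds along the orbit of `l`
    have hrel : ∀ i : ℕ, (x ^ i) l * (x ^ i) l * c * ((x ^ i) l * (x ^ i) l)⁻¹ =
        (x ^ i) l * b * ((x ^ i) l)⁻¹ * d := fun i => by
      have := congrArg (x ^ i) e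
      simpa [map_mul, map_inv, pow_fix hcx, pow_fix hb.2, pow_fix hd.2] using this
    have hpair : ∀ k ∈ L, ∀ k' ∈ L, k ≠ k' →
        k * k * c * (k * k)⁻¹ = k * b * k⁻¹ * d → k' * k' * c * (k' * k')⁻¹ = k' * b * k'⁻¹ * d →
        k * c * k⁻¹ * (k' * c * k'⁻¹) = b := by
      intro k hk k' hk' hne e1 e2
      have hA : k * c * k⁻¹ ∈ V := hV.normal.conj_mem c hc k
      have hB : k' * c * k'⁻¹ ∈ V := hV.normal.conj_mem c hc k'
      set D := k * c * k⁻¹ * (k' * c * k'⁻¹) * b⁻¹ with hD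
      have hDV : D ∈ V := mul_mem (mul_mem hA hB) (inv_mem hb.1)
      set E := k * k' * c * (k * k')⁻¹ with hE
      have hEV : E ∈ V := hV.normal.conj_mem c hc _
      have hkk : k' * k * c * (k' * k)⁻¹ = E := by rw [hE, hab k' hk' k hk]
      -- conjugating `D` by `k` and by `k'` gives the same
      have h1 : k * D * k⁻¹ = d * E := by
        have : k * D * k⁻¹ = (k * k * c * (k * k)⁻¹) * E * (k * b * k⁻¹)⁻¹ := by rw [hD, hE]; group
        rw [this, e1]
        have hbV : k * b * k⁻¹ ∈ V := hV.normal.conj_mem b hb.1 k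
        rw [mul_assoc (k * b * k⁻¹), hV.comm _ hbV _ (mul_mem hd.1 hEV), mul_inv_cancel_right]
      have h2 : k' * D * k'⁻¹ = d * E := by
        have : k' * D * k'⁻¹ = (k' * k * c * (k' * k)⁻¹) * (k' * k' * c * (k' * k')⁻¹) * (k' * b * k'⁻¹)⁻¹ := by
          rw [hD]; group
        rw [this, hkk, e2]
        have hbV : k' * b * k'⁻¹ ∈ V := hV.normal.conj_mem b hb.1 k'
        rw [hV.comm _ hEV _ (mul_mem hbV hd.1), mul_assoc (k' * b * k'⁻¹),
          hV.comm _ hbV _ (mul_mem hd.1 hEV), mul_inv_cancel_right]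
      have h3 : (k'⁻¹ * k) * D = D * (k'⁻¹ * k) := by
        calc (k'⁻¹ * k) * D = k'⁻¹ * (k * D * k⁻¹) * k := by group
          _ = k'⁻¹ * (k' * D * k'⁻¹) * k := by rw [h1, h2]
          _ = D * (k'⁻¹ * k) := by group
      rcases hfree _ (mul_mem (inv_mem hk') hk) D hDV h3 with h | h
      · exact absurd (inv_mul_eq_one.1 h).symm hne
      · exact mul_inv_eq_one.1 (hD ▸ h)
    have h0 : l * l * c * (l * l)⁻¹ = l * b * l⁻¹ * d := e
    have hx1 : x l ∈ L := hs.inv l hl
    have hx2 : x (x l) ∈ L := hs.inv _ hx1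
    have hne01 : l ≠ x l := fun h => hl1 (hfix l hl h.symm)
    have hne02 : l ≠ x (x l) := fun h => hne01 (by
      have hk : ∀ k : ℕ, (x ^ (2 * k)) l = l := by
        intro k
        induction k with
        | zero => rfl
        | succ k ih => rw [show 2 * (k + 1) = 2 * k + 2 by ring, pow_add_apply, show (x ^ 2) l = x (x l) from rfl, ← h, ih]
      obtain ⟨k, hk'⟩ := ha.prime.odd_of_ne_two ha.odd
      have := hk (k + 1)
      rw [show 2 * (k + 1) = p + 1 by omega, pow_succ_apply', ha.pow_eq] at this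
      exact this.symm)
    have hr1 := hrel 1
    have hr2 := hrel 2
    simp only [pow_one] at hr1
    rw [show (x ^ 2) l = x (x l) from rfl] at hr2
    have p1 := hpair l hl _ hx1 hne01 h0 hr1
    have p2 := hpair l hl _ hx2 hne02 h0 hr2
    have h4 : x l * c * (x l)⁻¹ = x (x l) * c * (x (x l))⁻¹ := mul_left_cancel (p1.trans p2.symm)
    have h5 : ((x (x l))⁻¹ * x l) * c = c * ((x (x l))⁻¹ * x l) := by
      calc ((x (x l))⁻¹ * x l) * c = (x (x l))⁻¹ * (x l * c * (x l)⁻¹) * x l := by group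
        _ = (x (x l))⁻¹ * (x (x l) * c * (x (x l))⁻¹) * x l := by rw [h4]
        _ = c * ((x (x l))⁻¹ * x l) := by group
    rcases hfree _ (mul_mem (inv_mem hx2) hx1) c hc h5 with h | h
    · exact hne01 (x.injective (inv_mul_eq_one.1 h).symm)
    · exact hc1 h
  · -- some element of `L` has fixed points on `V`
    push Not at hfree
    obtain ⟨a, haL, v, hv, hav, ha1, hv1⟩ := hfree
    have hmem0 : Subgroup.zpowers a ≤ L ∧ V ⊓ Subgroup.centralizer (Subgroup.zpowers a : Set H) ≠ ⊥ := by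
      refine ⟨Subgroup.zpowers_le.2 haL, fun h => hv1 (Subgroup.mem_bot.1 (h ▸ Subgroup.mem_inf.2 ⟨hv, ?_⟩))⟩
      rw [Subgroup.mem_centralizer_iff]
      rintro _ ⟨j, rfl⟩
      exact ((show Commute a v from hav).zpow_left j).eq
    obtain ⟨A, hA⟩ :=
      (Set.toFinite {A : Subgroup H | A ≤ L ∧ V ⊓ Subgroup.centralizer (A : Set H) ≠ ⊥ ∧ A ≠ ⊥}).exists_maximal
        ⟨_, hmem0.1, hmem0.2, Subgroup.zpowers_ne_bot.2 ha1⟩
    obtain ⟨hAL, hW0, hA0⟩ := hA.prop
    set W := V ⊓ Subgroup.centralizer (A : Set H) with hW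
    have hwA : ∀ w : H, w ∈ W ↔ w ∈ V ∧ ∀ b ∈ A, b * w = w * b := fun w => by
      rw [hW, Subgroup.mem_inf, Subgroup.mem_centralizer_iff]; rfl
    have hALne : A ≠ L := fun h => hW0 ((Subgroup.eq_bot_iff_forall _).2 fun w hw => by
      refine hs.eq_one (fun v' hv' => hV.comm w ((hwA w).1 hw).1 v' hv') fun l' hl' => ?_
      exact (((hwA w).1 hw).2 l' (h ▸ hl')).symm)
    -- the images of `A` under `x` and `x ^ 2` are not below `A`
    have hnotle : ∀ j : ℕ, (j = 1 ∨ j = 2) → ∃ b ∈ A, (x ^ j) b ∉ A := by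
      intro j hj
      by_contra hcon
      push Not at hcon
      refine hALne (hmin A ?_ hAL hA0)
      intro b hb
      rcases hj with rfl | rfl
      · simpa using hcon b hb
      · obtain ⟨k, hk'⟩ := ha.prime.odd_of_ne_two ha.odd
        have hk : ∀ k : ℕ, (x ^ (2 * k)) b ∈ A := by
          intro k
          induction k with
          | zero => exact hb
          | succ k ih => rw [show 2 * (k + 1) = 2 + 2 * k by ring, pow_add_apply]; exact hcon _ ih
        have := hk (k + 1)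
        rwa [show 2 * (k + 1) = p + 1 by omega, pow_succ_apply', ha.pow_eq] at this
    -- `W` meets its translates trivially
    have hmeet : ∀ j : ℕ, (j = 1 ∨ j = 2) → ∀ w ∈ W, ∀ w' ∈ W, w = (x ^ j) w' → w = 1 := by
      intro j hj w hw w' hw' e
      obtain ⟨b, hb, hbA⟩ := hnotle j hj
      by_contra hw1
      have hB : A ⊔ Subgroup.zpowers ((x ^ j) b) ≤ A := hA.le_of_ge
        ⟨sup_le hAL (Subgroup.zpowers_le.2 (hs.inv.pow (hAL hb) j)), fun h => hw1 (Subgroup.mem_bot.1 (h ▸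
          (Subgroup.mem_inf.2 ⟨((hwA w).1 hw).1, ?_⟩ : w ∈ V ⊓ Subgroup.centralizer (_ : Set H)))),
          fun h => hA0 (le_bot_iff.1 (h ▸ le_sup_left))⟩ le_sup_left
      · exact hbA (hB (Subgroup.mem_sup_right (Subgroup.mem_zpowers _)))
      · have hle : A ⊔ Subgroup.zpowers ((x ^ j) b) ≤ Subgroup.centralizer ({w} : Set H) := by
          refine sup_le (fun c hc => Subgroup.mem_centralizer_singleton_iff.2 (((hwA w).1 hw).2 c hc))
            (Subgroup.zpowers_le.2 (Subgroup.mem_centralizer_singleton_iff.2 ?_))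
          rw [e, ← map_mul, ← map_mul, ((hwA w').1 hw').2 b hb]
        rw [Subgroup.mem_centralizer_iff]
        intro c hc
        exact Subgroup.mem_centralizer_singleton_iff.1 (hle hc)
    have hWV : ∀ w ∈ W, w ∈ V := fun w hw => ((hwA w).1 hw).1
    -- `W` is normalised by `L`
    have hWL : ∀ g ∈ L, ∀ w ∈ W, g * w * g⁻¹ ∈ W := fun g hg w hw => (hwA _).2
      ⟨hV.normal.conj_mem w (hWV w hw) g, fun b hb => by
        have e1 : Commute b w := ((hwA w).1 hw).2 b hb
        have e2 : Commute b g := hab b (hAL hb) g hg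
        exact ((e2.mul_right e1).mul_right e2.inv_right).eq⟩
    have hconjmem : ∀ j : ℕ, ∀ g ∈ L, ∀ w ∈ W,
        ∃ w' ∈ W, g * (x ^ j) w * g⁻¹ = (x ^ j) w' := by
      intro j g hg w hw
      obtain ⟨g', rfl⟩ := (x ^ j).surjective g
      have hg' : g' ∈ L := by
        have h1 := hs.inv.pow hg (p * j - j)
        rwa [← pow_add_apply, Nat.sub_add_cancel (Nat.le_mul_of_pos_left j ha.prime.pos), pow_mul,
          ha.pow_eq, one_pow] at h1
      exact ⟨g' * w * g'⁻¹, hWL g' hg' w hw, by rw [map_mul, map_mul, map_inv]⟩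
    -- three translates are independent
    let m : W × W × W → V := fun t => ⟨t.1 * x t.2.1 * x (x t.2.2),
      mul_mem (mul_mem (hWV _ t.1.2) (hV.inv _ (hWV _ t.2.1.2))) (hV.inv _ (hV.inv _ (hWV _ t.2.2.2)))⟩
    have hm3 : ∀ w ∈ W, ∀ w1 ∈ W, ∀ w2 ∈ W, w * x w1 * x (x w2) = 1 → w = 1 ∧ w1 = 1 ∧ w2 = 1 := by
      intro w hw w1 hw1 w2 hw2 e
      have v0 := hWV w hw
      have v1 := hV.inv _ (hWV w1 hw1)
      have v2 := hV.inv _ (hV.inv _ (hWV w2 hw2))
      -- every element of `A` fixes `x w1` and `x (x w2)`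
      have hfixed : ∀ b ∈ A, b * x w1 * b⁻¹ = x w1 ∧ b * x (x w2) * b⁻¹ = x (x w2) := by
        intro b hb
        obtain ⟨u1, hu1, eu1⟩ := hconjmem 1 b (hAL hb) w1 hw1
        obtain ⟨u2, hu2, eu2⟩ := hconjmem 2 b (hAL hb) w2 hw2
        simp only [pow_one] at eu1
        rw [show ∀ y, (x ^ 2) y = x (x y) from fun y => rfl, show ∀ y, (x ^ 2) y = x (x y) from fun y => rfl] at eu2
        have hbw : b * w * b⁻¹ = w := by
          rw [((hwA w).1 hw).2 b hb, mul_inv_cancel_right]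
        have e' : w * (b * x w1 * b⁻¹) * (b * x (x w2) * b⁻¹) = 1 := by
          calc w * (b * x w1 * b⁻¹) * (b * x (x w2) * b⁻¹)
              = (b * w * b⁻¹) * (b * x w1 * b⁻¹) * (b * x (x w2) * b⁻¹) := by rw [hbw]
            _ = b * (w * x w1 * x (x w2)) * b⁻¹ := by group
            _ = 1 := by rw [e]; group
        rw [mul_assoc] at e e'
        have e'' : x w1 * x (x w2) = (b * x w1 * b⁻¹) * (b * x (x w2) * b⁻¹) :=
          mul_left_cancel (e.trans e'.symm)
        rw [eu1, eu2] at e'' ⊢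
        have e3 : u1⁻¹ * w1 = x (u2 * w2⁻¹) := x.injective (by
          have h1 : (x u1)⁻¹ * x w1 = x (x u2) * (x (x w2))⁻¹ := by
            rw [eq_mul_inv_iff_mul_eq, mul_assoc, e'', inv_mul_cancel_left]
          rwa [← map_inv, ← map_mul, ← map_inv, ← map_inv, ← map_mul, ← map_mul] at h1)
        have h1 : u1⁻¹ * w1 = 1 := hmeet 1 (Or.inl rfl) _ (mul_mem (inv_mem hu1) hw1) _
          (mul_mem hu2 (inv_mem hw2)) (by rw [pow_one]; exact e3)
        refine ⟨by rw [inv_mul_eq_one.1 h1], ?_⟩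
        rw [h1] at e3
        rw [mul_inv_eq_one.1 (x.injective (e3.symm.trans (map_one x).symm))]
      have hin : ∀ y ∈ V, (∀ b ∈ A, b * y * b⁻¹ = y) → y ∈ W := fun y hy h => (hwA y).2
        ⟨hy, fun b hb => mul_inv_eq_iff_eq_mul.1 (h b hb)⟩
      have h1 : x w1 = 1 := hmeet 1 (Or.inl rfl) _ (hin _ v1 fun b hb => (hfixed b hb).1) w1 hw1
        (by rw [pow_one])
      have h2 : x (x w2) = 1 := hmeet 2 (Or.inr rfl) _ (hin _ v2 fun b hb => (hfixed b hb).2) w2 hw2 rfl
      rw [h1, h2, mul_one, mul_one] at e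
      exact ⟨e, (map_eq_one_iff x x.injective).1 h1,
        (map_eq_one_iff x x.injective).1 ((map_eq_one_iff x x.injective).1 h2)⟩
    have hcube : Nat.card W * (Nat.card W * Nat.card W) ≤ Nat.card V := by
      rw [← Nat.card_prod W W, ← Nat.card_prod]
      refine Nat.card_le_card_of_injective m fun s t e => ?_
      have e' : (s.1 : H) * x s.2.1 * x (x s.2.2) = t.1 * x t.2.1 * x (x t.2.2) := congrArg Subtype.val e
      obtain ⟨q1, q2, q3⟩ := hm3 _ (mul_mem s.1.2 (inv_mem t.1.2)) _ (mul_mem s.2.1.2 (inv_mem t.2.1.2))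
        _ (mul_mem s.2.2.2 (inv_mem t.2.2.2)) (by
          let vv : (w : H) → w ∈ V → V := fun w hw => ⟨w, hw⟩
          letI : CommGroup V := { (inferInstance : Group V) with
            mul_comm := fun a b => Subtype.ext (hV.comm a a.2 b b.2) }
          have key : ∀ a1 a2 a3 b1 b2 b3 : V, a1 * a2 * a3 = b1 * b2 * b3 →
              (a1 * b1⁻¹) * (a2 * b2⁻¹) * (a3 * b3⁻¹) = 1 := fun a1 a2 a3 b1 b2 b3 h => by
            calc (a1 * b1⁻¹) * (a2 * b2⁻¹) * (a3 * b3⁻¹) = (a1 * a2 * a3) * (b1 * b2 * b3)⁻¹ := by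
                  simp only [mul_inv_rev, mul_comm, mul_left_comm, mul_assoc]
              _ = 1 := by rw [h, mul_inv_cancel]
          have := congrArg Subtype.val (key (vv _ (hWV _ s.1.2)) (vv _ (hV.inv _ (hWV _ s.2.1.2)))
            (vv _ (hV.inv _ (hV.inv _ (hWV _ s.2.2.2)))) (vv _ (hWV _ t.1.2))
            (vv _ (hV.inv _ (hWV _ t.2.1.2))) (vv _ (hV.inv _ (hV.inv _ (hWV _ t.2.2.2)))) (Subtype.ext e'))
          rw [map_mul, map_inv, map_mul, map_mul, map_inv, map_inv]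
          exact this)
      exact Prod.ext (Subtype.ext (mul_inv_eq_one.1 q1))
        (Prod.ext (Subtype.ext (mul_inv_eq_one.1 q2)) (Subtype.ext (mul_inv_eq_one.1 q3)))
    -- `V` is generated by the translates of `W`
    set N := nrmHom (x := x) p hV.inv hV.comm with hN
    set U := ⨆ i : ℕ, W.map ((x ^ i : MulAut H) : H →* H) with hU
    have hUmem : ∀ (i : ℕ) (w : H), w ∈ W → (x ^ i) w ∈ U := fun i w hw => le_iSup
      (fun i : ℕ => W.map ((x ^ i : MulAut H) : H →* H)) i ⟨w, hw, rfl⟩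
    have hUV : U ≤ V := iSup_le fun i y ⟨w, hw, e⟩ => e ▸ hV.inv.pow (hWV w hw) i
    have hUi : Inv x U := by
      have hle : U ≤ U.comap (x : H →* H) := iSup_le fun i y ⟨w, hw, e⟩ => by
        show x y ∈ U
        rw [← e, show x (((x ^ i : MulAut H) : H →* H) w) = (x ^ (i + 1)) w from (pow_succ_apply i w).symm]
        exact hUmem _ w hw
      exact hle
    have hUn : U.Normal := normal_of_sup hs.sup
      (fun g hg y hy => by rw [hV.comm g hg y (hUV hy), mul_inv_cancel_right]; exact hy)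
      (fun g hg y hy => by
        have hle : U ≤ U.comap (MulAut.conj g).toMonoidHom := iSup_le fun i y ⟨w, hw, e⟩ => by
          obtain ⟨w', hw', e'⟩ := hconjmem i g hg w hw
          show g * y * g⁻¹ ∈ U
          rw [← e, show g * ((x ^ i : MulAut H) : H →* H) w * g⁻¹ = (x ^ i) w' from e']
          exact hUmem i w' hw'
        exact hle hy)
    have hU0 : U ≠ ⊥ := fun h => hW0 ((Subgroup.eq_bot_iff_forall _).2 fun w hw => by
      have := hUmem 0 w hw
      rw [h, Subgroup.mem_bot] at this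
      exact this)
    have hUeq : U = V := hV.least U hUn hUi hUV hU0
    -- orbit products of `V` come from `W`
    set T := (W.subgroupOf V).map N with hT
    have hNT : ∀ v : V, N v ∈ T := by
      have hle : V ≤ (T.comap N).map V.subtype := by
        conv_lhs => rw [← hUeq]
        refine iSup_le fun i y ⟨w, hw, e⟩ => ?_
        refine ⟨⟨y, e ▸ hV.inv.pow (hWV w hw) i⟩, ⟨⟨w, hWV w hw⟩, hw, ?_⟩, rfl⟩
        show nrm x p w = nrm x p y
        rw [← e]
        have hki : ∀ i, nrm x p ((x ^ i) w) = nrm x p w := by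
          intro i
          induction i with
          | zero => rfl
          | succ i ih => rw [pow_succ_apply, nrm_apply ha hV.inv hV.comm (hV.inv.pow (hWV w hw) i), ih]
        exact (hki i).symm
      intro v
      obtain ⟨w, hw, e⟩ := hle v.2
      obtain rfl : w = v := Subtype.ext e
      exact hw
    have hFT : V ⊓ Fix x ≤ T := fun f hf => eq_one_of_pow_mem ha (by
      have := hNT ⟨f, hf.1⟩
      rwa [show N ⟨f, hf.1⟩ = nrm x p f from rfl, nrm_fix hf.2] at this)
    have hFW : Nat.card ↥(V ⊓ Fix x) ≤ Nat.card W := by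
      refine le_trans (Subgroup.card_le_of_le hFT) ?_
      refine le_trans (Nat.card_le_card_of_surjective (fun w : W.subgroupOf V => (⟨N w, ⟨w, w.2, rfl⟩⟩ : T))
        (fun t => ?_)) ?_
      · obtain ⟨w, hw, e⟩ := t.2
        exact ⟨⟨w, hw⟩, Subtype.ext e⟩
      · exact le_of_eq (Nat.card_congr (Subgroup.subgroupOfEquivOfLe (fun w hw => hWV w hw)).toEquiv)
    have hsq : Nat.card V ≤ Nat.card ↥(V ⊓ Fix x) * Nat.card ↥(V ⊓ Fix x) := by
      rw [← Nat.card_prod]
      refine Nat.card_le_card_of_surjective (fun t : ↥(V ⊓ Fix x) × ↥(V ⊓ Fix x) =>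
        (⟨l * t.1 * l⁻¹ * t.2, mul_mem (hV.normal.conj_mem _ t.1.2.1 l) t.2.2.1⟩ : V)) fun v => ?_
      obtain ⟨f1, hf1, f2, hf2, e⟩ := hdec l hl hl1 v v.2
      exact ⟨(⟨f1, hf1⟩, ⟨f2, hf2⟩), Subtype.ext e.symm⟩
    have h1W : 1 < Nat.card W := (Subgroup.one_lt_card_iff_ne_bot W).2 hW0
    nlinarith [Nat.mul_le_mul hFW hFW]

/-- There is no solvable minimal counterexample. -/
theorem min_false [Group.IsSolvable H] (ha : Act p x) (hm : Min x) : False := by
  haveI := hm.nontriv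
  by_cases hZ : Subgroup.center H = ⊥
  swap
  · exact central_false ha hm inferInstance inv_center hZ le_rfl
  obtain ⟨V, hV, q, hq, hVq⟩ := exists_minNormal (x := x)
  haveI := hV.normal
  haveI : Fact q.Prime := ⟨hq⟩
  have hcomm : ⁅V, (⊤ : Subgroup H)⁆ = V := by
    refine hV.least _ inferInstance (inv_commutator hV.inv inv_top) (Subgroup.commutator_le_left V ⊤) fun h => ?_
    refine hV.ne_bot (le_bot_iff.1 ?_)
    rw [← hZ]
    intro v hv
    rw [Subgroup.mem_center_iff]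
    intro g
    exact (commutatorElement_eq_one_iff_mul_comm.1
      (Subgroup.mem_bot.1 (h ▸ Subgroup.commutator_mem_commutator hv (Subgroup.mem_top g)))).symm
  obtain ⟨r, hr, S, hSi, hsup⟩ := exists_sylow_sup ha hm hV hcomm
  haveI : Fact r.Prime := ⟨hr⟩
  have hVp : IsPGroup q V := fun v => ⟨1, Subtype.ext (by rw [pow_one]; exact hVq v v.2)⟩
  have hSL : cm x (S : Subgroup H) ≤ S := cm_le hSi
  by_cases hqr : r = q
  · subst hqr
    have hsup' : (S : Subgroup H) ⊔ V = ⊤ := top_unique (hsup ▸ sup_le le_sup_right (hSL.trans le_sup_left))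
    have htop : IsPGroup r ((S : Subgroup H) ⊔ V : Subgroup H) := S.2.to_sup_of_normal_right hVp
    rw [hsup'] at htop
    exact pgroup_false ha hm (htop.of_equiv Subgroup.topEquiv)
  have hdisj : ∀ h ∈ V, h ∈ (S : Subgroup H) → h = 1 := fun h h1 h2 => Subgroup.mem_bot.1
    ((IsPGroup.disjoint_of_ne q r (Ne.symm hqr) _ _ hVp S.2).le_bot ⟨h1, h2⟩)
  have hcmS : cm x (S : Subgroup H) = S := by
    refine le_antisymm hSL fun s hs => ?_
    obtain ⟨v, hv, l, hl, e⟩ := Subgroup.mem_sup_of_normal_left.1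
      (show s ∈ V ⊔ cm x (S : Subgroup H) by rw [hsup]; trivial)
    have : v = 1 := hdisj v hv (by
      rw [show v = s * l⁻¹ by rw [← e, mul_inv_cancel_right]]; exact mul_mem hs (inv_mem (hSL hl)))
    rw [← e, this, one_mul]; exact hl
  have hs : Setup x V (S : Subgroup H) := ⟨hV, hSi, hdisj, by rw [← hcmS]; exact hsup, hcmS, hZ⟩
  refine hs.false ha hm S rfl fun h => ?_
  have hVtop : V = ⊤ := by rw [← hs.sup, h, sup_bot_eq]
  refine hV.ne_bot (le_bot_iff.1 ?_)
  rw [← hZ]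
  intro v hv
  rw [Subgroup.mem_center_iff]
  exact fun g => hV.comm g (hVtop ▸ Subgroup.mem_top g) v hv

end Cfsg.Lib.Flavell
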