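import Mathlib

/-!
# Decomposition of a nilpotent group under two commuting automorphisms of prime order

If `α`, `β` are commuting automorphisms with `α^q = β^q = 1` of a finite nilpotent group `P` of
order prime to `q`, then `P` is the product of the fixed subgroups of `β` and the `α β^t`, and
`|P| ∏ |Q ∩ C(cᵢ)| ≤ |Q| ∏ |C(cᵢ)|` for every invariant subgroup `Q`.
-/

set_option autoImplicit false

namespace Cfsg.Lib.Coprime.RankTwo

universe u v

variable {P : Type u} [Group P]

/-- The fixed points of an automorphism. -/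
def fx (γ : MulAut P) : Subgroup P where
  carrier := {x | γ x = x}
  mul_mem' {x y} hx hy := by show γ (x * y) = x * y; rw [map_mul, hx, hy]
  one_mem' := map_one γ
  inv_mem' {x} hx := by show γ x⁻¹ = x⁻¹; rw [map_inv, hx]

theorem mem_fx {γ : MulAut P} {x : P} : x ∈ fx γ ↔ γ x = x := Iff.rfl

/-- The `q + 1` automorphisms `α β^t` and `β`. -/
def line (q : ℕ) (α β : MulAut P) : Fin (q + 1) → MulAut P :=
  Fin.snoc (fun t => α * β ^ (t : ℕ)) β

theorem line_pow {q : ℕ} {α β : MulAut P} (hα : α ^ q = 1) (hβ : β ^ q = 1) (h : Commute α β)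
    (i : Fin (q + 1)) : line q α β i ^ q = 1 := by
  induction i using Fin.lastCases with
  | last => simpa [line] using hβ
  | cast t =>
    simp only [line, Fin.snoc_castSucc]
    rw [(h.pow_right _).mul_pow, hα, ← pow_mul, mul_comm (t : ℕ), pow_mul, hβ, one_pow, one_mul]

theorem map_line {P' : Type v} [Group P'] (F : MulAut P →* MulAut P') (q : ℕ) (α β : MulAut P)
    (i : Fin (q + 1)) : F (line q α β i) = line q (F α) (F β) i := by
  induction i using Fin.lastCases with
  | last => simp [line]
  | cast t => simp [line]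

theorem line_mapsTo (q : ℕ) (α β : MulAut P) (Q : Subgroup P) (hα : ∀ x ∈ Q, α x ∈ Q)
    (hβ : ∀ x ∈ Q, β x ∈ Q) (i : Fin (q + 1)) : ∀ x ∈ Q, line q α β i x ∈ Q := by
  have hpow : ∀ t : ℕ, ∀ x ∈ Q, (β ^ t) x ∈ Q := by
    intro t
    induction t with
    | zero => intro x hx; simpa using hx
    | succ t ih => intro x hx; rw [pow_succ, MulAut.mul_apply]; exact ih _ (hβ x hx)
  induction i using Fin.lastCases with
  | last => intro x hx; simpa [line] using hβ x hx
  | cast t =>
    intro x hx
    simp only [line, Fin.snoc_castSucc, MulAut.mul_apply]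
    exact hα _ (hpow _ x hx)

theorem fixed_prod_pow {V : Type u} [CommGroup V] {q : ℕ} (γ : MulAut V) (hγ : γ ^ q = 1) (w : V) :
    γ (∏ j ∈ Finset.range q, (γ ^ j) w) = ∏ j ∈ Finset.range q, (γ ^ j) w := by
  rcases q with - | n
  · simp
  rw [map_prod]
  have h : ∀ j, γ ((γ ^ j) w) = (γ ^ (j + 1)) w := fun j => by rw [pow_succ', MulAut.mul_apply]
  simp_rw [h]
  rw [Finset.prod_range_succ, Finset.prod_range_succ' (fun j => (γ ^ j) w) n, hγ, pow_zero]

/-- The abelian case. -/
theorem exists_prod_of_comm {V : Type u} [CommGroup V] [Finite V] {q : ℕ} (hq : q.Prime)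
    (α β : MulAut V) (hα : α ^ q = 1) (hβ : β ^ q = 1) (hc : Commute α β)
    (hcop : ¬ q ∣ Nat.card V) (v : V) :
    ∃ f : Fin (q + 1) → V, (∀ i, line q α β i (f i) = f i) ∧ ∏ i, f i = v := by
  classical
  obtain ⟨w, rfl⟩ := (powCoprime ((hq.coprime_iff_not_dvd.mpr hcop).symm)).surjective v
  obtain ⟨n, hn⟩ : ∃ n, q = n + 1 := ⟨q - 1, by have := hq.pos; omega⟩
  let f : Fin (q + 1) → V := Fin.snoc (fun t => ∏ j ∈ Finset.range q, ((α * β ^ (t : ℕ)) ^ j) w)
    (∏ j ∈ Finset.range n, (α ^ (j + 1)) (∏ t ∈ Finset.range q, ((β ^ (j + 1)) ^ t) w))⁻¹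
  refine ⟨f, fun i => ?_, ?_⟩
  · induction i using Fin.lastCases with
    | last =>
      simp only [f, line, Fin.snoc_last]
      rw [map_inv, map_prod]
      congr 1
      refine Finset.prod_congr rfl fun j hj => ?_
      have hj : j < n := Finset.mem_range.mp hj
      have hfix := fixed_prod_pow (q := q) (β ^ (j + 1))
        (by rw [← pow_mul, mul_comm, pow_mul, hβ, one_pow]) w
      have hcj : (j + 1).Coprime (orderOf β) := Nat.Coprime.coprime_dvd_right
        (orderOf_dvd_of_pow_eq_one hβ) ((hq.coprime_iff_not_dvd.mpr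
          (Nat.not_dvd_of_pos_of_lt (by omega) (by omega))).symm)
      obtain ⟨m, hm⟩ := exists_pow_eq_self_of_coprime hcj
      have hm' : ∀ (k : ℕ) (γ : MulAut V) (z : V), γ z = z → (γ ^ k) z = z := by
        intro k γ z hz
        induction k with
        | zero => rfl
        | succ k ih => rw [pow_succ, MulAut.mul_apply, hz, ih]
      have hb := hm' m _ _ hfix
      rw [hm] at hb
      rw [← MulAut.mul_apply, (hc.pow_left (j + 1)).symm.eq, MulAut.mul_apply, hb]
    | cast t =>
      simp only [f, line, Fin.snoc_castSucc]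
      refine fixed_prod_pow _ ?_ w
      rw [(hc.pow_right _).mul_pow, hα, ← pow_mul, mul_comm (t : ℕ), pow_mul, hβ, one_pow, one_mul]
  · rw [Fin.prod_univ_castSucc]
    simp only [f, Fin.snoc_castSucc, Fin.snoc_last, powCoprime_apply]
    rw [Fin.prod_univ_eq_prod_range (fun t => ∏ j ∈ Finset.range q, ((α * β ^ t) ^ j) w),
      Finset.prod_comm]
    have h : ∀ j t : ℕ, ((α * β ^ t) ^ j) w = (α ^ j) (((β ^ j) ^ t) w) := fun j t => by
      rw [(hc.pow_right t).mul_pow, MulAut.mul_apply, ← pow_mul, mul_comm t j, pow_mul]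
    simp_rw [h, ← map_prod]
    rw [mul_inv_eq_iff_eq_mul]
    conv_lhs => rw [show Finset.range q = Finset.range (n + 1) by rw [hn]]
    rw [Finset.prod_range_succ', ← hn]
    simp [Nat.card_coe_set_eq, mul_comm]

/-- Restriction of automorphisms to the centre. -/
def resCenter : MulAut P →* MulAut (Subgroup.center P) where
  toFun γ := Subgroup.centerCongr γ
  map_one' := by ext; rfl
  map_mul' a b := by ext; rfl

theorem map_center (γ : MulAut P) :
    (Subgroup.center P).map (γ : P →* P) = Subgroup.center P :=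
  Subgroup.characteristic_iff_map_eq.mp inferInstance γ

/-- Automorphisms induced on the central quotient. -/
def quoCenter : MulAut P →* MulAut (P ⧸ Subgroup.center P) where
  toFun γ := QuotientGroup.congr _ _ γ (map_center γ)
  map_one' := by ext x; induction x using QuotientGroup.induction_on; rfl
  map_mul' a b := by ext x; induction x using QuotientGroup.induction_on; rfl

theorem quoCenter_mk (γ : MulAut P) (x : P) :
    quoCenter γ (x : P ⧸ Subgroup.center P) = ((γ x : P) : P ⧸ Subgroup.center P) := rfl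

/-- A fixed coset contains a fixed element. -/
theorem exists_fixed_lift [Finite P] {P' : Type v} [Group P'] (f : P →* P') {q : ℕ} (hq : q.Prime)
    (γ : MulAut P) (γ' : MulAut P') (hf : ∀ x, f (γ x) = γ' (f x)) (hγ : γ ^ q = 1)
    (hcop : ¬ q ∣ Nat.card P) (Q : Subgroup P) (hQ : ∀ x ∈ Q, γ x ∈ Q) (y : P) (hy : y ∈ Q)
    (hfix : γ' (f y) = f y) : ∃ x ∈ Q, γ x = x ∧ f x = f y := by
  classical
  haveI : Fact q.Prime := ⟨hq⟩
  let X := {x : P // x ∈ Q ∧ f x = f y}
  haveI : Fintype X := Fintype.ofFinite _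
  let g : X → X := fun x => ⟨γ x.1, hQ _ x.2.1, by rw [hf, x.2.2, hfix]⟩
  have hg : Function.Injective g := fun x x' h =>
    Subtype.ext (γ.injective (congrArg Subtype.val h))
  let σ : Equiv.Perm X := Equiv.ofBijective g (Finite.injective_iff_bijective.mp hg)
  have hσ : ∀ (k : ℕ) (x : X), ((σ ^ k) x).1 = (γ ^ k) x.1 := by
    intro k
    induction k with
    | zero => intro x; rfl
    | succ k ih => intro x; rw [pow_succ, pow_succ, Equiv.Perm.mul_apply, ih]; rfl
  have hcard : Fintype.card X = Nat.card (Q ⊓ f.ker : Subgroup P) := by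
    rw [← Nat.card_eq_fintype_card]
    refine (Nat.card_congr ?_).symm
    exact
    { toFun := fun k => ⟨y * k.1, mul_mem hy k.2.1, by rw [map_mul, f.mem_ker.mp k.2.2, mul_one]⟩
      invFun := fun x => ⟨y⁻¹ * x.1, mul_mem (Q.inv_mem hy) x.2.1,
        f.mem_ker.mpr (by rw [map_mul, map_inv, x.2.2, inv_mul_cancel])⟩
      left_inv := fun k => Subtype.ext (inv_mul_cancel_left _ _)
      right_inv := fun x => Subtype.ext (mul_inv_cancel_left _ _) }
  obtain ⟨x, hx⟩ := Equiv.Perm.exists_fixed_point_of_prime (p := q) (n := 1)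
    (by rw [hcard]; exact fun h => hcop (h.trans (Subgroup.card_subgroup_dvd_card _)))
    (σ := σ) (by
      ext x
      rw [pow_one, hσ, hγ]
      rfl)
  exact ⟨x.1, x.2.1, congrArg Subtype.val hx, x.2.2⟩

theorem card_eq_mul_map {P' : Type v} [Group P'] (f : P →* P') (X : Subgroup P) :
    Nat.card X = Nat.card (X ⊓ f.ker : Subgroup P) * Nat.card (X.map f) := by
  let g := f.comp X.subtype
  have h1 : g.range = X.map f := by
    rw [MonoidHom.range_eq_map, ← Subgroup.map_map, ← MonoidHom.range_eq_map, Subgroup.range_subtype]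
  have h2 : Nat.card g.ker = Nat.card (X ⊓ f.ker : Subgroup P) := by
    rw [← Nat.card_congr (Subgroup.subgroupOfEquivOfLe (inf_le_left : X ⊓ f.ker ≤ X)).toEquiv]
    congr 1
    have : g.ker = (X ⊓ f.ker).subgroupOf X := by
      ext z
      simp [g, Subgroup.mem_subgroupOf]
    rw [this]
  rw [← g.ker.card_mul_index, Subgroup.index_ker, h1, h2]

theorem map_inf_fx [Finite P] {q : ℕ} (hq : q.Prime) (γ : MulAut P) (hγ : γ ^ q = 1)
    (hcop : ¬ q ∣ Nat.card P) (Q : Subgroup P) (hQ : ∀ x ∈ Q, γ x ∈ Q) :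
    (Q ⊓ fx γ).map (QuotientGroup.mk' (Subgroup.center P)) =
      Q.map (QuotientGroup.mk' (Subgroup.center P)) ⊓ fx (quoCenter γ) := by
  refine le_antisymm ?_ ?_
  · rintro _ ⟨x, ⟨hx1, hx2⟩, rfl⟩
    refine ⟨⟨x, hx1, rfl⟩, ?_⟩
    show quoCenter γ (x : P ⧸ Subgroup.center P) = _
    rw [quoCenter_mk, show γ x = x from hx2]
    rfl
  · rintro _ ⟨⟨y, hy, rfl⟩, hfix⟩
    obtain ⟨x, hxQ, hx, hxy⟩ := exists_fixed_lift (QuotientGroup.mk' (Subgroup.center P)) hq γ
      (quoCenter γ) (fun x => rfl) hγ hcop Q hQ y hy hfix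
    exact ⟨x, ⟨hxQ, hx⟩, hxy⟩

theorem prod_ofFn_mul_central {n : ℕ} (f g : Fin n → P)
    (hg : ∀ i, g i ∈ Subgroup.center P) :
    (List.ofFn fun i => f i * g i).prod = (List.ofFn f).prod * (List.ofFn g).prod := by
  induction n with
  | zero => simp
  | succ n ih =>
    rw [List.ofFn_succ, List.ofFn_succ, List.ofFn_succ, List.prod_cons, List.prod_cons,
      List.prod_cons, ih _ _ fun i => hg i.succ]
    simp only [mul_assoc]
    rw [← mul_assoc (g 0), ← Subgroup.mem_center_iff.mp (hg 0), mul_assoc]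

/-- The decomposition theorem. -/
theorem decomp {q : ℕ} (hq : q.Prime) : ∀ (n : ℕ) (P : Type u) [Group P] [Finite P]
    [Group.IsNilpotent P], Nat.card P = n → ∀ (α β : MulAut P), α ^ q = 1 → β ^ q = 1 →
    Commute α β → ¬ q ∣ Nat.card P →
    (∀ x : P, ∃ f : Fin (q + 1) → P, (∀ i, line q α β i (f i) = f i) ∧ (List.ofFn f).prod = x) ∧
    (∀ Q : Subgroup P, (∀ x ∈ Q, α x ∈ Q) → (∀ x ∈ Q, β x ∈ Q) →
      Nat.card P * ∏ i, Nat.card (Q ⊓ fx (line q α β i) : Subgroup P) ≤
        Nat.card Q * ∏ i, Nat.card (fx (line q α β i))) := by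
  intro n
  induction n using Nat.strong_induction_on with
  | h n ih =>
    intro P _ _ _ hn α β hα hβ hc hcop
    classical
    rcases subsingleton_or_nontrivial P with hs | hs
    · refine ⟨fun x => ⟨fun _ => 1, fun i => map_one _, Subsingleton.elim _ _⟩, fun Q _ _ => ?_⟩
      have hX : ∀ X : Subgroup P, Nat.card X = 1 := fun X => Nat.card_unique
      simp [hX]
    set Z := Subgroup.center P
    have hZ : Z ≠ ⊥ := Group.IsNilpotent.center_ne_bot P
    have hlt : Nat.card (P ⧸ Z) < n := by
      rw [← hn, Z.card_eq_card_quotient_mul_card_subgroup]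
      exact lt_mul_of_one_lt_right Nat.card_pos
        (Finite.one_lt_card_iff_nontrivial.mpr ((Subgroup.nontrivial_iff_ne_bot Z).mpr hZ))
    obtain ⟨IH1, IH2⟩ := ih _ hlt (P ⧸ Z) rfl (quoCenter α) (quoCenter β)
      (by rw [← map_pow, hα, map_one]) (by rw [← map_pow, hβ, map_one])
      (hc.map quoCenter) (fun h => hcop (h.trans (Subgroup.card_quotient_dvd_card Z)))
    have hlp : ∀ i, line q α β i ^ q = 1 := line_pow hα hβ hc
    have hcopZ : ¬ q ∣ Nat.card Z := fun h => hcop (h.trans (Subgroup.card_subgroup_dvd_card Z))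
    open scoped IsMulCommutative in
    have hab : ∀ z ∈ Z, ∃ f : Fin (q + 1) → P, (∀ i, f i ∈ Z ∧ line q α β i (f i) = f i) ∧
        (List.ofFn f).prod = z := by
      intro z hz
      obtain ⟨f, hf1, hf2⟩ := exists_prod_of_comm (V := Z) hq (resCenter α) (resCenter β)
        (by rw [← map_pow, hα, map_one]) (by rw [← map_pow, hβ, map_one]) (hc.map resCenter)
        hcopZ ⟨z, hz⟩
      refine ⟨fun i => f i, fun i => ⟨(f i).2, ?_⟩, ?_⟩
      · have := hf1 i
        rw [← map_line] at this
        exact congrArg Subtype.val this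
      · have h1 := congrArg (fun y : Z => (y : P)) hf2
        rw [← List.prod_ofFn] at h1
        simpa [SubmonoidClass.coe_list_prod, List.map_ofFn, Function.comp_def] using h1
    refine ⟨fun x => ?_, fun Q hQα hQβ => ?_⟩
    · obtain ⟨fb, hfb1, hfb2⟩ := IH1 (x : P ⧸ Z)
      have hlift : ∀ i, ∃ c : P, line q α β i c = c ∧ (c : P ⧸ Z) = fb i := by
        intro i
        obtain ⟨y, hy⟩ := QuotientGroup.mk_surjective (fb i)
        obtain ⟨c, -, hc1, hc2⟩ := exists_fixed_lift (QuotientGroup.mk' Z) hq (line q α β i)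
          (quoCenter (line q α β i)) (fun x => rfl) (hlp i) hcop ⊤ (fun _ _ => trivial) y trivial
          (by rw [QuotientGroup.mk'_apply, hy, map_line, hfb1 i])
        exact ⟨c, hc1, hc2.trans hy⟩
      choose c hc1 hc2 using hlift
      have hz : (List.ofFn c).prod⁻¹ * x ∈ Z := by
        rw [← QuotientGroup.eq, ← hfb2]
        change QuotientGroup.mk' Z (List.ofFn c).prod = _
        rw [map_list_prod, List.map_ofFn]
        congr 2
        exact funext hc2
      obtain ⟨g, hg1, hg2⟩ := hab _ hz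
      refine ⟨fun i => c i * g i, fun i => ?_, ?_⟩
      · rw [map_mul, hc1, (hg1 i).2]
      · rw [prod_ofFn_mul_central c g fun i => (hg1 i).1, hg2, mul_inv_cancel_left]
    · have hQi := line_mapsTo q α β Q hQα hQβ
      have h2 := IH2 (Q.map (QuotientGroup.mk' Z))
        (by rintro _ ⟨x, hx, rfl⟩; exact ⟨α x, hQα x hx, rfl⟩)
        (by rintro _ ⟨x, hx, rfl⟩; exact ⟨β x, hQβ x hx, rfl⟩)
      simp_rw [← map_line] at h2
      -- the central part
      have h1 : Nat.card Z * ∏ i, Nat.card (Q ⊓ fx (line q α β i) ⊓ Z : Subgroup P) ≤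
          Nat.card (Q ⊓ Z : Subgroup P) * ∏ i, Nat.card (fx (line q α β i) ⊓ Z : Subgroup P) := by
        let W := (Π i, (fx (line q α β i) ⊓ Z : Subgroup P))
        let Φ : W →* Z :=
          { toFun := fun w => ⟨(List.ofFn fun i => (w i : P)).prod,
              Subgroup.list_prod_mem _ fun y hy => by
                rw [List.mem_ofFn] at hy
                obtain ⟨i, rfl⟩ := hy
                exact (w i).2.2⟩
            map_one' := Subtype.ext (by
              show (List.ofFn fun _ : Fin (q + 1) => (1 : P)).prod = 1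
              rw [List.ofFn_const, List.prod_replicate, one_pow])
            map_mul' := fun a b => Subtype.ext (by
              simp only [Pi.mul_apply, Subgroup.coe_mul]
              exact prod_ofFn_mul_central _ _ fun i => (b i).2.2) }
        have hsurj : Function.Surjective Φ := by
          rintro ⟨z, hz⟩
          obtain ⟨f, hf1, hf2⟩ := hab z hz
          exact ⟨fun i => ⟨f i, (hf1 i).2, (hf1 i).1⟩, Subtype.ext hf2⟩
        set K := (Q.subgroupOf Z).comap Φ
        have hK : ∏ i, Nat.card (Q ⊓ fx (line q α β i) ⊓ Z : Subgroup P) ≤ Nat.card K := by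
          rw [← Nat.card_pi]
          refine Nat.card_le_card_of_injective
            (fun w => (⟨fun i => ⟨(w i : P), (w i).2.1.2, (w i).2.2⟩, ?_⟩ : K)) ?_
          · rw [Subgroup.mem_comap, Subgroup.mem_subgroupOf]
            refine Subgroup.list_prod_mem _ fun y hy => ?_
            rw [List.mem_ofFn] at hy
            obtain ⟨i, rfl⟩ := hy
            exact (w i).2.1.1
          · intro a b hab
            funext i
            exact Subtype.ext (congrArg (fun k : K => ((k.1 i : (fx (line q α β i) ⊓ Z : Subgroup P)) : P)) hab)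
        have hidx : K.index = (Q.subgroupOf Z).index := Subgroup.index_comap_of_surjective _ hsurj
        have hW : ∏ i, Nat.card (fx (line q α β i) ⊓ Z : Subgroup P) = Nat.card K * K.index := by
          rw [Subgroup.card_mul_index, Nat.card_pi]
        have hQZ : Nat.card (Q ⊓ Z : Subgroup P) * (Q.subgroupOf Z).index = Nat.card Z := by
          rw [← (Q.subgroupOf Z).card_mul_index, ← Subgroup.inf_subgroupOf_right,
            Nat.card_congr (Subgroup.subgroupOfEquivOfLe (inf_le_right : Q ⊓ Z ≤ Z)).toEquiv]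
        rw [hW, hidx, ← hQZ, mul_assoc]
        refine Nat.mul_le_mul_left _ ?_
        rw [mul_comm (Nat.card K)]
        exact Nat.mul_le_mul_left _ hK
      have e : ∀ X : Subgroup P, Nat.card X =
          Nat.card (X ⊓ Z : Subgroup P) * Nat.card (X.map (QuotientGroup.mk' Z)) := fun X => by
        rw [card_eq_mul_map (QuotientGroup.mk' Z) X, QuotientGroup.ker_mk']
      have eP : Nat.card P = Nat.card Z * Nat.card (P ⧸ Z) := by
        rw [mul_comm]; exact Z.card_eq_card_quotient_mul_card_subgroup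
      have e1 : ∀ i, (Q ⊓ fx (line q α β i)).map (QuotientGroup.mk' Z) =
          Q.map (QuotientGroup.mk' Z) ⊓ fx (quoCenter (line q α β i)) := fun i =>
        map_inf_fx hq _ (hlp i) hcop Q (hQi i)
      have e2 : ∀ i, (fx (line q α β i)).map (QuotientGroup.mk' Z) =
          fx (quoCenter (line q α β i)) := fun i => by
        have h := map_inf_fx hq _ (hlp i) hcop ⊤ (fun _ _ => trivial)
        rwa [top_inf_eq, Subgroup.map_top_of_surjective _ (QuotientGroup.mk'_surjective Z),
          top_inf_eq] at h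
      rw [eP, e Q, Finset.prod_congr rfl fun i _ => e (Q ⊓ fx (line q α β i)),
        Finset.prod_congr rfl fun i _ => e (fx (line q α β i)), Finset.prod_mul_distrib,
        Finset.prod_mul_distrib]
      simp only [e1, e2]
      calc Nat.card Z * Nat.card (P ⧸ Z) * (_ * _)
          = (Nat.card Z * ∏ i, Nat.card (Q ⊓ fx (line q α β i) ⊓ Z : Subgroup P)) *
            (Nat.card (P ⧸ Z) * _) := by rw [mul_mul_mul_comm]
        _ ≤ _ := Nat.mul_le_mul h1 h2
        _ = _ := by rw [mul_mul_mul_comm]

end Cfsg.Lib.Coprime.RankTwo
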